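import Cfsg.Agent.Lib.Quadratic.Pair
import Cfsg.Agent.Lib.RootGroups.RankOne
import Cfsg.Agent.S5061

/-!
The subgroups `E(σ)` of a quadratic pair: two of them act unipotently or form a special rank one
pair; every one of them has an opposite conjugate.
-/

set_option autoImplicit false

namespace CfsgLib.Quadratic

open CfsgLib.RootGroups

variable {k : Type*} [Field k] {M : Type*} [AddCommGroup M] [Module k M]
  {G : Subgroup (LinearMap.GeneralLinearGroup k M)}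

variable (G) in
/-- `E (1 + s)`. -/
noncomputable abbrev esub (s : M →ₗ[k] M) : Subgroup (LinearMap.GeneralLinearGroup k M) :=
  Cfsg.sameActionSubgroup G (tt s)

theorem mul_apply' (a b : M →ₗ[k] M) (v : M) : (a * b) v = a (b v) := rfl

theorem range_conj (g : LinearMap.GeneralLinearGroup k M) (x : M →ₗ[k] M) :
    LinearMap.range (g.1 * x * g⁻¹.1) = (LinearMap.range x).map g.1 := by
  ext v
  constructor
  · rintro ⟨u, rfl⟩; exact ⟨_, ⟨g⁻¹.1 u, rfl⟩, rfl⟩
  · rintro ⟨_, ⟨u, rfl⟩, rfl⟩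
    refine ⟨g.1 u, ?_⟩
    show (g.1 * x * g⁻¹.1) (g.1 u) = g.1 (x u)
    rw [mul_apply', mul_apply', ← mul_apply' g⁻¹.1 g.1, Units.inv_mul]; rfl

theorem ker_conj (g : LinearMap.GeneralLinearGroup k M) (x : M →ₗ[k] M) :
    LinearMap.ker (g.1 * x * g⁻¹.1) = (LinearMap.ker x).comap g⁻¹.1 := by
  ext v
  simp only [LinearMap.mem_ker, Submodule.mem_comap, mul_apply']
  constructor
  · intro h
    have := congrArg g⁻¹.1 h
    rwa [map_zero, ← mul_apply' g⁻¹.1 g.1, Units.inv_mul] at this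
  · intro h; rw [h, map_zero]

theorem cls_conj_mem {g : LinearMap.GeneralLinearGroup k M} (hg : g ∈ G) {s x : M →ₗ[k] M}
    (hx : x ∈ cls G s) : g.1 * x * g⁻¹.1 ∈ cls G (g.1 * s * g⁻¹.1) := by
  refine ⟨hx.1.conj hg, ?_, ?_⟩
  · rw [ker_conj, ker_conj]; exact Submodule.comap_mono hx.2.1
  · rw [range_conj, range_conj, ker_conj]
    rintro _ ⟨u, hu, rfl⟩
    obtain ⟨h1, h2⟩ := hx.2.2 hu
    refine ⟨⟨u, h1, rfl⟩, ?_⟩
    show g⁻¹.1 (g.1 u) ∈ LinearMap.ker s
    rw [← mul_apply' g⁻¹.1 g.1, Units.inv_mul]; exact h2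

/-- `y s x = 0` depends only on kernels and ranges. -/
theorem mul_mul_eq_zero_iff (a b c : M →ₗ[k] M) :
    a * b * c = 0 ↔ (LinearMap.range c).map b ≤ LinearMap.ker a := by
  constructor
  · rintro h _ ⟨_, ⟨v, rfl⟩, rfl⟩
    exact LinearMap.congr_fun h v
  · intro h
    ext v
    exact h ⟨c v, ⟨v, rfl⟩, rfl⟩

theorem mid_mul_eq_zero_iff (a b : M →ₗ[k] M) :
    a * b * a = 0 ↔ LinearMap.range a ≤ (LinearMap.ker a).comap b := by
  rw [mul_mul_eq_zero_iff, Submodule.map_le_iff_le_comap]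

variable [FiniteDimensional k M]

theorem conjBy_esub {g : LinearMap.GeneralLinearGroup k M} (hg : g ∈ G) {s : M →ₗ[k] M}
    (hs : IsMin G s) : Cfsg.conjBy (esub G s) g = esub G (g.1 * s * g⁻¹.1) := by
  ext σ
  rw [mem_conjBy, mem_sameAction_iff hs, mem_sameAction_iff (hs.conj hg)]
  constructor
  · rintro ⟨x, hx, he⟩
    refine ⟨_, cls_conj_mem hg hx, ?_⟩
    rw [← tt_conj g hx.1.1, ← he]; group
  · rintro ⟨y, hy, rfl⟩
    have h1 := cls_conj_mem (inv_mem hg) hy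
    rw [inv_inv, show g⁻¹.1 * (g.1 * s * g⁻¹.1) * g.1 = (g⁻¹.1 * g.1) * s * (g⁻¹.1 * g.1) by
      noncomm_ring, Units.inv_mul, one_mul, mul_one] at h1
    refine ⟨_, h1, ?_⟩
    have := tt_conj g⁻¹ hy.1.1
    rwa [inv_inv] at this

theorem esub_comm {s : M →ₗ[k] M} (hs : IsMin G s) : IsMulCommutative (esub G s) := by
  refine ⟨⟨?_⟩⟩
  rintro ⟨a, ha⟩ ⟨b, hb⟩
  obtain ⟨x, hx, rfl⟩ := (mem_sameAction_iff hs).1 ha
  obtain ⟨y, hy, rfl⟩ := (mem_sameAction_iff hs).1 hb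
  refine Subtype.ext ?_
  show tt x * tt y = tt y * tt x
  rw [← tt_add hx.1.1 hy.1.1 (cls_mul hx hy) (cls_mul hy hx),
    ← tt_add hy.1.1 hx.1.1 (cls_mul hy hx) (cls_mul hx hy), add_comm]

omit [FiniteDimensional k M] in
theorem nilpotent_of_comm {H : Subgroup (LinearMap.GeneralLinearGroup k M)} (h : IsMulCommutative H) :
    Group.IsNilpotent H := by
  let : CommGroup H := { (inferInstance : Group H) with mul_comm := h.is_comm.comm }
  exact CommGroup.isNilpotent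

theorem esub_ne_bot {s : M →ₗ[k] M} (hs : IsMin G s) : esub G s ≠ ⊥ := by
  intro h
  have h1 : tt s ∈ esub G s := (mem_sameAction_iff hs).2 ⟨s, self_mem_cls hs.1, rfl⟩
  rw [h, Subgroup.mem_bot] at h1
  exact hs.2.1 (tt_inj hs.1.1 (mul_zero _) (by rw [h1, tt_zero]))

theorem esub_le {s : M →ₗ[k] M} (hs : IsMin G s) : esub G s ≤ G := fun σ hσ => by
  obtain ⟨x, hx, rfl⟩ := (mem_sameAction_iff hs).1 hσ
  exact hx.1.tt_mem

theorem tt_esub {s x : M →ₗ[k] M} (hs : IsMin G s) (hx : x ∈ cls G s) : tt x ∈ esub G s :=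
  (mem_sameAction_iff hs).2 ⟨x, hx, rfl⟩

theorem esub_eq_of_mem {s x : M →ₗ[k] M} (hs : IsMin G s) (hx : x ∈ cls G s) (hx0 : x ≠ 0) :
    esub G x = esub G s := by
  have hm := (cls_min hs hx hx0).1
  ext σ
  rw [mem_sameAction_iff hs, mem_sameAction_iff hm, cls_eq hs hx hx0]

theorem triple_zero_congr {s t x y x' : M →ₗ[k] M} (hst : s * t * s = 0) (hs : IsMin G s)
    (hx : x ∈ cls G s) (hx' : x' ∈ cls G s) (hy : y ∈ cls G t) (ht : IsMin G t)
    (h2 : (2 : k) ≠ 0) : x * y * x' = 0 := by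
  rcases eq_or_ne y 0 with rfl | hy0
  · simp
  rcases eq_or_ne x 0 with rfl | hx0
  · simp
  rcases eq_or_ne x' 0 with rfl | hx0'
  · simp
  obtain ⟨hmx, hkx, hrx⟩ := cls_min hs hx hx0
  obtain ⟨-, -, hrx'⟩ := cls_min hs hx' hx0'
  obtain ⟨hmy, hky, hry⟩ := cls_min ht hy hy0
  -- first replace `t` by `y` through the symmetric statement
  have h1 : t * s * t = 0 := tst_eq_zero h2 hs ht hst
  have h2' : y * s * y = 0 := by
    rw [mul_mul_eq_zero_iff, hry, hky]
    exact (mul_mul_eq_zero_iff _ _ _).1 h1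
  have h3 : s * y * s = 0 := tst_eq_zero h2 hmy hs h2'
  rw [mul_mul_eq_zero_iff, hrx', hkx]
  exact (mul_mul_eq_zero_iff _ _ _).1 h3

/-! ### A special rank one pair -/

/-- A partner pair. -/
structure Partner (G : Subgroup (LinearMap.GeneralLinearGroup k M)) (x y : M →ₗ[k] M) : Prop where
  minx : IsMin G x
  miny : IsMin G y
  xyx : x * y * x = x
  yxy : y * x * y = y

/-- The swap of a partner pair. -/
noncomputable def swp (x y : M →ₗ[k] M) : LinearMap.GeneralLinearGroup k M := tt x * tt (-y) * tt x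

omit [FiniteDimensional k M] in
theorem swp_val {x y : M →ₗ[k] M} (h : Partner G x y) :
    (swp x y).1 = 1 - (x * y + y * x) + (x - y) := by
  have hy : -y * -y = 0 := by rw [neg_mul_neg]; exact h.miny.1.1
  rw [swp, Units.val_mul, Units.val_mul, tt_val h.minx.1.1, tt_val hy]
  calc (1 + x) * (1 + -y) * (1 + x) = 1 + x + x - y - x * y - y * x + x * x - x * y * x := by noncomm_ring
    _ = _ := by rw [h.minx.1.1, h.xyx]; abel

omit [FiniteDimensional k M] in
theorem swp_mem {x y : M →ₗ[k] M} (h : Partner G x y) : swp x y ∈ G := by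
  have := (h.miny.1.smul (-1)).tt_mem
  rw [neg_one_smul] at this
  exact mul_mem (mul_mem h.minx.1.tt_mem this) h.minx.1.tt_mem

omit [FiniteDimensional k M] in
theorem swp_conj {x y : M →ₗ[k] M} (h : Partner G x y) :
    (swp x y).1 * x * (swp x y)⁻¹.1 = -y ∧ (swp x y).1 * y * (swp x y)⁻¹.1 = -x := by
  have hxx := h.minx.1.1
  have hyy := h.miny.1.1
  have e1 : (swp x y).1 * x = -y * (swp x y).1 := by
    rw [swp_val h]
    calc (1 - (x * y + y * x) + (x - y)) * x = x - x * y * x - y * (x * x) + x * x - y * x := by noncomm_ring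
      _ = -y + y * x * y + (y * y) * x - y * x + y * y := by rw [hxx, hyy, h.xyx, h.yxy]; simp
      _ = _ := by noncomm_ring
  have e2 : (swp x y).1 * y = -x * (swp x y).1 := by
    rw [swp_val h]
    calc (1 - (x * y + y * x) + (x - y)) * y = y - x * (y * y) - y * x * y + x * y - y * y := by noncomm_ring
      _ = -x + x * x * y + x * y * x - x * x + x * y := by rw [hxx, hyy, h.xyx, h.yxy]; simp
      _ = _ := by noncomm_ring
  exact ⟨by rw [e1, mul_assoc, Units.mul_inv, mul_one], by rw [e2, mul_assoc, Units.mul_inv, mul_one]⟩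

theorem esub_neg {x : M →ₗ[k] M} (hx : IsMin G x) : esub G (-x) = esub G x :=
  esub_eq_of_mem hx (neg_mem (self_mem_cls hx.1)) (neg_ne_zero.2 hx.2.1)

theorem Partner.swap {x y : M →ₗ[k] M} (h : Partner G x y) :
    Cfsg.conjBy (esub G x) (tt y)⁻¹ = Cfsg.conjBy (esub G y) (tt x)⁻¹ := by
  have hWx : Cfsg.conjBy (esub G x) (swp x y) = esub G y := by
    rw [conjBy_esub (swp_mem h) h.minx, (swp_conj h).1, esub_neg h.miny]
  conv_rhs => rw [← hWx]
  rw [conjBy_conjBy, show (tt x)⁻¹ * swp x y = (tt y)⁻¹ * tt x by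
    rw [swp, tt_neg h.miny.1.1]; group, ← conjBy_conjBy,
    conjBy_eq_self (tt_esub h.minx (self_mem_cls h.minx.1))]

theorem exists_partner' (h2 : (2 : k) ≠ 0) (h3 : Nat.card k ≠ 3) {s t : M →ₗ[k] M} (hs : IsMin G s)
    (ht : IsMin G t) (hst : s * t * s ≠ 0) {x : M →ₗ[k] M} (hx : x ∈ cls G s) (hx0 : x ≠ 0) :
    ∃ y, y ∈ cls G t ∧ y ≠ 0 ∧ Partner G x y := by
  obtain ⟨hmx, hkx, hrx⟩ := cls_min hs hx hx0
  have hxt : x * t * x ≠ 0 := by
    rw [ne_eq, mul_mul_eq_zero_iff, hkx, hrx, ← mul_mul_eq_zero_iff]; exact hst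
  obtain ⟨y, hy, e1, e2, -⟩ := exists_partner h2 h3 hmx ht hxt
  have hy0 : y ≠ 0 := fun e => hx0 (by rw [← e1, e]; simp)
  exact ⟨y, hy, hy0, hmx, (cls_min ht hy hy0).1, e1, e2⟩

theorem special_pair (h2 : (2 : k) ≠ 0) (h3 : Nat.card k ≠ 3) {s t : M →ₗ[k] M} (hs : IsMin G s)
    (ht : IsMin G t) (hst : s * t * s ≠ 0) :
    Cfsg.IsSpecialRankOnePair (esub G s) (esub G t) := by
  have hts : t * s * t ≠ 0 := fun h => hst (tst_eq_zero h2 ht hs h)
  have hcond : ∀ {u v : M →ₗ[k] M}, IsMin G u → IsMin G v → u * v * u ≠ 0 →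
      Cfsg.RankOneCondition (esub G u) (esub G v) := by
    intro u v hu hv huv a ha ha1
    obtain ⟨x, hx, rfl⟩ := (mem_sameAction_iff hu).1 ha
    have hx0 : x ≠ 0 := fun e => ha1 (by rw [e, tt_zero])
    obtain ⟨y, hy, hy0, hP⟩ := exists_partner' h2 h3 hu hv huv hx hx0
    refine ⟨tt y, tt_esub hv hy, fun e => hy0 (tt_inj hy.1.1 (mul_zero _) (by rw [e, tt_zero])), ?_⟩
    have := hP.swap
    rwa [esub_eq_of_mem hu hx hx0, esub_eq_of_mem hv hy hy0] at this
  have hne : esub G s ≠ esub G t := by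
    intro he
    obtain ⟨x, hx, hxs⟩ := (mem_sameAction_iff hs).1 (he.symm ▸ tt_esub ht (self_mem_cls ht.1))
    have := tt_inj ht.1.1 hx.1.1 hxs
    apply hst
    rw [this, cls_mul (self_mem_cls hs.1) hx, zero_mul]
  have hR : Cfsg.IsRankOnePair (esub G s) (esub G t) :=
    ⟨hne, nilpotent_of_comm (esub_comm hs), nilpotent_of_comm (esub_comm ht), hcond hs ht hst, hcond ht hs hts⟩
  refine ⟨hR, fun a ha ha1 b hb hb1 hconj => ?_⟩
  obtain ⟨x, hx, rfl⟩ := (mem_sameAction_iff hs).1 ha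
  have hx0 : x ≠ 0 := fun e => ha1 (by rw [e, tt_zero])
  obtain ⟨y, hy, hy0, hP⟩ := exists_partner' h2 h3 hs ht hst hx hx0
  have hsw := hP.swap
  rw [esub_eq_of_mem hs hx hx0, esub_eq_of_mem ht hy hy0] at hsw
  obtain rfl : b = tt y := rankOne_partner_unique hR hb (tt_esub ht hy) (hconj.trans hsw.symm)
  refine Units.ext ?_
  rw [← tt_neg hP.miny.1.1, ← tt_neg hx.1.1]
  simp only [Units.val_mul]
  rw [tt_val (show -x * -x = 0 by rw [neg_mul_neg]; exact hx.1.1),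
    tt_val (show -y * -y = 0 by rw [neg_mul_neg]; exact hP.miny.1.1), tt_val hx.1.1, tt_val hP.miny.1.1]
  calc (1 + -y) * (1 + x) * (1 + y) = 1 + x - y * x + x * y - y * x * y - y * y := by noncomm_ring
    _ = 1 - (y + (y * x - x * y) - x * y * x) + (-(x * x) + 0) := by
      rw [hP.yxy, hP.xyx, hP.miny.1.1, hx.1.1]; abel
    _ = _ := by noncomm_ring

/-! ### The unipotent case -/

theorem unipotent_of_zero (h2 : (2 : k) ≠ 0) {s t : M →ₗ[k] M} (hs : IsMin G s) (ht : IsMin G t)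
    (hst : s * t * s = 0) : Cfsg.IsUnipotentOn (esub G s ⊔ esub G t) := by
  set N := LinearMap.range s
  set N' := LinearMap.range t
  -- the flag `M ⊇ N + N' ⊇ (N ∩ ker t) + (N' ∩ ker s) ⊇ 0`
  set F1 := N ⊔ N'
  set F2 := (N ⊓ LinearMap.ker t) ⊔ (N' ⊓ LinearMap.ker s)
  let Good (x : M →ₗ[k] M) : Prop :=
    LinearMap.range x ≤ F1 ∧ F1.map x ≤ F2 ∧ F2.map x ≤ ⊥ ∧ F2 ≤ F1
  have hts := tst_eq_zero h2 hs ht hst
  have hF21 : F2 ≤ F1 := sup_le_sup inf_le_left inf_le_left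
  have hmul : ∀ {x y : M →ₗ[k] M}, Good x → Good y → Good (x + y + x * y) := by
    rintro x y ⟨x0, x1, x2, -⟩ ⟨y0, y1, y2, -⟩
    refine ⟨?_, ?_, ?_, hF21⟩
    · rintro _ ⟨v, rfl⟩
      exact add_mem (add_mem (x0 ⟨v, rfl⟩) (y0 ⟨v, rfl⟩)) (x0 ⟨y v, rfl⟩)
    · rintro _ ⟨v, hv, rfl⟩
      exact add_mem (add_mem (x1 ⟨v, hv, rfl⟩) (y1 ⟨v, hv, rfl⟩))
        (x1 ⟨y v, hF21 (y1 ⟨v, hv, rfl⟩), rfl⟩)
    · rintro _ ⟨v, hv, rfl⟩
      refine add_mem (add_mem (x2 ⟨v, hv, rfl⟩) (y2 ⟨v, hv, rfl⟩)) ?_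
      rw [mul_apply', (Submodule.mem_bot k).1 (y2 ⟨v, hv, rfl⟩), map_zero]
      exact zero_mem _
  let X : Subgroup (LinearMap.GeneralLinearGroup k M) :=
    { carrier := {g | Good (g.1 - 1) ∧ Good (g⁻¹.1 - 1)}
      one_mem' := by
        refine ⟨⟨?_, ?_, ?_, hF21⟩, ⟨?_, ?_, ?_, hF21⟩⟩ <;> simp
      mul_mem' := fun {g h} hg hh => by
        refine ⟨?_, ?_⟩
        · have := hmul hg.1 hh.1
          convert this using 1; rw [Units.val_mul]; noncomm_ring
        · have := hmul hh.2 hg.2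
          convert this using 1; rw [_root_.mul_inv_rev, Units.val_mul]; noncomm_ring
      inv_mem' := fun {g} hg => ⟨hg.2, by rw [inv_inv]; exact hg.1⟩ }
  have hgen : ∀ {u v : M →ₗ[k] M}, IsMin G u → IsMin G v → v * u * v = 0 →
      F1 = LinearMap.range u ⊔ LinearMap.range v →
      F2 = (LinearMap.range u ⊓ LinearMap.ker v) ⊔ (LinearMap.range v ⊓ LinearMap.ker u) →
      esub G u ≤ X := by
    intro u v hu hv hvu hF1 hF2
    have key : ∀ x ∈ cls G u, x ≠ 0 → Good x := by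
      intro x hx hx0
      obtain ⟨hmx, hkx, hrx⟩ := cls_min hu hx hx0
      refine ⟨?_, ?_, ?_, hF21⟩
      · rw [hF1, hrx]; exact le_sup_left
      · rw [hF1, hF2, Submodule.map_sup]
        refine sup_le ?_ ?_
        · rintro _ ⟨w, hw, rfl⟩
          rw [LinearMap.mem_ker.1 (hx.2.1 ((self_mem_cls hu.1).2.2 hw).2)]
          exact zero_mem _
        · rintro _ ⟨_, ⟨w, rfl⟩, rfl⟩
          refine Submodule.mem_sup_left ⟨hrx ▸ LinearMap.mem_range_self x _, ?_⟩
          exact LinearMap.congr_fun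
            (triple_zero_congr hvu hv (self_mem_cls hv.1) (self_mem_cls hv.1) hx hu h2) w
      · rw [hF2, Submodule.map_sup]
        refine sup_le ?_ ?_
        · rintro _ ⟨w, hw, rfl⟩
          rw [LinearMap.mem_ker.1 (hx.2.1 ((self_mem_cls hu.1).2.2 hw.1).2)]
          exact zero_mem _
        · rintro _ ⟨w, hw, rfl⟩
          rw [LinearMap.mem_ker.1 (hx.2.1 hw.2)]
          exact zero_mem _
    intro σ hσ
    obtain ⟨x, hx, rfl⟩ := (mem_sameAction_iff hu).1 hσ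
    rcases eq_or_ne x 0 with rfl | hx0
    · rw [tt_zero]; exact X.one_mem
    refine ⟨?_, ?_⟩
    · rw [tt_val hx.1.1, add_sub_cancel_left]; exact key x hx hx0
    · rw [tt_inv_val hx.1.1, sub_sub_cancel_left]
      exact key _ (neg_mem hx) (neg_ne_zero.2 hx0)
  have hle : esub G s ⊔ esub G t ≤ X :=
    sup_le (hgen hs ht hts rfl rfl)
      (hgen ht hs hst (sup_comm _ _) (sup_comm _ _))
  refine ⟨3, fun l hl hlen => ?_⟩
  match l, hlen with
  | [a, b, c], _ =>
    obtain ⟨a0, a1, a2, -⟩ := (hle (hl a (by simp))).1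
    obtain ⟨b0, b1, -, -⟩ := (hle (hl b (by simp))).1
    obtain ⟨c0, -, -, -⟩ := (hle (hl c (by simp))).1
    rw [Cfsg.Agent.S5061.prod_coe_eq]
    refine LinearMap.ext fun v => ?_
    simp only [List.map_cons, List.map_nil, List.prod_cons, List.prod_nil, mul_one, mul_apply']
    exact (Submodule.mem_bot k).1 (a2 ⟨_, b1 ⟨_, c0 ⟨v, rfl⟩, rfl⟩, rfl⟩)

/-! ### Opposite conjugates -/

omit [FiniteDimensional k M] in
theorem exists_fixed_of_unipotent {U : Subgroup (LinearMap.GeneralLinearGroup k M)}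
    (hU : Cfsg.IsUnipotentOn U) (hM : ∃ m : M, m ≠ 0) : Cfsg.fixedSubmodule U ≠ ⊥ := by
  intro hbot
  obtain ⟨n, hn⟩ := hU
  have : ∀ j : ℕ, j ≤ n → ∀ l : List (LinearMap.GeneralLinearGroup k M), (∀ g ∈ l, g ∈ U) →
      l.length = n - j →
      (l.map fun g : LinearMap.GeneralLinearGroup k M => (g : M →ₗ[k] M) - 1).prod = 0 := by
    intro j
    induction j with
    | zero =>
      intro _ l hl hlen
      exact (Cfsg.Agent.S5061.prod_coe_eq l).symm.trans (hn l hl (by simpa using hlen))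
    | succ j ih =>
      intro hj l hl hlen
      refine LinearMap.ext fun v => ?_
      have hmem : (l.map fun g : LinearMap.GeneralLinearGroup k M => (g : M →ₗ[k] M) - 1).prod v ∈
          Cfsg.fixedSubmodule U := by
        simp only [Cfsg.fixedSubmodule, Submodule.mem_iInf, LinearMap.mem_ker]
        intro g hg
        have := ih (by omega) (g :: l) (List.forall_mem_cons.mpr ⟨hg, hl⟩) (by simp [hlen]; omega)
        rw [List.map_cons, List.prod_cons] at this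
        exact LinearMap.congr_fun this v
      rw [hbot, Submodule.mem_bot] at hmem
      exact hmem
  have h0 := this n le_rfl [] (by simp) (by simp)
  obtain ⟨m, hm⟩ := hM
  exact hm (LinearMap.congr_fun h0 m)

theorem exists_opposite (h2 : (2 : k) ≠ 0) (hG : Cfsg.IsQuadraticPair G) {s : M →ₗ[k] M}
    (hs : IsMin G s) : ∃ g ∈ G, s * (g.1 * s * g⁻¹.1) * s ≠ 0 := by
  by_contra hcon
  push Not at hcon
  let W : Set (Subgroup (LinearMap.GeneralLinearGroup k M)) :=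
    {A | ∃ g ∈ G, A = esub G (g.1 * s * g⁻¹.1)}
  have hWW : ∀ A ∈ W, ∀ B ∈ W, Cfsg.IsUnipotentOn (A ⊔ B) := by
    rintro _ ⟨g, hg, rfl⟩ _ ⟨h, hh, rfl⟩
    refine unipotent_of_zero h2 (hs.conj hg) (hs.conj hh) ?_
    have := hcon (g⁻¹ * h) (mul_mem (inv_mem hg) hh)
    rw [Units.val_mul, _root_.mul_inv_rev, inv_inv, Units.val_mul] at this
    calc g.1 * s * g⁻¹.1 * (h.1 * s * h⁻¹.1) * (g.1 * s * g⁻¹.1)
        = g.1 * (s * (g⁻¹.1 * h.1 * s * (h⁻¹.1 * g.1)) * s) * g⁻¹.1 := by noncomm_ring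
      _ = 0 := by rw [this]; simp
  have hconj : ∀ A ∈ W, ∀ g ∈ G, Cfsg.conjBy A g ∈ W := by
    rintro _ ⟨h, hh, rfl⟩ g hg
    refine ⟨g * h, mul_mem hg hh, ?_⟩
    rw [conjBy_esub hg (hs.conj hh), Units.val_mul, _root_.mul_inv_rev, Units.val_mul]
    congr 1
  obtain ⟨hU, hnorm⟩ := Cfsg.Agent.S5061.result (G := G) (W := W)
    (by rintro _ ⟨g, hg, rfl⟩; exact esub_le (hs.conj hg)) hWW hconj
  set U := ⨆ A ∈ W, A
  have hfix : ∀ g ∈ G, ∀ v ∈ Cfsg.fixedSubmodule U, (g : M →ₗ[k] M) v ∈ Cfsg.fixedSubmodule U := by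
    intro g hg v hv
    simp only [Cfsg.fixedSubmodule, Submodule.mem_iInf, LinearMap.mem_ker, LinearMap.sub_apply,
      sub_eq_zero] at hv ⊢
    intro u hu
    have : g⁻¹ * u * g ∈ U := by
      have h1 := hnorm g hg
      rw [← h1, mem_conjBy] at hu
      exact hu
    have h2' := hv _ this
    rw [Units.val_mul, Units.val_mul, mul_apply', mul_apply'] at h2'
    have h3 := congrArg g.1 h2'
    rw [← mul_apply' g.1 g⁻¹.1, Units.mul_inv] at h3
    exact h3
  rcases hG.1.2 _ hfix with hbot | htop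
  · exact exists_fixed_of_unipotent hU hG.1.1 hbot
  · have hsU : tt s ∈ U := by
      refine Subgroup.mem_iSup_of_mem (esub G s) (Subgroup.mem_iSup_of_mem ?_ (tt_esub hs (self_mem_cls hs.1)))
      exact ⟨1, one_mem _, by simp⟩
    apply hs.2.1
    refine LinearMap.ext fun v => ?_
    have := (htop ▸ Submodule.mem_top : v ∈ Cfsg.fixedSubmodule U)
    simp only [Cfsg.fixedSubmodule, Submodule.mem_iInf, LinearMap.mem_ker] at this
    have h := this (tt s) hsU
    rw [tt_val hs.1.1, add_sub_cancel_left] at h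
    simpa using h

end CfsgLib.Quadratic
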