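import Cfsg.Agent.Lib.Quadratic.Basic

/-!
Pairs of least elements generating a unipotent group: their commutator is zero or least, with kernel
and range depending only on the two classes; one commuting pair makes the classes commute.
-/

set_option autoImplicit false

namespace CfsgLib.Quadratic

open Module

variable {k : Type*} [Field k] {M : Type*} [AddCommGroup M] [Module k M] [FiniteDimensional k M]
variable {G : Subgroup (LinearMap.GeneralLinearGroup k M)}

/-- The rank of `x * y` from the part of the range of `y` killed by `x`. -/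
theorem rk_mul_add (x y : M →ₗ[k] M) :
    rk (x * y) + finrank k ↥(LinearMap.range y ⊓ LinearMap.ker x) = rk y := by
  have h := (x.domRestrict (LinearMap.range y)).finrank_range_add_finrank_ker
  rw [LinearMap.range_domRestrict, LinearMap.ker_domRestrict,
    ← Submodule.finrank_map_subtype_eq, Submodule.map_comap_subtype] at h
  rw [rk, rk, Module.End.mul_eq_comp, LinearMap.range_comp]
  exact h

omit [FiniteDimensional k M] in
theorem range_mul_le_inf {x y : M →ₗ[k] M} (h : x * y * x = 0) :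
    LinearMap.range (y * x) ≤ LinearMap.range y ⊓ LinearMap.ker x := by
  refine le_inf (LinearMap.range_comp_le_range _ _) ?_
  rintro _ ⟨v, rfl⟩
  exact LinearMap.congr_fun h v

omit [FiniteDimensional k M] in
theorem range_sub_le (a b : M →ₗ[k] M) :
    LinearMap.range (a - b) ≤ LinearMap.range a ⊔ LinearMap.range b := by
  rintro _ ⟨v, rfl⟩
  exact sub_mem (Submodule.mem_sup_left ⟨v, rfl⟩) (Submodule.mem_sup_right ⟨v, rfl⟩)

theorem rk_sub_le (a b : M →ₗ[k] M) : rk (a - b) ≤ rk a + rk b :=
  (Submodule.finrank_mono (range_sub_le a b)).trans (Submodule.finrank_add_le_finrank_add_finrank _ _)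

theorem IsMin.rk_eq {x y : M →ₗ[k] M} (hx : IsMin G x) (hy : IsMin G y) : rk x = rk y :=
  le_antisymm (hx.2.2 y hy.1 hy.2.1) (hy.2.2 x hx.1 hx.2.1)

theorem rk_comm_le {x y : M →ₗ[k] M} (hxyx : x * y * x = 0) : rk (x * y - y * x) ≤ rk y := by
  calc rk (x * y - y * x) ≤ rk (x * y) + rk (y * x) := rk_sub_le _ _
    _ ≤ rk (x * y) + finrank k ↥(LinearMap.range y ⊓ LinearMap.ker x) :=
        Nat.add_le_add_left (Submodule.finrank_mono (range_mul_le_inf hxyx)) _
    _ = rk y := rk_mul_add x y

/-- A non-zero commutator of a unipotent pair is least. -/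
theorem IsMin.comm {x y : M →ₗ[k] M} (hx : IsMin G x) (hy : IsMin G y) (hxyx : x * y * x = 0)
    (hyxy : y * x * y = 0) (h : x * y - y * x ≠ 0) : IsMin G (x * y - y * x) :=
  hy.of_rk (hx.1.comm hy.1 hxyx hyxy) h (rk_comm_le hxyx)

theorem range_comm {x y : M →ₗ[k] M} (hx : IsMin G x) (hy : IsMin G y) (hxyx : x * y * x = 0)
    (hyxy : y * x * y = 0) (h : x * y - y * x ≠ 0) :
    LinearMap.range (x * y - y * x) =
      (LinearMap.range x ⊓ LinearMap.ker y) ⊔ (LinearMap.range y ⊓ LinearMap.ker x) := by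
  have hD := (IsMin.comm hx hy hxyx hyxy h).rk_eq hy
  refine Submodule.eq_of_le_of_finrank_le
    ((range_sub_le _ _).trans (sup_le_sup (range_mul_le_inf hyxy) (range_mul_le_inf hxyx))) ?_
  refine (Submodule.finrank_add_le_finrank_add_finrank _ _).trans ?_
  have h1 := rk_mul_add x y
  have h2 := rk_mul_add y x
  have h3 := rk_sub_le (x * y) (y * x)
  have h4 := hx.rk_eq hy
  show _ ≤ rk (x * y - y * x)
  omega

theorem ker_comm {x y : M →ₗ[k] M} (hx : IsMin G x) (hy : IsMin G y) (hxyx : x * y * x = 0)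
    (hyxy : y * x * y = 0) (h : x * y - y * x ≠ 0) :
    LinearMap.ker (x * y - y * x) =
      (LinearMap.ker y ⊔ LinearMap.range x) ⊓ (LinearMap.ker x ⊔ LinearMap.range y) := by
  have hD := (IsMin.comm hx hy hxyx hyxy h).rk_eq hy
  have h1 := rk_mul_add x y
  have h2 := rk_mul_add y x
  have h3 := rk_sub_le (x * y) (y * x)
  have h4 := hx.rk_eq hy
  have d1 := Submodule.finrank_sup_add_finrank_inf_eq (LinearMap.ker y) (LinearMap.range x)
  have d2 := Submodule.finrank_sup_add_finrank_inf_eq (LinearMap.ker x) (LinearMap.range y)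
  rw [inf_comm] at d1 d2
  have d3 := Submodule.finrank_sup_add_finrank_inf_eq (LinearMap.ker y ⊔ LinearMap.range x)
    (LinearMap.ker x ⊔ LinearMap.range y)
  have d4 := x.finrank_range_add_finrank_ker
  have d5 := y.finrank_range_add_finrank_ker
  have d6 := (x * y - y * x).finrank_range_add_finrank_ker
  have d7 := Submodule.finrank_le ((LinearMap.ker y ⊔ LinearMap.range x) ⊔
    (LinearMap.ker x ⊔ LinearMap.range y))
  have d8 : finrank k ↥(LinearMap.range x ⊓ LinearMap.ker y) + finrank k ↥(LinearMap.range y ⊓ LinearMap.ker x) ≤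
      rk y := by omega
  have hz : ∀ {a b : M →ₗ[k] M}, a * b * a = 0 → ∀ {v : M}, v ∈ LinearMap.ker b ⊔ LinearMap.range a →
      a (b v) = 0 := by
    intro a b hab v hv
    obtain ⟨p, hp, _, ⟨q, rfl⟩, rfl⟩ := Submodule.mem_sup.1 hv
    rw [map_add, LinearMap.mem_ker.1 hp, zero_add]
    exact LinearMap.congr_fun hab q
  refine (Submodule.eq_of_le_of_finrank_le ?_ ?_).symm
  · rintro v ⟨hv1, hv2⟩
    show x (y v) - y (x v) = 0
    rw [hz hxyx hv1, hz hyxy hv2, sub_zero]
  · simp only [rk] at *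
    omega

omit [FiniteDimensional k M] in
/-- Elements of a class are killed on both sides by whatever kills a member. -/
theorem cls_kill {s x a : M →ₗ[k] M} (hx : x ∈ cls G s) :
    (s * a = 0 → x * a = 0) ∧ (a * s = 0 → a * x = 0) := by
  refine ⟨fun h => LinearMap.ext fun v => LinearMap.mem_ker.1 (hx.2.1 (LinearMap.congr_fun h v)),
    fun h => LinearMap.ext fun v => ?_⟩
  obtain ⟨w, hw⟩ := (hx.2.2 ⟨v, rfl⟩).1
  show a (x v) = 0
  rw [← hw]
  exact LinearMap.congr_fun h w

/-- If `x` commutes with `y`, so does the whole class of `x`. -/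
theorem commute_cls (h2 : (2 : k) ≠ 0) {x y x' : M →ₗ[k] M} (hx : IsMin G x) (hy : IsMin G y)
    (hc : x * y = y * x) (hx' : x' ∈ cls G x) : x' * y = y * x' := by
  rcases eq_or_ne x' 0 with rfl | hx0
  · simp
  obtain ⟨hm, hk, hr⟩ := cls_min hx hx' hx0
  have hxyx : x * (y * x) = 0 := by rw [← hc, ← mul_assoc, hx.1.1, zero_mul]
  have hyxy : y * x * y = 0 := by rw [← hc, mul_assoc, hy.1.1, mul_zero]
  have h1 : x' * y * x' = 0 := by
    rw [mul_assoc]
    refine (cls_kill hx').1 ?_
    rw [← mul_assoc]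
    exact (cls_kill hx').2 (by rw [mul_assoc]; exact hxyx)
  have h3 := tst_eq_zero h2 hm hy h1
  have hle : LinearMap.range (x' * y - y * x') ≤ LinearMap.range x ⊓ LinearMap.ker y := by
    refine (range_sub_le _ _).trans (sup_le ?_ ?_)
    · rw [← hr]; exact range_mul_le_inf h3
    · rintro _ ⟨v, rfl⟩
      obtain ⟨w, hw⟩ := (hx'.2.2 ⟨v, rfl⟩).1
      show y (x' v) ∈ _
      rw [← hw, show y (x w) = x (y w) from LinearMap.congr_fun hc.symm w]
      exact ⟨⟨_, rfl⟩, LinearMap.congr_fun hyxy w⟩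
  by_contra hne
  have hd := (IsMin.comm hm hy h1 h3 (sub_ne_zero.2 hne)).rk_eq hx
  have h5 : LinearMap.range x ⊓ LinearMap.ker y = LinearMap.range x := by
    refine Submodule.eq_of_le_of_finrank_le inf_le_left ?_
    show rk x ≤ _
    rw [← hd]
    exact Submodule.finrank_mono hle
  have hyx : y * x = 0 := LinearMap.ext fun v => (h5.ge ⟨v, rfl⟩).2
  exact hne (by rw [(cls_kill hx').1 (hc.trans hyx), (cls_kill hx').2 hyx])

omit [FiniteDimensional k M] in
theorem commute_tt_iff {x y : M →ₗ[k] M} (hx : x * x = 0) (hy : y * y = 0) :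
    tt x * tt y = tt y * tt x ↔ x * y = y * x := by
  rw [Units.ext_iff, Units.val_mul, Units.val_mul, tt_val hx, tt_val hy]
  constructor
  · intro h
    calc x * y = (1 + x) * (1 + y) - 1 - x - y := by noncomm_ring
      _ = (1 + y) * (1 + x) - 1 - x - y := by rw [h]
      _ = y * x := by noncomm_ring
  · intro h
    calc (1 + x) * (1 + y) = 1 + x + y + x * y := by noncomm_ring
      _ = 1 + x + y + y * x := by rw [h]
      _ = _ := by noncomm_ring

/-- One commuting pair of non-trivial members makes two root groups commute. -/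
theorem commutator_eq_bot (h2 : (2 : k) ≠ 0) {s t x y : M →ₗ[k] M} (hs : IsMin G s)
    (ht : IsMin G t) (hx : x ∈ cls G s) (hx0 : x ≠ 0) (hy : y ∈ cls G t) (hy0 : y ≠ 0)
    (hc : x * y = y * x) :
    ⁅Cfsg.sameActionSubgroup G (tt s), Cfsg.sameActionSubgroup G (tt t)⁆ = ⊥ := by
  have hmx := (cls_min hs hx hx0).1
  have hmy := (cls_min ht hy hy0).1
  refine Subgroup.commutator_eq_bot_iff_le_centralizer.2 fun e he =>
    Subgroup.mem_centralizer_iff.2 fun f hf => ?_
  obtain ⟨a, ha, rfl⟩ := (mem_sameAction_iff hs).1 he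
  obtain ⟨b, hb, rfl⟩ := (mem_sameAction_iff ht).1 hf
  rw [commute_tt_iff hb.1.1 ha.1.1]
  rcases eq_or_ne a 0 with rfl | ha0
  · simp
  have h1 : a * y = y * a := commute_cls h2 hmx hmy hc (by rwa [cls_eq hs hx hx0])
  exact commute_cls h2 hmy (cls_min hs ha ha0).1 h1.symm (by rwa [cls_eq ht hy hy0])

/-- An element normalizing a root group centralizes a member of it. -/
theorem commute_of_normalizes (h2 : (2 : k) ≠ 0) {x t : M →ₗ[k] M} (hx : IsMin G x)
    (ht : IsMin G t) (h : (tt x).1 * t * (tt x)⁻¹.1 ∈ cls G t) : x * t = t * x := by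
  have hxt : ∀ v, x (t v) ∈ LinearMap.range t := by
    intro v
    have := (h.2.2 ⟨(tt x).1 v, rfl⟩).1
    rw [show ((tt x).1 * t * (tt x)⁻¹.1) ((tt x).1 v) = (tt x).1 (t v) by
      rw [Module.End.mul_apply, Module.End.mul_apply,
        show (tt x)⁻¹.1 ((tt x).1 v) = v from LinearMap.congr_fun (tt x).inv_mul v],
      tt_val hx.1.1, LinearMap.add_apply, Module.End.one_apply] at this
    simpa using sub_mem this (LinearMap.mem_range_self t v)
  have htxt : t * x * t = 0 := LinearMap.ext fun v => by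
    obtain ⟨w, hw⟩ := hxt v
    show t (x (t v)) = 0
    rw [← hw]; exact LinearMap.congr_fun ht.1.1 w
  have hxtx := tst_eq_zero h2 ht hx htxt
  have hD : x * t - t * x ∈ cls G t := by
    have := sub_mem h (self_mem_cls ht.1)
    rwa [conj_eq hx.1.1, hxtx, sub_zero, add_sub_cancel_left] at this
  by_contra hne
  obtain ⟨-, hk, hr⟩ := cls_min ht hD (sub_ne_zero.2 hne)
  have a1 : x * (x * t - t * x) = 0 := by
    rw [mul_sub, ← mul_assoc, ← mul_assoc, hx.1.1, hxtx, zero_mul, sub_zero]
  have a2 : (x * t - t * x) * x = 0 := by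
    rw [sub_mul, hxtx, mul_assoc t, hx.1.1, mul_zero, sub_zero]
  have b1 : t * x = 0 := LinearMap.ext fun v => LinearMap.mem_ker.1 (hk.le (LinearMap.congr_fun a2 v))
  have b2 : x * t = 0 := LinearMap.ext fun v => by
    obtain ⟨w, hw⟩ := hr.ge ⟨v, rfl⟩
    show x (t v) = 0
    rw [← hw]; exact LinearMap.congr_fun a1 w
  exact hne (b2.trans b1.symm)

omit [FiniteDimensional k M] in
theorem pow_eq_zero_of_unipotent {H : Subgroup (LinearMap.GeneralLinearGroup k M)}
    (hu : Cfsg.IsUnipotentOn H) {x y : M →ₗ[k] M} (hx : x * x = 0) (hy : y * y = 0)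
    (hxH : tt x ∈ H) (hyH : tt y ∈ H) : ∃ n, (x * y) ^ n = 0 := by
  obtain ⟨n, hn⟩ := hu
  have hn' : ∀ l : List (LinearMap.GeneralLinearGroup k M), (∀ g ∈ l, g ∈ H) → l.length = n →
      (l.map fun g : LinearMap.GeneralLinearGroup k M => g.1 - 1).prod = 0 := fun l h1 h2 => by
    simpa [List.flatMap, List.map_flatten, Function.comp_def] using hn l h1 h2
  refine ⟨n, ?_⟩
  have key : ∀ m, (((List.replicate m [tt x, tt y]).flatten).map
      fun g : LinearMap.GeneralLinearGroup k M => (g : M →ₗ[k] M) - 1).prod = (x * y) ^ m := by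
    intro m
    induction m with
    | zero => simp
    | succ m ih =>
      rw [List.replicate_succ, List.flatten_cons, List.map_append, List.prod_append, ih, pow_succ']
      simp [tt_val hx, tt_val hy]
  have hlen : ((List.replicate n [tt x, tt y]).flatten.take n).length = n := by
    simp [List.length_flatten]; omega
  rw [← key n, ← List.take_append_drop n (List.replicate n [tt x, tt y]).flatten, List.map_append,
    List.prod_append, hn' _ ?_ hlen, zero_mul]
  · intro g hg
    have hg' := List.mem_of_mem_take hg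
    simp only [List.mem_flatten, List.mem_replicate] at hg'
    obtain ⟨l, ⟨-, rfl⟩, hgl⟩ := hg'
    simp only [List.mem_cons, List.not_mem_nil, or_false] at hgl
    rcases hgl with rfl | rfl
    exacts [hxH, hyH]

/-- Root groups generating a unipotent group. -/
theorem sts_eq_zero_of_unipotent (h2 : (2 : k) ≠ 0) {H : Subgroup (LinearMap.GeneralLinearGroup k M)}
    (hu : Cfsg.IsUnipotentOn H) {x y : M →ₗ[k] M} (hx : IsMin G x) (hy : IsMin G y)
    (hxH : tt x ∈ H) (hyH : tt y ∈ H) : x * y * x = 0 ∧ y * x * y = 0 := by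
  obtain ⟨n, hn⟩ := pow_eq_zero_of_unipotent hu hx.1.1 hy.1.1 hxH hyH
  have h := sts_eq_zero h2 n hx hy (by rw [hn, zero_mul])
  exact ⟨h, tst_eq_zero h2 hx hy h⟩

theorem two_ne_zero_of_ringChar {k : Type*} [Field k] (h : ringChar k ≠ 2) : (2 : k) ≠ 0 :=
  Ring.two_ne_zero h

end CfsgLib.Quadratic
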