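import Mathlib
import Cfsg.Prelude.Def_RootSubgroups

/-!
Quadratic pairs in terms of endomorphisms: the scalar families `1 + c • x`, elements of least rank,
their classes, and the dichotomy for two of them.
-/

set_option autoImplicit false

namespace CfsgLib.Quadratic

variable {k : Type*} [Field k] {M : Type*} [AddCommGroup M] [Module k M]

open Classical in
/-- `1 + x` for `x` of square zero (and `1` otherwise). -/
noncomputable def tt (x : M →ₗ[k] M) : LinearMap.GeneralLinearGroup k M :=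
  if h : x * x = 0 then
    ⟨1 + x, 1 - x, by rw [mul_sub, mul_one, add_mul, one_mul, h, add_zero, add_sub_cancel_right],
      by rw [sub_mul, one_mul, mul_add, mul_one, h, add_zero, add_sub_cancel_right]⟩
  else 1

theorem tt_val {x : M →ₗ[k] M} (h : x * x = 0) : (tt x : M →ₗ[k] M) = 1 + x := by
  rw [tt, dif_pos h]

theorem tt_inv_val {x : M →ₗ[k] M} (h : x * x = 0) :
    ((tt x)⁻¹ : LinearMap.GeneralLinearGroup k M).1 = 1 - x := by
  rw [tt, dif_pos h]; rfl

theorem tt_zero : tt (0 : M →ₗ[k] M) = 1 :=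
  Units.ext (by rw [tt_val (mul_zero _), add_zero]; rfl)

theorem smul_sq {x : M →ₗ[k] M} (h : x * x = 0) (c : k) : (c • x) * (c • x) = 0 := by
  rw [smul_mul_smul_comm, h, smul_zero]

theorem add_sq {x y : M →ₗ[k] M} (hx : x * x = 0) (hy : y * y = 0) (hxy : x * y = 0)
    (hyx : y * x = 0) : (x + y) * (x + y) = 0 := by
  rw [add_mul, mul_add, mul_add, hx, hy, hxy, hyx, add_zero, add_zero]

theorem tt_add {x y : M →ₗ[k] M} (hx : x * x = 0) (hy : y * y = 0) (hxy : x * y = 0)
    (hyx : y * x = 0) : tt (x + y) = tt x * tt y := by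
  refine Units.ext ?_
  rw [Units.val_mul, tt_val hx, tt_val hy, tt_val (add_sq hx hy hxy hyx)]
  simp only [mul_add, add_mul, one_mul, mul_one, hxy, add_zero]
  abel

theorem tt_neg {x : M →ₗ[k] M} (hx : x * x = 0) : tt (-x) = (tt x)⁻¹ := by
  refine eq_inv_of_mul_eq_one_left ?_
  rw [← tt_add (by rwa [neg_mul_neg]) hx (by rw [neg_mul, hx, neg_zero]) (by rw [mul_neg, hx, neg_zero]),
    neg_add_cancel, tt_zero]

theorem tt_inj {x y : M →ₗ[k] M} (hx : x * x = 0) (hy : y * y = 0) (h : tt x = tt y) : x = y := by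
  have := congrArg (fun g : LinearMap.GeneralLinearGroup k M => (g : M →ₗ[k] M)) h
  simpa [tt_val hx, tt_val hy] using this

theorem conj_sq (g : LinearMap.GeneralLinearGroup k M) {x : M →ₗ[k] M} (hx : x * x = 0) :
    (g.1 * x * g⁻¹.1) * (g.1 * x * g⁻¹.1) = 0 := by
  rw [show (g.1 * x * g⁻¹.1) * (g.1 * x * g⁻¹.1) = g.1 * x * (g⁻¹.1 * g.1) * x * g⁻¹.1 by
    noncomm_ring, Units.inv_mul, mul_one, mul_assoc g.1 x x, hx, mul_zero, zero_mul]

theorem tt_conj (g : LinearMap.GeneralLinearGroup k M) {x : M →ₗ[k] M} (hx : x * x = 0) :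
    g * tt x * g⁻¹ = tt (g.1 * x * g⁻¹.1) := by
  refine Units.ext ?_
  rw [Units.val_mul, Units.val_mul, tt_val hx, tt_val (conj_sq g hx), mul_add, mul_one, add_mul,
    Units.mul_inv]

/-- The rank. -/
noncomputable def rk (x : M →ₗ[k] M) : ℕ := Module.finrank k (LinearMap.range x)

/-- The whole scalar family of `x` lies in `G`. -/
def Fam (G : Subgroup (LinearMap.GeneralLinearGroup k M)) (x : M →ₗ[k] M) : Prop :=
  x * x = 0 ∧ ∀ c : k, tt (c • x) ∈ G

/-- `x` is of least rank. -/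
def IsMin (G : Subgroup (LinearMap.GeneralLinearGroup k M)) (x : M →ₗ[k] M) : Prop :=
  Fam G x ∧ x ≠ 0 ∧ ∀ y, Fam G y → y ≠ 0 → rk x ≤ rk y

variable {G : Subgroup (LinearMap.GeneralLinearGroup k M)}

theorem Fam.tt_mem {x : M →ₗ[k] M} (h : Fam G x) : tt x ∈ G := by simpa using h.2 1

theorem Fam.zero : Fam G (0 : M →ₗ[k] M) :=
  ⟨mul_zero _, fun c => by rw [smul_zero, tt_zero]; exact one_mem _⟩

theorem Fam.smul {x : M →ₗ[k] M} (h : Fam G x) (c : k) : Fam G (c • x) :=
  ⟨smul_sq h.1 c, fun d => by rw [smul_smul]; exact h.2 _⟩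

theorem Fam.add {x y : M →ₗ[k] M} (hx : Fam G x) (hy : Fam G y) (hxy : x * y = 0) (hyx : y * x = 0) :
    Fam G (x + y) := by
  refine ⟨add_sq hx.1 hy.1 hxy hyx, fun c => ?_⟩
  rw [smul_add, tt_add (smul_sq hx.1 c) (smul_sq hy.1 c) (by rw [smul_mul_smul_comm, hxy, smul_zero])
    (by rw [smul_mul_smul_comm, hyx, smul_zero])]
  exact mul_mem (hx.2 c) (hy.2 c)

theorem Fam.conj {x : M →ₗ[k] M} (hx : Fam G x) {g : LinearMap.GeneralLinearGroup k M} (hg : g ∈ G) :
    Fam G (g.1 * x * g⁻¹.1) := by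
  refine ⟨conj_sq g hx.1, fun c => ?_⟩
  rw [← smul_mul_assoc, ← mul_smul_comm, ← tt_conj g (smul_sq hx.1 c)]
  exact mul_mem (mul_mem hg (hx.2 c)) (inv_mem hg)

theorem mem_scalarFamily_iff {x : M →ₗ[k] M} (hx : x * x = 0) {σ : LinearMap.GeneralLinearGroup k M} :
    σ ∈ Cfsg.scalarFamily (tt x) ↔ ∃ c : k, σ = tt (c • x) := by
  simp only [Cfsg.scalarFamily, Set.mem_ofPred_eq, tt_val hx, add_sub_cancel_left]
  refine exists_congr fun c => ⟨fun h => Units.ext (by rw [h, tt_val (smul_sq hx c)]), fun h => ?_⟩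
  rw [h, tt_val (smul_sq hx c)]

theorem mem_quadratic_iff {σ : LinearMap.GeneralLinearGroup k M} :
    σ ∈ Cfsg.quadraticElements G ↔ ∃ x, Fam G x ∧ x ≠ 0 ∧ σ = tt x := by
  constructor
  · rintro ⟨-, ⟨h1, h2⟩, h3⟩
    have e : σ = tt ((σ : M →ₗ[k] M) - 1) := Units.ext (by rw [tt_val h1, add_sub_cancel])
    refine ⟨_, ⟨h1, fun c => h3 ?_⟩, h2, e⟩
    show ∃ d : k, _
    exact ⟨c, by rw [tt_val (smul_sq h1 c)]⟩
  · rintro ⟨x, hx, hx0, rfl⟩
    refine ⟨hx.tt_mem, ⟨?_, ?_⟩, fun σ hσ => ?_⟩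
    · rw [tt_val hx.1, add_sub_cancel_left, hx.1]
    · rw [tt_val hx.1, add_sub_cancel_left]; exact hx0
    · obtain ⟨c, rfl⟩ := (mem_scalarFamily_iff hx.1).1 hσ
      exact hx.2 c

theorem commutatorRank_tt {x : M →ₗ[k] M} (hx : x * x = 0) : Cfsg.commutatorRank (tt x) = rk x := by
  rw [Cfsg.commutatorRank, tt_val hx, add_sub_cancel_left]; rfl

theorem mem_minimal_iff {σ : LinearMap.GeneralLinearGroup k M} :
    σ ∈ Cfsg.minimalQuadraticElements G ↔ ∃ x, IsMin G x ∧ σ = tt x := by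
  constructor
  · rintro ⟨h, hmin⟩
    obtain ⟨x, hx, hx0, rfl⟩ := mem_quadratic_iff.1 h
    refine ⟨x, ⟨hx, hx0, fun y hy hy0 => ?_⟩, rfl⟩
    have := hmin _ (mem_quadratic_iff.2 ⟨y, hy, hy0, rfl⟩)
    rwa [commutatorRank_tt hx.1, commutatorRank_tt hy.1] at this
  · rintro ⟨x, ⟨hx, hx0, hmin⟩, rfl⟩
    refine ⟨mem_quadratic_iff.2 ⟨x, hx, hx0, rfl⟩, fun τ hτ => ?_⟩
    obtain ⟨y, hy, hy0, rfl⟩ := mem_quadratic_iff.1 hτ
    rw [commutatorRank_tt hx.1, commutatorRank_tt hy.1]
    exact hmin y hy hy0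

section Rank

variable [FiniteDimensional k M]

theorem rk_mul_le_left (x y : M →ₗ[k] M) : rk (x * y) ≤ rk x :=
  Submodule.finrank_mono (LinearMap.range_comp_le_range y x)

theorem rk_mul_le_right (x y : M →ₗ[k] M) : rk (x * y) ≤ rk y := by
  rw [rk, Module.End.mul_eq_comp, LinearMap.range_comp]
  exact Submodule.finrank_map_le x _

theorem rk_conj (g : LinearMap.GeneralLinearGroup k M) (x : M →ₗ[k] M) :
    rk (g.1 * x * g⁻¹.1) = rk x := by
  refine le_antisymm ((rk_mul_le_left _ _).trans (rk_mul_le_right _ _)) ?_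
  calc rk x = rk (g⁻¹.1 * (g.1 * x * g⁻¹.1) * g.1) := by
        rw [show g⁻¹.1 * (g.1 * x * g⁻¹.1) * g.1 = (g⁻¹.1 * g.1) * x * (g⁻¹.1 * g.1) by noncomm_ring,
          Units.inv_mul, one_mul, mul_one]
    _ ≤ _ := (rk_mul_le_left _ _).trans (rk_mul_le_right _ _)

theorem IsMin.conj {x : M →ₗ[k] M} (hx : IsMin G x) {g : LinearMap.GeneralLinearGroup k M}
    (hg : g ∈ G) : IsMin G (g.1 * x * g⁻¹.1) := by
  refine ⟨hx.1.conj hg, fun e => hx.2.1 ?_, fun y hy hy0 => by rw [rk_conj]; exact hx.2.2 y hy hy0⟩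
  have := congrArg (fun z => g⁻¹.1 * z * g.1) e
  simpa [← mul_assoc, mul_assoc x] using this

theorem IsMin.of_rk {x y : M →ₗ[k] M} (hx : IsMin G x) (hy : Fam G y) (hy0 : y ≠ 0)
    (h : rk y ≤ rk x) : IsMin G y :=
  ⟨hy, hy0, fun z hz hz0 => h.trans (hx.2.2 z hz hz0)⟩

theorem range_eq_of_min {x y : M →ₗ[k] M} (hx : IsMin G x) (hy : Fam G y) (hy0 : y ≠ 0)
    (h : LinearMap.range y ≤ LinearMap.range x) : LinearMap.range y = LinearMap.range x :=
  Submodule.eq_of_le_of_finrank_le h (hx.2.2 y hy hy0)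

theorem ker_eq_of_min {x y : M →ₗ[k] M} (hx : IsMin G x) (hy : Fam G y) (hy0 : y ≠ 0)
    (h : LinearMap.ker x ≤ LinearMap.ker y) : LinearMap.ker y = LinearMap.ker x := by
  refine (Submodule.eq_of_le_of_finrank_le h ?_).symm
  have h1 := x.finrank_range_add_finrank_ker
  have h2 := y.finrank_range_add_finrank_ker
  have h3 := hx.2.2 y hy hy0
  simp only [rk] at h3
  omega

end Rank

/-! ### Classes -/

variable (G) in
/-- The members of the scalar families with at most the kernel and range of `s`. -/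
def cls (s : M →ₗ[k] M) : Submodule k (M →ₗ[k] M) where
  carrier := {x | Fam G x ∧ LinearMap.ker s ≤ LinearMap.ker x ∧
    LinearMap.range x ≤ LinearMap.range s ⊓ LinearMap.ker s}
  add_mem' := by
    rintro x y ⟨hx, hxk, hxr⟩ ⟨hy, hyk, hyr⟩
    have z : ∀ {a b : M →ₗ[k] M}, LinearMap.ker s ≤ LinearMap.ker a →
        LinearMap.range b ≤ LinearMap.range s ⊓ LinearMap.ker s → a * b = 0 := fun ha hb =>
      LinearMap.ext fun v => LinearMap.mem_ker.1 (ha (hb ⟨v, rfl⟩).2)
    refine ⟨hx.add hy (z hxk hyr) (z hyk hxr), fun v hv => ?_, ?_⟩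
    · rw [LinearMap.mem_ker, LinearMap.add_apply, LinearMap.mem_ker.1 (hxk hv),
        LinearMap.mem_ker.1 (hyk hv), add_zero]
    · rintro _ ⟨v, rfl⟩
      exact add_mem (hxr ⟨v, rfl⟩) (hyr ⟨v, rfl⟩)
  zero_mem' := ⟨Fam.zero, by simp, by simp⟩
  smul_mem' := by
    rintro c x ⟨hx, hxk, hxr⟩
    refine ⟨hx.smul c, fun v hv => ?_, ?_⟩
    · rw [LinearMap.mem_ker, LinearMap.smul_apply, LinearMap.mem_ker.1 (hxk hv), smul_zero]
    · rintro _ ⟨v, rfl⟩
      exact Submodule.smul_mem _ c (hxr ⟨v, rfl⟩)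

theorem cls_mul {s x y : M →ₗ[k] M} (hx : x ∈ cls G s) (hy : y ∈ cls G s) : x * y = 0 :=
  LinearMap.ext fun v => LinearMap.mem_ker.1 (hx.2.1 (hy.2.2 ⟨v, rfl⟩).2)

theorem self_mem_cls {s : M →ₗ[k] M} (hs : Fam G s) : s ∈ cls G s :=
  ⟨hs, le_rfl, le_inf le_rfl (by
    rintro _ ⟨v, rfl⟩
    exact LinearMap.congr_fun hs.1 v)⟩

variable [FiniteDimensional k M]

theorem cls_min {s x : M →ₗ[k] M} (hs : IsMin G s) (hx : x ∈ cls G s) (hx0 : x ≠ 0) :
    IsMin G x ∧ LinearMap.ker x = LinearMap.ker s ∧ LinearMap.range x = LinearMap.range s := by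
  have hr := range_eq_of_min hs hx.1 hx0 (hx.2.2.trans inf_le_left)
  exact ⟨hs.of_rk hx.1 hx0 (le_of_eq (by rw [rk, rk, hr])), ker_eq_of_min hs hx.1 hx0 hx.2.1, hr⟩

theorem cls_eq {s x : M →ₗ[k] M} (hs : IsMin G s) (hx : x ∈ cls G s) (hx0 : x ≠ 0) :
    cls G x = cls G s := by
  obtain ⟨-, hk, hr⟩ := cls_min hs hx hx0
  ext y
  show _ ∧ _ ↔ _ ∧ _
  rw [hk, hr]

theorem sameActionClass_eq {s : M →ₗ[k] M} (hs : IsMin G s) :
    Cfsg.sameActionClass G (tt s) = tt '' {x | x ∈ cls G s ∧ x ≠ 0} := by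
  ext σ
  constructor
  · rintro ⟨hσ, hk, hr⟩
    obtain ⟨x, hx, rfl⟩ := mem_minimal_iff.1 hσ
    simp only [tt_val hx.1.1, tt_val hs.1.1, add_sub_cancel_left] at hk hr
    refine ⟨x, ⟨⟨hx.1, hk.symm.le, le_inf hr.le ?_⟩, hx.2.1⟩, rfl⟩
    rintro _ ⟨v, rfl⟩
    rw [← hk]; exact LinearMap.congr_fun hx.1.1 v
  · rintro ⟨x, ⟨hx, hx0⟩, rfl⟩
    obtain ⟨hm, hk, hr⟩ := cls_min hs hx hx0
    refine ⟨mem_minimal_iff.2 ⟨x, hm, rfl⟩, ?_, ?_⟩ <;>
      simp [tt_val hx.1.1, tt_val hs.1.1, hk, hr]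

theorem mem_sameAction_iff {s : M →ₗ[k] M} (hs : IsMin G s) {g : LinearMap.GeneralLinearGroup k M} :
    g ∈ Cfsg.sameActionSubgroup G (tt s) ↔ ∃ x ∈ cls G s, g = tt x := by
  constructor
  · intro h
    let S : Subgroup (LinearMap.GeneralLinearGroup k M) :=
      { carrier := {g | ∃ x ∈ cls G s, g = tt x}
        mul_mem' := by
          rintro _ _ ⟨x, hx, rfl⟩ ⟨y, hy, rfl⟩
          exact ⟨x + y, add_mem hx hy, (tt_add hx.1.1 hy.1.1 (cls_mul hx hy) (cls_mul hy hx)).symm⟩
        one_mem' := ⟨0, zero_mem _, tt_zero.symm⟩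
        inv_mem' := by
          rintro _ ⟨x, hx, rfl⟩
          exact ⟨-x, neg_mem hx, (tt_neg hx.1.1).symm⟩ }
    have hle : Cfsg.sameActionSubgroup G (tt s) ≤ S := by
      rw [Cfsg.sameActionSubgroup, sameActionClass_eq hs, Subgroup.closure_le]
      rintro _ ⟨x, hx, rfl⟩
      exact ⟨x, hx.1, rfl⟩
    exact hle h
  · rintro ⟨x, hx, rfl⟩
    rcases eq_or_ne x 0 with rfl | hx0
    · rw [tt_zero]; exact one_mem _
    · exact Subgroup.subset_closure (by rw [sameActionClass_eq hs]; exact ⟨x, ⟨hx, hx0⟩, rfl⟩)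

theorem mem_rootSubgroups_iff {A : Subgroup (LinearMap.GeneralLinearGroup k M)} :
    A ∈ Cfsg.quadraticRootSubgroups G ↔
      ∃ s, IsMin G s ∧ A = Cfsg.sameActionSubgroup G (tt s) := by
  constructor
  · rintro ⟨σ, hσ, rfl⟩
    obtain ⟨s, hs, rfl⟩ := mem_minimal_iff.1 hσ
    exact ⟨s, hs, rfl⟩
  · rintro ⟨s, hs, rfl⟩
    exact ⟨_, mem_minimal_iff.2 ⟨s, hs, rfl⟩, rfl⟩

/-! ### Unipotent pairs -/

omit [FiniteDimensional k M] in
theorem comm_sq {a b : M →ₗ[k] M} (ha : a * a = 0) (hb : b * b = 0) (haba : a * b * a = 0)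
    (hbab : b * a * b = 0) : (a * b - b * a) * (a * b - b * a) = 0 := by
  calc (a * b - b * a) * (a * b - b * a)
      = (a * b * a) * b - a * (b * b) * a - b * (a * a) * b + (b * a * b) * a := by noncomm_ring
    _ = 0 := by simp [haba, hbab, ha, hb]

omit [FiniteDimensional k M] in
theorem comm_tt {a b : M →ₗ[k] M} (ha : a * a = 0) (hb : b * b = 0) (haba : a * b * a = 0)
    (hbab : b * a * b = 0) :
    tt a * tt b * (tt a)⁻¹ * (tt b)⁻¹ = tt (a * b - b * a) := by
  refine Units.ext ?_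
  rw [Units.val_mul, Units.val_mul, Units.val_mul, tt_inv_val ha, tt_inv_val hb, tt_val ha, tt_val hb,
    tt_val (comm_sq ha hb haba hbab)]
  calc (1 + a) * (1 + b) * (1 - a) * (1 - b)
      = 1 + (a * b - b * a) - a * a * (1 - b) - (a * b * a) * (1 - b) + b * a * b - b * b
          - a * (b * b) := by noncomm_ring
    _ = _ := by simp [haba, hbab, ha, hb]

omit [FiniteDimensional k M] in
theorem Fam.comm {a b : M →ₗ[k] M} (ha : Fam G a) (hb : Fam G b) (haba : a * b * a = 0)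
    (hbab : b * a * b = 0) : Fam G (a * b - b * a) := by
  refine ⟨comm_sq ha.1 hb.1 haba hbab, fun c => ?_⟩
  rw [smul_sub, ← smul_mul_assoc, ← mul_smul_comm, ← comm_tt (smul_sq ha.1 c) hb.1
    (by simp [smul_mul_assoc, mul_smul_comm, haba]) (by simp [smul_mul_assoc, mul_smul_comm, hbab])]
  exact mul_mem (mul_mem (mul_mem (ha.2 c) hb.tt_mem) (inv_mem (ha.2 c))) (inv_mem hb.tt_mem)

omit [FiniteDimensional k M] in
theorem conj_eq {s t : M →ₗ[k] M} (ht : t * t = 0) :
    (tt t).1 * s * ((tt t)⁻¹ : LinearMap.GeneralLinearGroup k M).1 = s + (t * s - s * t) - t * s * t := by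
  rw [tt_inv_val ht, tt_val ht]; noncomm_ring

/-- `(s t)ⁿ s = 0` forces `s t s = 0`. -/
theorem sts_eq_zero (h2 : (2 : k) ≠ 0) : ∀ (n : ℕ) {s t : M →ₗ[k] M}, IsMin G s → IsMin G t →
    (s * t) ^ n * s = 0 → s * t * s = 0 := by
  intro n
  induction n using Nat.strong_induction_on with
  | _ n ih =>
    intro s t hs ht hn
    have mono : ∀ {i : ℕ}, n ≤ i → (s * t) ^ i * s = 0 := by
      intro i hi
      obtain ⟨d, rfl⟩ := Nat.exists_eq_add_of_le hi
      induction d with
      | zero => simpa using hn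
      | succ d ihd =>
        rw [show n + (d + 1) = (n + d) + 1 by ring, pow_succ', mul_assoc, ihd (by omega), mul_zero]
    rcases Nat.lt_or_ge n 2 with hn2 | hn2
    · simpa using mono (i := 1) (by omega)
    have ss := hs.1.1
    have tt' := ht.1.1
    -- the two conjugates of `s` under `t`
    have key : ∀ u : M →ₗ[k] M, IsMin G u → s * u * s = -((s * t) ^ 2 * s) → s * u * s = 0 := by
      intro u hu hus
      refine ih ((n + 1) / 2) (by omega) hs hu ?_
      have : ∀ j : ℕ, (s * u) ^ j * s = (-1 : k) ^ j • ((s * t) ^ (2 * j) * s) := by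
        intro j
        induction j with
        | zero => simp
        | succ j ihj =>
          rw [pow_succ (s * u), mul_assoc, hus, mul_neg, show 2 * (j + 1) = 2 * j + 2 by ring,
            pow_add (s * t) (2 * j) 2, pow_two, pow_succ (-1 : k)]
          rw [show (s * u) ^ j * (s * t * (s * t) * s) = ((s * u) ^ j * s) * (t * s * t * s) by noncomm_ring,
            ihj, smul_mul_assoc]
          rw [mul_neg_one, neg_smul]
          congr 2
      rw [this, mono (by omega), smul_zero]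
    have hgt : tt t ∈ G := ht.1.tt_mem
    have hmx : IsMin G (s + (t * s - s * t) - t * s * t) := by
      have := hs.conj hgt
      rwa [conj_eq tt'] at this
    have hmy : IsMin G (s - (t * s - s * t) - t * s * t) := by
      have := hs.conj (inv_mem hgt)
      rw [← tt_neg tt', conj_eq (by rwa [neg_mul_neg])] at this
      convert this using 1
      noncomm_ring
    set x := s + (t * s - s * t) - t * s * t with hx
    set y := s - (t * s - s * t) - t * s * t with hy
    have hxs : s * x * s = -((s * t) ^ 2 * s) := by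
      rw [hx, pow_two]
      calc s * (s + (t * s - s * t) - t * s * t) * s
          = (s * s) * s + s * t * (s * s) - (s * s) * t * s - s * t * s * t * s := by noncomm_ring
        _ = _ := by simp [ss]; noncomm_ring
    have hys : s * y * s = -((s * t) ^ 2 * s) := by
      rw [hy, pow_two]
      calc s * (s - (t * s - s * t) - t * s * t) * s
          = (s * s) * s - s * t * (s * s) + (s * s) * t * s - s * t * s * t * s := by noncomm_ring
        _ = _ := by simp [ss]; noncomm_ring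
    have hx0 := key x hmx hxs
    have hy0 := key y hmy hys
    have h5 : s * t * s * t * s = 0 := by
      have e := hx0
      rw [hxs, neg_eq_zero, pow_two] at e
      rw [← e]; noncomm_ring
    have hT : ∀ (g : LinearMap.GeneralLinearGroup k M) (a b : M →ₗ[k] M), b = g.1 * s * g⁻¹.1 →
        a = g⁻¹.1 * s * g.1 → s * a * s = 0 → b * s * b = 0 := by
      intro g a b hb ha h0
      rw [hb, show g.1 * s * g⁻¹.1 * s * (g.1 * s * g⁻¹.1) = g.1 * (s * (g⁻¹.1 * s * g.1) * s) * g⁻¹.1 by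
        noncomm_ring, ← ha, h0, mul_zero, zero_mul]
    have ex : x = (tt t).1 * s * (tt t)⁻¹.1 := by rw [conj_eq tt', hx]
    have ey : y = (tt t)⁻¹.1 * s * (tt t).1 := by
      rw [tt_inv_val tt', tt_val tt', hy]; noncomm_ring
    have hxsx : x * s * x = 0 := hT (tt t) y x ex ey hy0
    have hysy : y * s * y = 0 := hT (tt t)⁻¹ x y (by rw [ey, inv_inv]) (by rw [ex, inv_inv]) hx0
    have hA := hs.1.comm hmx.1 hx0 hxsx
    have hB := hs.1.comm hmy.1 hy0 hysy
    set D := s * t * s * t - t * s * t * s with hD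
    have eA : s * x - x * s = 2 • (s * t * s) - D := by
      rw [hx, hD]
      calc s * (s + (t * s - s * t) - t * s * t) - (s + (t * s - s * t) - t * s * t) * s
          = 2 • (s * t * s) - (s * t * s * t - t * s * t * s) - (s * s) * t - t * (s * s) := by noncomm_ring
        _ = _ := by simp [ss]
    have eB : s * y - y * s = -(2 • (s * t * s)) - D := by
      rw [hy, hD]
      calc s * (s - (t * s - s * t) - t * s * t) - (s - (t * s - s * t) - t * s * t) * s
          = -(2 • (s * t * s)) - (s * t * s * t - t * s * t * s) + (s * s) * t + t * (s * s) := by noncomm_ring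
        _ = _ := by simp [ss]
    set P := s * t * s with hP
    have hPP : P * P = 0 := by
      rw [hP, show s * t * s * (s * t * s) = s * t * (s * s) * (t * s) by noncomm_ring, ss]; simp
    have hPD : P * D = 0 := by
      rw [hP, hD, show s * t * s * (s * t * s * t - t * s * t * s) =
        s * t * (s * s) * (t * s * t) - (s * t * s * t * s) * (t * s) by noncomm_ring, ss, h5]; simp
    have hDP : D * P = 0 := by
      rw [hP, hD, show (s * t * s * t - t * s * t * s) * (s * t * s) =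
        (s * t * s * t * s) * (t * s) - t * s * t * (s * s) * (t * s) by noncomm_ring, ss, h5]; simp
    have hDD : D * D = 0 := by
      rw [hD, show (s * t * s * t - t * s * t * s) * (s * t * s * t - t * s * t * s) =
        (s * t * s * t * s) * (t * s * t) - s * t * s * (t * t) * (s * t * s)
          - t * s * t * (s * s) * (t * s * t) + t * s * t * (s * t * s * (t * t) * 0 + 1 * (s * t * s * t * s)) - 0 by
        noncomm_ring, ss, h5, tt']; simp
    rw [eA] at hA
    rw [eB] at hB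
    have hB' : Fam G (2 • P + D) := by
      have := hB.smul (-1)
      rwa [neg_one_smul, neg_sub, sub_neg_eq_add, add_comm] at this
    have h4 := hA.add hB' (by
        simp [two_nsmul, sub_mul, mul_add, add_mul, hPP, hPD, hDP, hDD, two_mul])
      (by simp [two_nsmul, add_mul, mul_sub, mul_add, hPP, hPD, hDP, hDD, two_mul])
    have hFam : Fam G P := by
      have e : P = (4 : k)⁻¹ • (2 • P - D + (2 • P + D)) := by
        rw [sub_add_add_cancel, ← add_smul, ← Nat.cast_smul_eq_nsmul k, smul_smul]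
        norm_num
        rw [inv_mul_cancel₀ (by rw [show (4 : k) = 2 * 2 by norm_num]; exact mul_ne_zero h2 h2), one_smul]
      rw [e]
      exact h4.smul _
    by_contra hP0
    have hr := range_eq_of_min hs hFam hP0 (by
      rw [hP, mul_assoc]; exact LinearMap.range_comp_le_range _ _)
    apply hP0
    ext v
    obtain ⟨w, hw⟩ : s v ∈ LinearMap.range P := hr.symm ▸ LinearMap.mem_range_self s v
    show s (t (s v)) = 0
    rw [← hw, hP]
    exact LinearMap.congr_fun (show s * (t * (s * t * s)) = 0 by rw [← h5]; noncomm_ring) w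

/-- Symmetry: `s t s = 0` iff `t s t = 0`. -/
theorem tst_eq_zero (h2 : (2 : k) ≠ 0) {s t : M →ₗ[k] M} (hs : IsMin G s) (ht : IsMin G t)
    (h : s * t * s = 0) : t * s * t = 0 := by
  refine sts_eq_zero h2 2 ht hs ?_
  rw [pow_two, show t * s * (t * s) * t = t * (s * t * s) * t by noncomm_ring, h, mul_zero, zero_mul]

/-- Two least elements generating a unipotent group. -/
def Unip (s t : M →ₗ[k] M) : Prop := s * t * s = 0 ∧ t * s * t = 0

end CfsgLib.Quadratic
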