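import Cfsg.Agent.Lib.Quadratic.Split
import Cfsg.Agent.Lib.Components.Basic

/-!
A quadratic pair is a central product of quasisimple normal subgroups, as soon as every one of them
has such a part which together with its centralizer is everything: induction on the dimension.
-/

set_option autoImplicit false

universe u

namespace CfsgLib.Quadratic

/-- Central product of quasisimple parts containing all quadratic elements. -/
def HasCentralDec {k : Type*} [Field k] {M : Type*} [AddCommGroup M] [Module k M]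
    (G : Subgroup (LinearMap.GeneralLinearGroup k M)) : Prop :=
  ∃ (ι : Type) (_ : Finite ι) (Gi : ι → Subgroup (LinearMap.GeneralLinearGroup k M)),
    (∀ i, Gi i ≤ G ∧ ∀ g ∈ G, Cfsg.conjBy (Gi i) g = Gi i) ∧
    (∀ i j, i ≠ j → ⁅Gi i, Gi j⁆ = ⊥) ∧ (⨆ i, Gi i) = G ∧
    (∀ i, Cfsg.IsQuasisimple ↥(Gi i) ∧ Subgroup.closure (Cfsg.quadraticElements G ∩
      (Gi i : Set (LinearMap.GeneralLinearGroup k M))) = Gi i) ∧
    Cfsg.quadraticElements G ⊆ ⋃ i, (Gi i : Set (LinearMap.GeneralLinearGroup k M))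

/-- A part containing a quadratic element that covers `G` together with its centralizer. -/
def HasCocentralPart {k : Type*} [Field k] {M : Type*} [AddCommGroup M] [Module k M]
    (G : Subgroup (LinearMap.GeneralLinearGroup k M)) : Prop :=
  ∃ (ι : Type) (_ : Finite ι) (Gi : ι → Subgroup (LinearMap.GeneralLinearGroup k M)),
    (∀ i, Gi i ≤ G ∧ Cfsg.IsQuasisimple ↥(Gi i) ∧ Subgroup.closure (Cfsg.quadraticElements G ∩
      (Gi i : Set (LinearMap.GeneralLinearGroup k M))) = Gi i) ∧
    (∀ i j, i ≠ j → ⁅Gi i, Gi j⁆ = ⊥) ∧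
    (⨆ i, Gi i) ⊔ (G ⊓ Subgroup.centralizer ((⨆ i, Gi i : Subgroup (LinearMap.GeneralLinearGroup k M)) :
      Set (LinearMap.GeneralLinearGroup k M))) = G ∧
    ∃ x : M →ₗ[k] M, Fam G x ∧ x ≠ 0 ∧ tt x ∈ ⨆ i, Gi i

section Step

variable {k : Type*} [Field k] {M : Type*} [AddCommGroup M] [Module k M]

theorem conjBy_eq_of_le {A : Subgroup (LinearMap.GeneralLinearGroup k M)}
    {X : Subgroup (LinearMap.GeneralLinearGroup k M)} (hX : X ≤ Subgroup.normalizer
      (A : Set (LinearMap.GeneralLinearGroup k M))) {g : LinearMap.GeneralLinearGroup k M}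
    (hg : g ∈ X) : Cfsg.conjBy A g = A := by
  ext y
  rw [Subgroup.mem_map]
  constructor
  · rintro ⟨a, ha, rfl⟩; exact (Subgroup.mem_normalizer_iff.1 (hX hg) a).1 ha
  · intro hy
    refine ⟨g⁻¹ * y * g, ?_, by simp [mul_assoc]⟩
    rw [Subgroup.mem_normalizer_iff.1 (hX hg)]
    simpa [mul_assoc] using hy

/-- Restriction to an invariant subspace. -/
noncomputable def resHom (C : Subgroup (LinearMap.GeneralLinearGroup k M)) (N : Submodule k M)
    (hN : ∀ c ∈ C, ∀ v ∈ N, c.1 v ∈ N) : C →* LinearMap.GeneralLinearGroup k N :=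
  MonoidHom.toHomUnits
    { toFun := fun c => c.1.1.restrict (hN c.1 c.2)
      map_one' := LinearMap.ext fun v => Subtype.ext rfl
      map_mul' := fun a b => LinearMap.ext fun v => Subtype.ext rfl }

theorem resHom_apply {C : Subgroup (LinearMap.GeneralLinearGroup k M)} {N : Submodule k M}
    (hN : ∀ c ∈ C, ∀ v ∈ N, c.1 v ∈ N) (c : C) (v : N) :
    ((resHom C N hN c).1 v : M) = c.1.1 v := rfl

end Step

theorem hasCentralDec_of_cocentral {k : Type u} [Field k] (h2 : (2 : k) ≠ 0)
    (hyp : ∀ (M : Type u) [AddCommGroup M] [Module k M] [FiniteDimensional k M]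
      (G : Subgroup (LinearMap.GeneralLinearGroup k M)), Cfsg.IsQuadraticPair G →
      (Cfsg.quadraticElements G).Nonempty → HasCocentralPart G) :
    ∀ (n : ℕ) (M : Type u) [AddCommGroup M] [Module k M] [FiniteDimensional k M]
      (G : Subgroup (LinearMap.GeneralLinearGroup k M)), Module.finrank k M < n →
      Cfsg.IsQuadraticPair G → HasCentralDec G := by
  intro n
  induction n with
  | zero => intro M _ _ _ G h; omega
  | succ n ih =>
  intro M _ _ _ G hdim hG
  obtain ⟨hirr, hgen⟩ := hG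
  by_cases hQ : (Cfsg.quadraticElements G).Nonempty
  swap
  · rw [Set.not_nonempty_iff_eq_empty] at hQ
    refine ⟨Empty, inferInstance, fun e => e.elim, fun e => e.elim, fun e => e.elim, ?_, fun e => e.elim, ?_⟩
    · rw [iSup_of_empty, ← hgen, hQ, Subgroup.closure_empty]
    · rw [hQ]; exact Set.empty_subset _
  obtain ⟨ι, hι, Gi, hGi, hcomm, hsup, x₀, hx₀, hx₀ne, hx₀mem⟩ := hyp M G ⟨hirr, hgen⟩ hQ
  set G0 := ⨆ i, Gi i with hG0
  set Z := Subgroup.centralizer (G0 : Set (LinearMap.GeneralLinearGroup k M)) with hZ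
  have hG0G : G0 ≤ G := iSup_le fun i => (hGi i).1
  -- the quadratic elements outside `G0`
  set C := Subgroup.closure (Cfsg.quadraticElements G ∩ (Z : Set (LinearMap.GeneralLinearGroup k M))) with hC
  have hCG : C ≤ G := (Subgroup.closure_le _).2 fun σ hσ => hσ.1.1
  have hCZ : C ≤ Z := (Subgroup.closure_le _).2 fun σ hσ => hσ.2
  have hone : ∀ σ ∈ Cfsg.quadraticElements G, (∃ i, σ ∈ Gi i) ∨ σ ∈ C := by
    intro σ hσ
    by_contra hcon
    push Not at hcon
    obtain ⟨x, hx, -, rfl⟩ := mem_quadratic_iff.1 hσ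
    refine hcon.2 (Subgroup.subset_closure ⟨hσ, ?_⟩)
    rw [SetLike.mem_coe, hZ, Subgroup.mem_centralizer_iff]
    suffices hle : G0 ≤ Subgroup.centralizer {tt x} from
      fun g hg => Subgroup.mem_centralizer_singleton_iff.1 (hle hg)
    refine iSup_le fun i g hg => Subgroup.mem_centralizer_singleton_iff.2 ?_
    have hperf : ⁅Gi i, Gi i⁆ = Gi i := by
      rw [← Subgroup.map_subtype_commutator,
        CfsgLib.Components.quasisimple_commutator_eq_top (hGi i).2.1, ← MonoidHom.range_eq_map,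
        Subgroup.range_subtype]
    have hcov : Gi i ⊔ (G ⊓ Subgroup.centralizer (Gi i : Set (LinearMap.GeneralLinearGroup k M))) = G := by
      refine le_antisymm (sup_le (hGi i).1 inf_le_left) (hsup.ge.trans (sup_le (iSup_le fun j => ?_) ?_))
      · rcases eq_or_ne i j with rfl | hne
        · exact le_sup_left
        · refine le_sup_of_le_right (le_inf (hGi j).1 ?_)
          exact Subgroup.commutator_eq_bot_iff_le_centralizer.1 (hcomm j i hne.symm)
      · refine le_sup_of_le_right (inf_le_inf_left _ (Subgroup.centralizer_le ?_))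
        exact le_iSup Gi i
    rcases mem_or_centralizes h2 hirr (hGi i).1 hperf hcov hx with h | h
    · exact absurd h (hcon.1 i)
    · exact (Subgroup.mem_centralizer_iff.1 h g hg)
  have hGGC : G = G0 ⊔ C := by
    refine le_antisymm ?_ (sup_le hG0G hCG)
    rw [← hgen, Subgroup.closure_le]
    intro σ hσ
    rcases hone σ hσ with ⟨i, h⟩ | h
    · exact Subgroup.mem_sup_left (le_iSup Gi i h)
    · exact Subgroup.mem_sup_right h
  have hnormal : ∀ i, ∀ g ∈ G, Cfsg.conjBy (Gi i) g = Gi i := by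
    intro i g hg
    refine conjBy_eq_of_le (X := G) (hGGC.le.trans (sup_le (iSup_le fun j => ?_) ?_)) hg
    · rcases eq_or_ne i j with rfl | hne
      · exact Subgroup.le_normalizer
      · exact (Subgroup.commutator_eq_bot_iff_le_centralizer.1 (hcomm j i hne.symm)).trans
          (Subgroup.centralizer_le_normalizer _)
    · exact (hCZ.trans (Subgroup.centralizer_le (le_iSup Gi i))).trans
        (Subgroup.centralizer_le_normalizer _)
  by_cases hCQ : (Cfsg.quadraticElements G ∩ (Z : Set (LinearMap.GeneralLinearGroup k M))).Nonempty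
  swap
  · rw [Set.not_nonempty_iff_eq_empty] at hCQ
    have hC0 : C = ⊥ := by rw [hC, hCQ, Subgroup.closure_empty]
    refine ⟨ι, hι, Gi, fun i => ⟨(hGi i).1, hnormal i⟩, hcomm, by rw [hGGC, hC0, sup_bot_eq],
      fun i => (hGi i).2, fun σ hσ => ?_⟩
    rcases hone σ hσ with ⟨i, h⟩ | h
    · exact Set.mem_iUnion_of_mem i h
    · exfalso
      obtain ⟨y, hy, hy0, rfl⟩ := mem_quadratic_iff.1 hσ
      rw [hC0, Subgroup.mem_bot] at h
      exact hy0 (tt_inj hy.1 (mul_zero _) (by rw [h, tt_zero]))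
  -- a least invariant subspace for `C`
  let S : Set (Submodule k M) := {N | N ≠ ⊥ ∧ ∀ c ∈ C, ∀ v ∈ N, c.1 v ∈ N}
  have hS : S.Nonempty := by
    refine ⟨⊤, ?_, fun c _ v _ => Submodule.mem_top⟩
    obtain ⟨v, hv⟩ := hirr.1
    exact fun h => hv ((Submodule.mem_bot k).1 (h ▸ Submodule.mem_top))
  obtain ⟨N, ⟨hN0, hN⟩, hmin⟩ := wellFounded_lt.has_min S hS
  have hCc : C ≤ Subgroup.centralizer (G0 : Set (LinearMap.GeneralLinearGroup k M)) := hCZ
  have hkills : ∀ f : M →ₗ[k] M, (∀ a ∈ G0, f * a.1 = a.1 * f) → (∀ v ∈ N, f v = 0) → f = 0 :=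
    fun f hf hfN => eq_zero_of_kills hirr hCc hGGC.le hf hN0 hN hfN
  have hcent : ∀ c ∈ C, ∀ a ∈ G0, (c.1 - 1) * a.1 = a.1 * (c.1 - 1) := fun c hc a ha => by
    rw [sub_mul, mul_sub, one_mul, mul_one,
      val_comm (Subgroup.mem_centralizer_iff.1 (hCc hc) a ha).symm]
  have hNtop : N ≠ ⊤ := by
    intro htop
    have hxsq := hx₀.1
    have hker : LinearMap.ker x₀ ∈ S := by
      refine ⟨fun h => hx₀ne ?_, fun c hc v hv => ?_⟩
      · have hinj := LinearMap.ker_eq_bot.1 h
        exact LinearMap.ext fun v => hinj ((LinearMap.congr_fun hxsq v).trans (map_zero x₀).symm)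
      · have e := val_comm (Subgroup.mem_centralizer_iff.1 (hCc hc) _ hx₀mem)
        rw [tt_val hxsq, add_mul, mul_add, one_mul, mul_one] at e
        have e' := LinearMap.congr_fun (add_left_cancel e) v
        rw [LinearMap.mem_ker] at hv ⊢
        calc x₀ (c.1 v) = c.1 (x₀ v) := e'
          _ = 0 := by rw [hv, map_zero]
    refine hmin _ hker (lt_of_le_of_ne (htop ▸ le_top) fun h => hx₀ne ?_)
    exact LinearMap.ker_eq_top.1 (h.trans htop)
  let ρ := resHom C N hN
  have hρinj : Function.Injective ρ := by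
    refine (injective_iff_map_eq_one ρ).2 fun c hc => Subtype.ext (Units.ext ?_)
    have h0 := hkills (c.1.1 - 1) (hcent c.1 c.2) fun v hv => by
      rw [LinearMap.sub_apply, ← resHom_apply hN c ⟨v, hv⟩, show resHom C N hN c = 1 from hc]
      exact sub_self _
    rw [sub_eq_zero] at h0
    exact h0
  -- the quadratic elements correspond
  have hfwd : ∀ c : C, c.1 ∈ Cfsg.quadraticElements G → ρ c ∈ Cfsg.quadraticElements ρ.range := by
    intro c hc
    obtain ⟨x, hx, hx0, he⟩ := mem_quadratic_iff.1 hc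
    have hxe : x = c.1.1 - 1 := by rw [he, tt_val hx.1, add_sub_cancel_left]
    have hxN : ∀ v ∈ N, x v ∈ N := fun v hv => by
      rw [hxe]; exact sub_mem (hN c.1 c.2 v hv) hv
    have hfam : Fam ρ.range (x.restrict hxN) := by
      refine ⟨LinearMap.ext fun v => Subtype.ext (LinearMap.congr_fun hx.1 v.1), fun a => ?_⟩
      have hmem : tt (a • x) ∈ C := by
        rcases eq_or_ne (a • x) 0 with h | h
        · rw [h, tt_zero]; exact one_mem C
        refine Subgroup.subset_closure ⟨mem_quadratic_iff.2 ⟨a • x, hx.smul a, h, rfl⟩, ?_⟩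
        rw [SetLike.mem_coe, hZ, Subgroup.mem_centralizer_iff]
        intro g hg
        refine Units.ext ?_
        have e := hcent c.1 c.2 g hg
        rw [← hxe] at e
        rw [Units.val_mul, Units.val_mul, tt_val (smul_sq hx.1 a), mul_add, add_mul, mul_one, one_mul,
          mul_smul_comm, smul_mul_assoc, e]
      refine ⟨⟨_, hmem⟩, Units.ext (LinearMap.ext fun v => Subtype.ext ?_)⟩
      rw [resHom_apply hN, tt_val (smul_sq hx.1 a), tt_val (smul_sq
        (show x.restrict hxN * x.restrict hxN = 0 from LinearMap.ext fun v =>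
          Subtype.ext (LinearMap.congr_fun hx.1 v.1)) a)]
      rfl
    refine mem_quadratic_iff.2 ⟨_, hfam, fun h => hx0 (hkills x ?_ fun v hv => ?_),
      Units.ext (LinearMap.ext fun v => Subtype.ext ?_)⟩
    · intro a ha; rw [hxe]; exact hcent c.1 c.2 a ha
    · exact congrArg Subtype.val (LinearMap.congr_fun h ⟨v, hv⟩)
    · rw [resHom_apply hN, he, tt_val hx.1, tt_val hfam.1]; rfl
  have hback : ∀ c : C, ρ c ∈ Cfsg.quadraticElements ρ.range → c.1 ∈ Cfsg.quadraticElements G := by
    intro c hc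
    obtain ⟨y, hy, hy0, he⟩ := mem_quadratic_iff.1 hc
    set x := c.1.1 - 1 with hx
    have hxy : ∀ v : N, x v.1 = (y v : M) := fun v => by
      rw [hx, LinearMap.sub_apply, ← resHom_apply hN c v, show resHom C N hN c = tt y from he,
        tt_val hy.1]
      show (v : M) + (y v : M) - (v : M) = _
      rw [add_sub_cancel_left]
    have hxx : x * x = 0 := by
      refine hkills _ (fun a ha => ?_) fun v hv => ?_
      · rw [mul_assoc, hcent c.1 c.2 a ha, ← mul_assoc, hcent c.1 c.2 a ha, mul_assoc]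
      · show x (x v) = 0
        rw [hxy ⟨v, hv⟩, hxy (y ⟨v, hv⟩), show y (y ⟨v, hv⟩) = 0 from LinearMap.congr_fun hy.1 _]
        rfl
    refine mem_quadratic_iff.2 ⟨x, ⟨hxx, fun a => ?_⟩, fun h => hy0 ?_, Units.ext ?_⟩
    · obtain ⟨d, hd⟩ := hy.2 a
      have h0 := hkills (d.1.1 - 1 - a • x) (fun g hg => ?_) fun v hv => ?_
      · have : d.1 = tt (a • x) := Units.ext (by
          rw [tt_val (smul_sq hxx a), ← sub_eq_zero.1 h0]; abel)
        rw [← this]; exact hCG d.2
      · rw [sub_mul, mul_sub, hcent d.1 d.2 g hg, smul_mul_assoc, mul_smul_comm, hcent c.1 c.2 g hg]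
      · rw [LinearMap.sub_apply, LinearMap.sub_apply, LinearMap.smul_apply, hxy ⟨v, hv⟩,
          ← resHom_apply hN d ⟨v, hv⟩, show resHom C N hN d = tt (a • y) from hd,
          tt_val (smul_sq hy.1 a)]
        show v + a • (y ⟨v, hv⟩ : M) - v - a • (y ⟨v, hv⟩ : M) = 0
        abel
    · refine LinearMap.ext fun v => Subtype.ext ?_
      rw [← hxy v, h]; rfl
    · rw [tt_val hxx, hx, add_sub_cancel]
  -- the smaller pair
  have hgen' : Subgroup.closure (Cfsg.quadraticElements ρ.range) = ρ.range := by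
    refine le_antisymm ((Subgroup.closure_le _).2 fun σ hσ => hσ.1) ?_
    rintro _ ⟨⟨c, hc⟩, rfl⟩
    let K : Subgroup (LinearMap.GeneralLinearGroup k M) :=
      ((Subgroup.closure (Cfsg.quadraticElements ρ.range)).comap ρ).map C.subtype
    have hle : C ≤ K := by
      rw [hC, Subgroup.closure_le]
      intro σ hσ
      exact ⟨⟨σ, Subgroup.subset_closure hσ⟩, Subgroup.subset_closure (hfwd _ hσ.1), rfl⟩
    obtain ⟨d, hd, e⟩ := hle hc
    obtain rfl : d = ⟨c, hc⟩ := Subtype.ext e
    exact hd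
  have hirr' : Cfsg.IsIrreducibleFor ρ.range := by
    refine ⟨?_, fun W hW => ?_⟩
    · obtain ⟨v, hv, hv0⟩ := N.exists_mem_ne_zero_of_ne_bot hN0
      exact ⟨⟨v, hv⟩, fun h => hv0 (congrArg Subtype.val h)⟩
    by_cases hW0 : W = ⊥
    · exact Or.inl hW0
    refine Or.inr ?_
    have hmem : W.map N.subtype ∈ S := by
      refine ⟨fun h => hW0 ?_, ?_⟩
      · exact Submodule.map_injective_of_injective N.injective_subtype (h.trans (Submodule.map_bot _).symm)
      · rintro c hc _ ⟨w, hw, rfl⟩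
        exact ⟨_, hW _ ⟨⟨c, hc⟩, rfl⟩ w hw, rfl⟩
    have hle : W.map N.subtype ≤ N := Submodule.map_subtype_le N W
    have heq : W.map N.subtype = N := by
      by_contra hne
      exact hmin _ hmem (lt_of_le_of_ne hle hne)
    refine Submodule.map_injective_of_injective N.injective_subtype ?_
    rw [heq, Submodule.map_subtype_top]
  have hlt : Module.finrank k N < n := by
    have := Submodule.finrank_lt hNtop
    omega
  obtain ⟨κ, hκ, Hj, hHj, hHcomm, hHsup, hHq, hHall⟩ := ih N ρ.range hlt ⟨hirr', hgen'⟩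
  -- pull the parts back
  let J : κ → Subgroup (LinearMap.GeneralLinearGroup k M) := fun j => ((Hj j).comap ρ).map C.subtype
  have hJC : ∀ j, J j ≤ C := fun j => Subgroup.map_subtype_le _
  have hJq : ∀ j, Cfsg.IsQuasisimple ↥(J j) := by
    intro j
    refine CfsgLib.Components.isQuasisimple_of_mulEquiv (hHq j).1 (MulEquiv.symm ?_)
    exact ((Subgroup.equivMapOfInjective _ C.subtype Subtype.val_injective).symm).trans
      ((Subgroup.equivMapOfInjective _ ρ hρinj).trans
        (MulEquiv.subgroupCongr (Subgroup.map_comap_eq_self (hHj j).1)))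
  have hJJ : ∀ i j, i ≠ j → ⁅J i, J j⁆ = ⊥ := by
    intro i j hij
    rw [← Subgroup.map_commutator, Subgroup.map_eq_bot_iff_of_injective _ Subtype.val_injective,
      ← Subgroup.map_eq_bot_iff_of_injective _ hρinj, Subgroup.map_commutator,
      Subgroup.map_comap_eq_self (hHj i).1, Subgroup.map_comap_eq_self (hHj j).1, hHcomm i j hij]
  have hGJ : ∀ i j, ⁅Gi i, J j⁆ = ⊥ := by
    intro i j
    rw [Subgroup.commutator_comm, Subgroup.commutator_eq_bot_iff_le_centralizer]
    exact ((hJC j).trans hCZ).trans (Subgroup.centralizer_le (le_iSup Gi i))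
  have hJnorm : ∀ j, ∀ g ∈ G, Cfsg.conjBy (J j) g = J j := by
    intro j g hg
    refine conjBy_eq_of_le (X := G) (hGGC.le.trans (sup_le (iSup_le fun i => ?_) ?_)) hg
    · exact (Subgroup.commutator_eq_bot_iff_le_centralizer.1 (hGJ i j)).trans
        (Subgroup.centralizer_le_normalizer _)
    · intro c hc
      rw [Subgroup.mem_normalizer_iff]
      have key : ∀ d : C, ∀ z ∈ Hj j, ρ d * z * (ρ d)⁻¹ ∈ Hj j := by
        intro d z hz
        rw [← (hHj j).2 _ ⟨d, rfl⟩]
        exact ⟨z, hz, rfl⟩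
      intro z
      constructor
      · rintro ⟨w, hw, rfl⟩
        refine ⟨⟨c, hc⟩ * w * ⟨c, hc⟩⁻¹, ?_, rfl⟩
        rw [SetLike.mem_coe, Subgroup.mem_comap, map_mul, map_mul, map_inv]
        exact key _ _ hw
      · rintro ⟨w, hw, e⟩
        refine ⟨⟨c, hc⟩⁻¹ * w * ⟨c, hc⟩, ?_, ?_⟩
        · rw [SetLike.mem_coe, Subgroup.mem_comap, map_mul, map_mul, map_inv]
          have := key (⟨c, hc⟩⁻¹) _ hw
          rwa [map_inv, inv_inv] at this
        · rw [map_mul, map_mul, map_inv, e]
          show c⁻¹ * (c * z * c⁻¹) * c = z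
          group
  have hJall : ∀ σ ∈ Cfsg.quadraticElements G, σ ∈ C → ∃ j, σ ∈ J j := by
    intro σ hσ hσC
    obtain ⟨j, hj⟩ := Set.mem_iUnion.1 (hHall (hfwd ⟨σ, hσC⟩ hσ))
    exact ⟨j, ⟨σ, hσC⟩, hj, rfl⟩
  refine ⟨ι ⊕ κ, inferInstance, Sum.elim Gi J, ?_, ?_, ?_, ?_, ?_⟩
  · rintro (i | j)
    exacts [⟨(hGi i).1, hnormal i⟩, ⟨(hJC j).trans hCG, hJnorm j⟩]
  · rintro (i | j) (i' | j') hne
    · exact hcomm i i' fun e => hne (by rw [e])
    · exact hGJ i j'
    · exact (Subgroup.commutator_comm _ _).trans (hGJ i' j)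
    · exact hJJ j j' fun e => hne (by rw [e])
  · rw [iSup_sum]
    show G0 ⊔ (⨆ j, J j) = G
    refine le_antisymm (sup_le hG0G (iSup_le fun j => (hJC j).trans hCG)) (hGGC.le.trans ?_)
    refine sup_le_sup_left ((Subgroup.closure_le _).2 fun σ hσ => ?_) _
    obtain ⟨j, hj⟩ := hJall σ hσ.1 (Subgroup.subset_closure hσ)
    exact le_iSup J j hj
  · rintro (i | j)
    · exact (hGi i).2
    refine ⟨hJq j, le_antisymm ((Subgroup.closure_le _).2 fun σ hσ => hσ.2) ?_⟩
    show J j ≤ _
    rintro _ ⟨w, hw, rfl⟩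
    let K : Subgroup (LinearMap.GeneralLinearGroup k N) :=
      ((Subgroup.closure (Cfsg.quadraticElements G ∩ (J j : Set _))).comap C.subtype).map ρ
    have hle : Hj j ≤ K := by
      rw [← (hHq j).2, Subgroup.closure_le]
      rintro τ ⟨hτq, hτj⟩
      obtain ⟨d, rfl⟩ := hτq.1
      exact ⟨d, Subgroup.subset_closure ⟨hback d hτq, d, hτj, rfl⟩, rfl⟩
    obtain ⟨d, hd, e⟩ := hle hw
    obtain rfl := hρinj e
    exact hd
  · intro σ hσ
    rcases hone σ hσ with ⟨i, h⟩ | h
    · exact Set.mem_iUnion_of_mem (Sum.inl i) h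
    · obtain ⟨j, hj⟩ := hJall σ hσ h
      exact Set.mem_iUnion_of_mem (Sum.inr j) hj

end CfsgLib.Quadratic
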