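import Cfsg.Agent.Lib.Quadratic.UnipotentPairs

/-!
A set of square-zero maps closed under commutators spans a nilpotent algebra (Jacobson); hence in an
irreducible group every least element `e` has a least `v` with `e v e ≠ 0`.
-/

set_option autoImplicit false

namespace CfsgLib.Quadratic

open Module

variable {k : Type*} [Field k] {M : Type*} [AddCommGroup M] [Module k M]

section WeaklyClosed

variable {A : Type*} [Ring A] [Algebra k A]

variable (k) in
/-- Iterated brackets of arbitrary elements with `S`. -/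
def adWords (S : Submodule k A) : ℕ → Submodule k A
  | 0 => ⊤
  | m + 1 => S * adWords S m ⊔ adWords S m * S

theorem adWords_eq_bot {S : Submodule k A} {N : ℕ} (hN : S ^ N = ⊥) :
    ∀ (m i j : ℕ), 2 * N ≤ i + j + m → S ^ i * adWords k S m * S ^ j = ⊥ := by
  have hz : ∀ {n : ℕ}, N ≤ n → S ^ n = ⊥ := fun h => by
    obtain ⟨d, rfl⟩ := Nat.exists_eq_add_of_le h
    rw [pow_add, hN, Submodule.bot_mul]
  intro m
  induction m with
  | zero =>
    intro i j h
    rcases le_or_gt N i with hi | hi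
    · rw [hz hi, Submodule.bot_mul, Submodule.bot_mul]
    · rw [hz (show N ≤ j by omega), Submodule.mul_bot]
  | succ m ih =>
    intro i j h
    rw [adWords, Submodule.mul_sup, Submodule.sup_mul, ← mul_assoc, ← pow_succ, ih (i + 1) j (by omega),
      show S ^ i * (adWords k S m * S) * S ^ j = S ^ i * adWords k S m * (S * S ^ j) by
        simp only [mul_assoc], ← pow_succ', ih i (j + 1) (by omega), sup_bot_eq]

/-- The step: an element of square zero normalizing a nilpotent space. -/
theorem nilpotent_sup {S : Submodule k A} {N : ℕ} (hN : S ^ N = ⊥) {x : A} (hx : x * x = 0)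
    (hn : ∀ s ∈ S, x * s - s * x ∈ S) : (S ⊔ Submodule.span k {x}) ^ (2 * N) = ⊥ := by
  set X := Submodule.span k {x}
  let L : ℕ → Submodule k A := fun r => S ^ r * ⊤
  have hL0 : L 0 = ⊤ := by simp [L]
  have hLS : ∀ r, S * L r = L (r + 1) := fun r => by simp [L, pow_succ', mul_assoc]
  have hLa : ∀ r, L (r + 1) ≤ L r := fun r => by
    simp only [L, pow_succ, mul_assoc]
    exact mul_le_mul' le_rfl le_top
  have hXX : X * X = ⊥ := by simp [X, Submodule.span_mul_span, hx]
  have hXS : X * S ≤ S * X ⊔ S := by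
    refine Submodule.mul_le.2 fun a ha s hs => ?_
    obtain ⟨c, rfl⟩ := Submodule.mem_span_singleton.1 ha
    rw [show c • x * s = c • (s * x) + c • (x * s - s * x) by
      rw [smul_mul_assoc, ← smul_add, add_sub_cancel]]
    exact add_mem (Submodule.smul_mem _ c (Submodule.mem_sup_left
      (Submodule.mul_mem_mul hs (Submodule.mem_span_singleton_self x))))
      (Submodule.smul_mem _ c (Submodule.mem_sup_right (hn s hs)))
  have hXL : ∀ r, X * L r ≤ L r := by
    intro r
    induction r with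
    | zero => rw [hL0]; exact le_top
    | succ r ih =>
      rw [← hLS, ← mul_assoc]
      refine (mul_le_mul' hXS le_rfl).trans ?_
      rw [Submodule.sup_mul, mul_assoc]
      exact sup_le (mul_le_mul' le_rfl ih) le_rfl
  have h2 : ∀ r, (S ⊔ X) * ((S ⊔ X) * L r) ≤ L (r + 1) := by
    intro r
    rw [Submodule.sup_mul S X (L r), hLS, Submodule.mul_sup, Submodule.sup_mul, Submodule.sup_mul, hLS,
      ← mul_assoc X X, hXX, Submodule.bot_mul, sup_bot_eq]
    exact sup_le (sup_le (hLa _) (hXL _)) ((mul_le_mul' le_rfl (hXL r)).trans (hLS r).le)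
  have h3 : ∀ r, (S ⊔ X) ^ (2 * r) * ⊤ ≤ L r := by
    intro r
    induction r with
    | zero => simp [hL0]
    | succ r ih =>
      rw [show 2 * (r + 1) = 2 * r + 1 + 1 by ring, pow_succ', pow_succ', mul_assoc, mul_assoc]
      exact (mul_le_mul' le_rfl (mul_le_mul' le_rfl ih)).trans (h2 r)
  rw [eq_bot_iff]
  intro a ha
  have := h3 N (Submodule.mul_mem_mul ha (Submodule.mem_top (x := (1 : A))))
  simpa [L, hN] using this

theorem exists_pow_eq_bot_of_closed [FiniteDimensional k A] (I : Set A)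
    (hsq : ∀ x ∈ I, x * x = 0) (hc : ∀ x ∈ I, ∀ y ∈ I, x * y - y * x ∈ I) :
    ∃ N : ℕ, Submodule.span k I ^ N = ⊥ := by
  let P : Set (Submodule k A) := {S | S ≤ Submodule.span k (I ∩ (S : Set A)) ∧
    (∀ a ∈ S, ∀ b ∈ S, a * b - b * a ∈ S) ∧ ∃ N : ℕ, S ^ N = ⊥}
  obtain ⟨S, ⟨hS1, hS2, N, hN⟩, hmax⟩ := (wellFounded_gt (α := Submodule k A)).has_min P
    ⟨⊥, by simp, by simp, 1, pow_one ⊥⟩
  suffices I ⊆ S from ⟨N, eq_bot_iff.2 ((pow_le_pow_left' (Submodule.span_le.2 this) N).trans hN.le)⟩
  by_contra hI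
  obtain ⟨x₀, hx₀, hx₀S⟩ := Set.not_subset.1 hI
  obtain ⟨x, hx, hxS, hxn⟩ : ∃ x ∈ I, x ∉ S ∧ ∀ s ∈ I, s ∈ S → x * s - s * x ∈ S := by
    by_contra hcon
    push Not at hcon
    have key : ∀ m : ℕ, ∃ x ∈ I, x ∉ S ∧ x ∈ adWords k S m := by
      intro m
      induction m with
      | zero => exact ⟨x₀, hx₀, hx₀S, Submodule.mem_top⟩
      | succ m ih =>
        obtain ⟨x, hx, hxS, hxm⟩ := ih
        obtain ⟨s, hsI, hs, hns⟩ := hcon x hx hxS
        exact ⟨_, hc x hx s hsI, hns, sub_mem (Submodule.mem_sup_right (Submodule.mul_mem_mul hxm hs))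
          (Submodule.mem_sup_left (Submodule.mul_mem_mul hs hxm))⟩
    obtain ⟨x, -, hxS, hxm⟩ := key (2 * N)
    have h := adWords_eq_bot hN (2 * N) 0 0 (by omega)
    rw [pow_zero, one_mul, mul_one] at h
    rw [h, Submodule.mem_bot] at hxm
    exact hxS (hxm ▸ zero_mem S)
  have hn : ∀ s ∈ S, x * s - s * x ∈ S := fun s hs => by
    have hs' := hS1 hs
    clear hs
    induction hs' using Submodule.span_induction with
    | mem a ha => exact hxn a ha.1 ha.2
    | zero => simp
    | add a b _ _ iha ihb =>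
      rw [show x * (a + b) - (a + b) * x = (x * a - a * x) + (x * b - b * x) by noncomm_ring]
      exact add_mem iha ihb
    | smul c a _ iha =>
      rw [mul_smul_comm, smul_mul_assoc, ← smul_sub]
      exact Submodule.smul_mem _ c iha
  refine hmax (S ⊔ Submodule.span k {x}) ⟨?_, ?_, 2 * N, nilpotent_sup hN (hsq x hx) hn⟩ ?_
  · refine sup_le (hS1.trans (Submodule.span_mono (Set.inter_subset_inter_right _ ?_))) ?_
    · exact SetLike.coe_subset_coe.2 le_sup_left
    · exact Submodule.span_mono (Set.singleton_subset_iff.2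
        ⟨hx, Submodule.mem_sup_right (Submodule.mem_span_singleton_self x)⟩)
  · intro a ha b hb
    obtain ⟨a', ha', _, hp, rfl⟩ := Submodule.mem_sup.1 ha
    obtain ⟨b', hb', _, hq, rfl⟩ := Submodule.mem_sup.1 hb
    obtain ⟨p, rfl⟩ := Submodule.mem_span_singleton.1 hp
    obtain ⟨q, rfl⟩ := Submodule.mem_span_singleton.1 hq
    refine Submodule.mem_sup_left ?_
    have h : (a' + p • x) * (b' + q • x) - (b' + q • x) * (a' + p • x) =
        (a' * b' - b' * a') + p • (x * b' - b' * x) - q • (x * a' - a' * x) := by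
      simp only [add_mul, mul_add, smul_mul_assoc, mul_smul_comm, hx, hsq x hx, smul_zero, smul_sub]
      abel
    rw [h]
    exact sub_mem (add_mem (hS2 _ ha' _ hb') (Submodule.smul_mem _ p (hn _ hb')))
      (Submodule.smul_mem _ q (hn _ ha'))
  · exact lt_of_le_of_ne le_sup_left fun h => hxS
      (h ▸ Submodule.mem_sup_right (Submodule.mem_span_singleton_self x))

end WeaklyClosed

variable {G : Subgroup (LinearMap.GeneralLinearGroup k M)}

/-- `x` forms unipotent pairs with all least elements. -/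
def Iso (G : Subgroup (LinearMap.GeneralLinearGroup k M)) (x : M →ₗ[k] M) : Prop :=
  IsMin G x ∧ ∀ v, IsMin G v → x * v * x = 0

variable [FiniteDimensional k M]

theorem Iso.conj {x : M →ₗ[k] M} (hx : Iso G x) {g : LinearMap.GeneralLinearGroup k M} (hg : g ∈ G) :
    Iso G (g.1 * x * g⁻¹.1) := by
  refine ⟨hx.1.conj hg, fun v hv => ?_⟩
  have h := hx.2 _ (hv.conj (inv_mem hg))
  rw [inv_inv] at h
  rw [show g.1 * x * g⁻¹.1 * v * (g.1 * x * g⁻¹.1) = g.1 * (x * (g⁻¹.1 * v * g.1) * x) * g⁻¹.1 by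
    noncomm_ring, h, mul_zero, zero_mul]

theorem Iso.swap {a b v : M →ₗ[k] M} (ha : Iso G a) (hb : Iso G b) (hv : IsMin G v) :
    a * b * v * a = a * v * b * a := by
  have h := ha.2 _ (hv.conj hb.1.1.tt_mem)
  rw [conj_eq hb.1.1.1, hb.2 v hv, sub_zero, mul_add, add_mul, ha.2 v hv, zero_add, mul_sub, sub_mul,
    sub_eq_zero] at h
  simpa only [mul_assoc] using h

theorem Iso.comm {a b : M →ₗ[k] M} (ha : Iso G a) (hb : Iso G b) (h : a * b - b * a ≠ 0) :
    Iso G (a * b - b * a) := by
  refine ⟨ha.1.comm hb.1 (ha.2 b hb.1) (hb.2 a ha.1) h, fun v hv => ?_⟩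
  have s1 : a * b * v * a * b = 0 := by
    rw [Iso.swap ha hb hv, show a * v * b * a * b = a * v * (b * a * b) by noncomm_ring, hb.2 a ha.1, mul_zero]
  have s2 : b * a * v * b * a = 0 := by
    rw [Iso.swap hb ha hv, show b * v * a * b * a = b * v * (a * b * a) by noncomm_ring, ha.2 b hb.1, mul_zero]
  calc (a * b - b * a) * v * (a * b - b * a)
      = a * b * v * a * b - a * (b * v * b) * a - b * (a * v * a) * b + b * a * v * b * a := by
        noncomm_ring
    _ = 0 := by simp [s1, s2, ha.2 v hv, hb.2 v hv]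

/-- No least element is isolated. -/
theorem exists_nonunipotent (hirr : Cfsg.IsIrreducibleFor G) {e : M →ₗ[k] M} (he : IsMin G e) :
    ∃ v, IsMin G v ∧ e * v * e ≠ 0 := by
  by_contra hcon
  push Not at hcon
  obtain ⟨N, hN⟩ := exists_pow_eq_bot_of_closed (k := k) {x : M →ₗ[k] M | x = 0 ∨ Iso G x}
    (by rintro x (rfl | hx); exacts [mul_zero _, hx.1.1.1]) (by
      rintro x (rfl | hx) y (rfl | hy)
      · exact Or.inl (by simp)
      · exact Or.inl (by simp)
      · exact Or.inl (by simp)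
      by_cases h : x * y - y * x = 0
      · exact Or.inl h
      · exact Or.inr (hx.comm hy h))
  set S := Submodule.span k {x : M →ₗ[k] M | x = 0 ∨ Iso G x}
  set K : Submodule k M := ⨅ x ∈ {x : M →ₗ[k] M | x = 0 ∨ Iso G x}, LinearMap.ker x with hK
  obtain ⟨m₀, hm₀⟩ := hirr.1
  have hKne : K ≠ ⊥ := by
    classical
    have hex : ∃ n : ℕ, S ^ n = ⊥ := ⟨N, hN⟩
    let n := Nat.find hex
    have hn : S ^ n = ⊥ := Nat.find_spec hex
    have hn0 : n ≠ 0 := by
      intro h0
      rw [h0, pow_zero, eq_bot_iff] at hn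
      have := hn (show (1 : M →ₗ[k] M) ∈ (1 : Submodule k (M →ₗ[k] M)) from Submodule.one_le.1 le_rfl)
      exact hm₀ (LinearMap.congr_fun ((Submodule.mem_bot k).1 this) m₀)
    obtain ⟨f, hf, hf0⟩ := (Submodule.ne_bot_iff _).1
      (Nat.find_min hex (show n - 1 < n by omega))
    obtain ⟨v, hv⟩ : ∃ v, f v ≠ 0 := by
      by_contra h; push Not at h; exact hf0 (LinearMap.ext h)
    refine (Submodule.ne_bot_iff _).2 ⟨f v, ?_, hv⟩
    simp only [hK, Submodule.mem_iInf, LinearMap.mem_ker]
    intro x hx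
    have h : x * f ∈ S ^ n := by
      rw [show n = n - 1 + 1 by omega, pow_succ']
      exact Submodule.mul_mem_mul (Submodule.subset_span hx) hf
    rw [hn, Submodule.mem_bot] at h
    exact LinearMap.congr_fun h v
  have hKe : e ∈ {x : M →ₗ[k] M | x = 0 ∨ Iso G x} := Or.inr ⟨he, hcon⟩
  rcases hirr.2 K (fun g hg w hw => by
    simp only [hK, Submodule.mem_iInf, LinearMap.mem_ker] at hw ⊢
    rintro x (rfl | hx)
    · rfl
    · have := hw _ (Or.inr (hx.conj (inv_mem hg)))
      rw [inv_inv] at this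
      have h2 := congrArg g.1 this
      rw [map_zero] at h2
      rw [← h2]
      exact (LinearMap.congr_fun (show g.1 * (g⁻¹.1 * x * g.1) = x * g.1 by
        rw [← mul_assoc, ← mul_assoc, Units.mul_inv, one_mul]) w).symm) with h | h
  · exact hKne h
  · apply he.2.1
    ext v
    have : v ∈ K := h ▸ Submodule.mem_top
    simp only [hK, Submodule.mem_iInf, LinearMap.mem_ker] at this
    simpa using this e hKe

end CfsgLib.Quadratic
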