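import Cfsg.Agent.Lib.Quadratic.Pair
import Cfsg.Agent.Lib.Quadratic.NoIsolated

/-!
Non-commuting unipotent pairs of root groups: the commutator map onto the root group of the
commutator is bijective in each variable, and the pair generates a group of class two in `U(L)`.
-/

set_option autoImplicit false

namespace CfsgLib.Quadratic.TwoStep

open Module

variable {k : Type*} [Field k] {M : Type*} [AddCommGroup M] [Module k M] [FiniteDimensional k M]
variable {G : Subgroup (LinearMap.GeneralLinearGroup k M)}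

/-- A normalised opposite of a least element. -/
theorem exists_normalised_opposite (h2 : (2 : k) ≠ 0) (h3 : Nat.card k ≠ 3) (hirr : Cfsg.IsIrreducibleFor G)
    {e : M →ₗ[k] M} (he : IsMin G e) : ∃ v, IsMin G v ∧ e * v * e = e ∧ v * e * v = v := by
  obtain ⟨t, ht, hne⟩ := exists_nonunipotent hirr he
  obtain ⟨y, hy, h1, h4, -⟩ := exists_partner h2 h3 he ht hne
  refine ⟨y, (cls_min ht hy ?_).1, h1, h4⟩
  rintro rfl
  exact he.2.1 (by simpa using h1.symm)

/-- A non-commuting unipotent pair. -/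
structure ClassTwoPair (G : Subgroup (LinearMap.GeneralLinearGroup k M)) (a b : M →ₗ[k] M) : Prop where
  left : IsMin G a
  right : IsMin G b
  aba : a * b * a = 0
  bab : b * a * b = 0
  ne : a * b - b * a ≠ 0

namespace ClassTwoPair

variable {a b : M →ₗ[k] M} (P : ClassTwoPair G a b)

include P

omit [FiniteDimensional k M] in
theorem symm : ClassTwoPair G b a :=
  ⟨P.right, P.left, P.bab, P.aba, fun h => P.ne (by rw [← neg_sub, h, neg_zero])⟩

theorem min_comm : IsMin G (a * b - b * a) := P.left.comm P.right P.aba P.bab P.ne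

theorem D_mul : (a * b - b * a) * a = 0 ∧ a * (a * b - b * a) = 0 := by
  constructor
  · rw [sub_mul, P.aba, mul_assoc b, P.left.1.1, mul_zero, sub_zero]
  · rw [mul_sub, ← mul_assoc, ← mul_assoc, P.left.1.1, P.aba, zero_mul, sub_zero]

theorem move {x : M →ₗ[k] M} (hx : x ∈ cls G a) (hx0 : x ≠ 0) (h2 : (2 : k) ≠ 0) :
    ClassTwoPair G x b := by
  have hm := (cls_min P.left hx hx0).1
  have h1 : x * b * x = 0 := by
    rw [mul_assoc]
    refine (cls_kill hx).1 ?_
    rw [← mul_assoc]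
    exact (cls_kill hx).2 P.aba
  refine ⟨hm, P.right, h1, tst_eq_zero h2 hm P.right h1, fun h => P.ne ?_⟩
  exact sub_eq_zero.2 (commute_cls h2 hm P.right (sub_eq_zero.1 h)
    (by rw [cls_eq P.left hx hx0]; exact self_mem_cls P.left.1))

theorem unip₂ {x y : M →ₗ[k] M} (hx : x ∈ cls G a) (hy : y ∈ cls G b) (h2 : (2 : k) ≠ 0) :
    x * y * x = 0 ∧ y * x * y = 0 := by
  rcases eq_or_ne x 0 with rfl | hx0
  · simp
  rcases eq_or_ne y 0 with rfl | hy0
  · simp
  have Q := (P.move hx hx0 h2).symm.move hy hy0 h2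
  exact ⟨Q.bab, Q.aba⟩

theorem comm_cls {x : M →ₗ[k] M} (hx : x ∈ cls G a) (h2 : (2 : k) ≠ 0) :
    x * b - b * x ∈ cls G (a * b - b * a) := by
  rcases eq_or_ne x 0 with rfl | hx0
  · simpa using zero_mem (cls G (a * b - b * a))
  have Q := P.move hx hx0 h2
  obtain ⟨-, hk, hr⟩ := cls_min P.left hx hx0
  have hK : LinearMap.ker (x * b - b * x) = LinearMap.ker (a * b - b * a) := by
    rw [ker_comm Q.left Q.right Q.aba Q.bab Q.ne, ker_comm P.left P.right P.aba P.bab P.ne, hk, hr]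
  have hR : LinearMap.range (x * b - b * x) = LinearMap.range (a * b - b * a) := by
    rw [range_comm Q.left Q.right Q.aba Q.bab Q.ne, range_comm P.left P.right P.aba P.bab P.ne, hk, hr]
  refine ⟨Q.min_comm.1, hK.ge, le_inf hR.le ?_⟩
  rw [← hK]
  rintro _ ⟨v, rfl⟩
  exact LinearMap.congr_fun Q.min_comm.1.1 v

theorem comm_cls₂ {x y : M →ₗ[k] M} (hx : x ∈ cls G a) (hy : y ∈ cls G b) (h2 : (2 : k) ≠ 0) :
    x * y - y * x ∈ cls G (a * b - b * a) := by
  rcases eq_or_ne x 0 with rfl | hx0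
  · simpa using zero_mem (cls G (a * b - b * a))
  have Q := P.move hx hx0 h2
  rw [← cls_eq P.min_comm (P.comm_cls hx h2) Q.ne]
  have h := Q.symm.comm_cls hy h2
  rw [← cls_eq Q.min_comm (neg_mem (self_mem_cls Q.min_comm.1)) (neg_ne_zero.2 Q.ne), neg_sub]
  simpa using neg_mem h

theorem finrank_right_le (h2 : (2 : k) ≠ 0) :
    finrank k (cls G b) ≤ finrank k (cls G (a * b - b * a)) := by
  let f : cls G b →ₗ[k] cls G (a * b - b * a) :=
    { toFun := fun y => ⟨a * y.1 - y.1 * a, P.comm_cls₂ (self_mem_cls P.left.1) y.2 h2⟩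
      map_add' := fun y z => Subtype.ext (by simp [mul_add, add_mul, add_sub_add_comm])
      map_smul' := fun c y => Subtype.ext (by simp [smul_sub]) }
  refine LinearMap.finrank_le_finrank_of_injective (f := f) ?_
  rw [← LinearMap.ker_eq_bot, LinearMap.ker_eq_bot']
  intro y hy
  by_contra hy0
  have hy0' : y.1 ≠ 0 := fun h => hy0 (Subtype.ext h)
  have hy' : a * y.1 - y.1 * a = 0 := congrArg Subtype.val hy
  exact (P.symm.move y.2 hy0' h2).ne (by rw [← neg_sub, hy', neg_zero])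

theorem finrank_left_le (h2 : (2 : k) ≠ 0) :
    finrank k (cls G a) ≤ finrank k (cls G (a * b - b * a)) := by
  have h := P.symm.finrank_right_le h2
  rwa [← cls_eq P.min_comm (neg_mem (self_mem_cls P.min_comm.1)) (neg_ne_zero.2 P.ne), neg_sub]

theorem surj_of_finrank (h2 : (2 : k) ≠ 0)
    (h : finrank k (cls G (a * b - b * a)) ≤ finrank k (cls G b)) {z : M →ₗ[k] M}
    (hz : z ∈ cls G (a * b - b * a)) : ∃ y ∈ cls G b, a * y - y * a = z := by
  let f : cls G b →ₗ[k] cls G (a * b - b * a) :=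
    { toFun := fun y => ⟨a * y.1 - y.1 * a, P.comm_cls₂ (self_mem_cls P.left.1) y.2 h2⟩
      map_add' := fun y z => Subtype.ext (by simp [mul_add, add_mul, add_sub_add_comm])
      map_smul' := fun c y => Subtype.ext (by simp [smul_sub]) }
  have hinj : Function.Injective f := by
    rw [← LinearMap.ker_eq_bot, LinearMap.ker_eq_bot']
    intro y hy
    by_contra hy0
    have hy' : a * y.1 - y.1 * a = 0 := congrArg Subtype.val hy
    exact (P.symm.move y.2 (fun h => hy0 (Subtype.ext h)) h2).ne (by rw [← neg_sub, hy', neg_zero])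
  obtain ⟨y, hy⟩ := (LinearMap.injective_iff_surjective_of_finrank_eq_finrank
    (le_antisymm (P.finrank_right_le h2) h)).1 hinj ⟨z, hz⟩
  exact ⟨y.1, y.2, congrArg Subtype.val hy⟩

/-- The left member maps `ker D` into the range of `D`. -/
theorem map_ker_le {w : M} (hw : (a * b - b * a) w = 0) :
    a w ∈ LinearMap.range (a * b - b * a) := by
  have hker : w ∈ LinearMap.ker (a * b - b * a) := hw
  rw [ker_comm P.left P.right P.aba P.bab P.ne] at hker
  obtain ⟨p, hp, _, ⟨q, rfl⟩, rfl⟩ := Submodule.mem_sup.1 hker.2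
  rw [map_add, LinearMap.mem_ker.1 hp, zero_add,
    range_comm P.left P.right P.aba P.bab P.ne]
  exact Submodule.mem_sup_left ⟨⟨_, rfl⟩, LinearMap.congr_fun P.bab q⟩

end ClassTwoPair

/-! ### Weights for an opposite pair -/

/-- `D` and `v` are opposite and normalised. -/
structure WeightPair (G : Subgroup (LinearMap.GeneralLinearGroup k M)) (D v : M →ₗ[k] M) : Prop where
  minD : IsMin G D
  minv : IsMin G v
  DvD : D * v * D = D
  vDv : v * D * v = v

namespace WeightPair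

variable {D v : M →ₗ[k] M} (W : WeightPair G D v)

include W

omit [FiniteDimensional k M] in
theorem flip_mem : ∃ J ∈ G, J.1 = 1 - (2 : k) • (D * v + v * D) ∧ J⁻¹.1 = J.1 := by
  have hD := W.minD.1
  have hv := W.minv.1
  set P := D * v + v * D with hP
  have hPP : P * P = P := by
    calc P * P = (D * v * D) * v + D * (v * v) * D + v * (D * D) * v + (v * D * v) * D := by
          rw [hP]; noncomm_ring
      _ = P := by simp [W.DvD, W.vDv, hD.1, hv.1, hP]
  set N := tt D * (tt v)⁻¹ * tt D with hN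
  have hNG : N ∈ G := mul_mem (mul_mem hD.tt_mem (inv_mem hv.tt_mem)) hD.tt_mem
  have hNval : N.1 = 1 - P + (D - v) := by
    rw [hN, Units.val_mul, Units.val_mul, tt_inv_val hv.1, tt_val hD.1]
    calc (1 + D) * (1 - v) * (1 + D)
        = 1 + D + D + D * D - v - v * D - D * v - D * v * D := by noncomm_ring
      _ = _ := by rw [W.DvD, hD.1, hP]; abel
  have hPD : P * D = D ∧ D * P = D ∧ P * v = v ∧ v * P = v := by
    refine ⟨?_, ?_, ?_, ?_⟩
    · rw [hP, add_mul, W.DvD, mul_assoc v, hD.1, mul_zero, add_zero]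
    · rw [hP, mul_add, ← mul_assoc, ← mul_assoc, hD.1, W.DvD, zero_mul, zero_add]
    · rw [hP, add_mul, W.vDv, mul_assoc D, hv.1, mul_zero, zero_add]
    · rw [hP, mul_add, ← mul_assoc, ← mul_assoc, hv.1, W.vDv, zero_mul, add_zero]
  have h2P : (2 : k) • P = P + P := two_smul k P
  have hJ : (N * N).1 = 1 - (2 : k) • P := by
    rw [Units.val_mul, hNval, h2P]
    calc (1 - P + (D - v)) * (1 - P + (D - v))
        = 1 - P - P + P * P + ((D - v) - P * D + P * v) + ((D - v) - D * P + v * P)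
          + (D * D - D * v - v * D + v * v) := by noncomm_ring
      _ = _ := by rw [hPP, hPD.1, hPD.2.1, hPD.2.2.1, hPD.2.2.2, hD.1, hv.1, hP]; abel
  have hJJ : (N * N) * (N * N) = 1 := by
    refine Units.ext ?_
    rw [Units.val_mul, hJ, h2P]
    calc (1 - (P + P)) * (1 - (P + P)) = 1 - P - P - P - P + (P * P + P * P + (P * P + P * P)) := by
          noncomm_ring
      _ = _ := by rw [hPP]; show _ = (1 : M →ₗ[k] M); abel
  exact ⟨N * N, mul_mem hNG hNG, hJ, congrArg Units.val (inv_eq_of_mul_eq_one_right hJJ)⟩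

/-- Splitting off the component of weight two. -/
theorem split (h2 : (2 : k) ≠ 0) {x : M →ₗ[k] M} (hx : IsMin G x) (hDx : D * x = 0)
    (hxD : x * D = 0) (hker : ∀ w, D w = 0 → x w ∈ LinearMap.range D) :
    D * v * x * (v * D) ∈ cls G D ∧ Fam G (x - D * v * x * (v * D)) ∧
      rk (x - D * v * x * (v * D)) ≤ rk x ∧
      (x - D * v * x * (v * D)) = D * v * x * (1 - v * D) + (1 - D * v) * x * (v * D) := by
  set p := D * v with hp
  set q := v * D with hq
  have hqx : q * x = 0 := by rw [hq, mul_assoc, hDx, mul_zero]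
  have hxp : x * p = 0 := by rw [hp, ← mul_assoc, hxD, zero_mul]
  have hDq : D * (1 - q) = 0 := by rw [hq, mul_sub, mul_one, ← mul_assoc, W.DvD, sub_self]
  have hfix : ∀ u ∈ LinearMap.range D, p u = u := by
    rintro _ ⟨w, rfl⟩
    exact LinearMap.congr_fun W.DvD w
  have hzero : (1 - p) * x * (1 - q) = 0 := by
    refine LinearMap.ext fun w => ?_
    show x ((1 - q) w) - p (x ((1 - q) w)) = 0
    rw [hfix _ (hker _ (LinearMap.congr_fun hDq w)), sub_self]
  have hsplit : x - p * x * q = p * x * (1 - q) + (1 - p) * x * q := by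
    calc x - p * x * q = p * x * (1 - q) + (1 - p) * x * q + (1 - p) * x * (1 - q) := by noncomm_ring
      _ = _ := by rw [hzero, add_zero]
  set y := p * x * q with hy
  obtain ⟨J, hJG, hJ, hJi⟩ := W.flip_mem
  have hconj : J.1 * x * J⁻¹.1 = (2 : k) • y - x := by
    rw [hJi, hJ, ← hp, ← hq, two_smul, two_smul]
    calc (1 - (p + q + (p + q))) * x * (1 - (p + q + (p + q)))
        = (y + y - x) + 2 • ((x - y) - (p * x * (1 - q) + (1 - p) * x * q)) - 2 • (q * x)
            - 2 • (x * p) + 4 • (p * (x * p) + (q * x) * p + (q * x) * q) := by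
          rw [hy]; noncomm_ring
      _ = _ := by rw [← hsplit, hqx, hxp]; simp
  have hxy : x * y = 0 := by
    rw [show x * y = (x * p) * (x * q) by rw [hy]; noncomm_ring, hxp, zero_mul]
  have hyx : y * x = 0 := by
    rw [show y * x = (p * x) * (q * x) by rw [hy]; noncomm_ring, hqx, mul_zero]
  have hfy : Fam G y := by
    have hs := (hx.1.conj hJG).add hx.1
      (by rw [hconj, sub_mul, smul_mul_assoc, hyx, hx.1.1, smul_zero, sub_zero])
      (by rw [hconj, mul_sub, mul_smul_comm, hxy, hx.1.1, smul_zero, sub_zero])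
    rw [hconj, sub_add_cancel] at hs
    have := hs.smul (2 : k)⁻¹
    rwa [inv_smul_smul₀ h2] at this
  refine ⟨⟨hfy, fun w hw => ?_, le_inf ?_ ?_⟩, ?_, ?_, hsplit⟩
  · show p (x (v (D w))) = 0
    rw [LinearMap.mem_ker.1 hw, map_zero, map_zero, map_zero]
  · rintro _ ⟨w, rfl⟩
    exact ⟨v (x (q w)), rfl⟩
  · rintro _ ⟨w, rfl⟩
    exact LinearMap.congr_fun W.minD.1.1 (v (x (q w)))
  · have := hx.1.add (hfy.smul (-1 : k)) (by rw [mul_smul_comm, hxy, smul_zero])
      (by rw [smul_mul_assoc, hyx, smul_zero])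
    rwa [neg_one_smul, ← sub_eq_add_neg] at this
  · have h := rk_mul_add (1 - p) x
    have hle : LinearMap.range (x - y) ≤
        (LinearMap.range x ⊓ LinearMap.ker (1 - p)) ⊔ LinearMap.range ((1 - p) * x) := by
      rw [hsplit]
      rintro _ ⟨w, rfl⟩
      refine add_mem (Submodule.mem_sup_left ?_) (Submodule.mem_sup_right ?_)
      · show p (x ((1 - q) w)) ∈ _
        rw [hfix _ (hker _ (LinearMap.congr_fun hDq w))]
        refine ⟨⟨_, rfl⟩, ?_⟩
        show x ((1 - q) w) - p (x ((1 - q) w)) = 0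
        rw [hfix _ (hker _ (LinearMap.congr_fun hDq w)), sub_self]
      · exact ⟨q w, rfl⟩
    have := (Submodule.finrank_mono hle).trans (Submodule.finrank_add_le_finrank_add_finrank _ _)
    simp only [rk] at h ⊢
    omega

end WeightPair

/-- Conjugation maps classes to classes. -/
theorem finrank_cls_conj_le {s : M →ₗ[k] M} {g : LinearMap.GeneralLinearGroup k M}
    (hg : g ∈ G) : finrank k (cls G s) ≤ finrank k (cls G (g.1 * s * g⁻¹.1)) := by
  have hgi : ∀ v, g.1 (g⁻¹.1 v) = v := fun v => LinearMap.congr_fun g.mul_inv v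
  have hig : ∀ v, g⁻¹.1 (g.1 v) = v := fun v => LinearMap.congr_fun g.inv_mul v
  let f : cls G s →ₗ[k] cls G (g.1 * s * g⁻¹.1) :=
    { toFun := fun x => ⟨g.1 * x.1 * g⁻¹.1, x.2.1.conj hg, fun w hw => by
          have h0 : s (g⁻¹.1 w) = 0 := by
            have h : g⁻¹.1 (g.1 (s (g⁻¹.1 w))) = g⁻¹.1 0 := congrArg g⁻¹.1 hw
            rwa [hig, map_zero] at h
          show g.1 (x.1 (g⁻¹.1 w)) = 0
          rw [LinearMap.mem_ker.1 (x.2.2.1 h0), map_zero], by
          rintro _ ⟨w, rfl⟩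
          obtain ⟨⟨u, hu⟩, hk⟩ := x.2.2.2 ⟨g⁻¹.1 w, rfl⟩
          refine ⟨⟨g.1 u, ?_⟩, ?_⟩
          · show g.1 (s (g⁻¹.1 (g.1 u))) = g.1 (x.1 (g⁻¹.1 w))
            rw [hig, hu]
          · show g.1 (s (g⁻¹.1 (g.1 (x.1 (g⁻¹.1 w))))) = 0
            rw [hig, LinearMap.mem_ker.1 hk, map_zero]⟩
      map_add' := fun x y => Subtype.ext (by simp [mul_add, add_mul])
      map_smul' := fun c x => Subtype.ext (by simp) }
  refine LinearMap.finrank_le_finrank_of_injective (f := f) fun x y h => Subtype.ext ?_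
  have h' := congrArg Subtype.val h
  refine LinearMap.ext fun w => ?_
  have := congrArg g⁻¹.1 (LinearMap.congr_fun h' (g.1 w))
  simpa only [f, LinearMap.coe_mk, AddHom.coe_mk, Module.End.mul_apply, hig] using this

namespace ClassTwoPair

variable {a b : M →ₗ[k] M} (P : ClassTwoPair G a b)

include P

theorem finrank_eq (h2 : (2 : k) ≠ 0) (h3 : Nat.card k ≠ 3) (hirr : Cfsg.IsIrreducibleFor G) :
    finrank k (cls G (a * b - b * a)) ≤ finrank k (cls G b) := by
  set D := a * b - b * a with hD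
  have hDm : IsMin G D := P.min_comm
  obtain ⟨v, hv, hDvD, hvDv⟩ := exists_normalised_opposite h2 h3 hirr hDm
  have W : WeightPair G D v := ⟨hDm, hv, hDvD, hvDv⟩
  have hba : b * a - a * b = -D := (neg_sub _ _).symm
  obtain ⟨hDa, haD⟩ := P.D_mul
  obtain ⟨hDb', hbD'⟩ := P.symm.D_mul
  rw [hba, neg_mul, neg_eq_zero] at hDb'
  rw [hba, mul_neg, neg_eq_zero] at hbD'
  obtain ⟨ha2, hfa, hra, hsa⟩ := W.split h2 P.left hDa haD fun w hw => P.map_ker_le hw
  obtain ⟨hb2, hfb, hrb, hsb⟩ := W.split h2 P.right hDb' hbD' fun w hw => by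
    have h := P.symm.map_ker_le (w := w) (by rw [hba]; simp [hw])
    obtain ⟨u, hu⟩ := h
    exact ⟨-u, by rw [map_neg, ← hu, hba]; simp⟩
  set a2 := D * v * a * (v * D) with ha2e
  set b2 := D * v * b * (v * D) with hb2e
  set a1 := a - a2 with ha1
  set b1 := b - b2 with hb1
  have kb : a2 * b = 0 ∧ b * a2 = 0 ∧ b2 * a = 0 ∧ a * b2 = 0 :=
    ⟨(cls_kill ha2).1 hDb', (cls_kill ha2).2 hbD', (cls_kill hb2).1 hDa, (cls_kill hb2).2 haD⟩
  have kab : a2 * b2 = 0 ∧ b2 * a2 = 0 := ⟨cls_mul ha2 hb2, cls_mul hb2 ha2⟩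
  have hDe : a1 * b1 - b1 * a1 = D := by
    rw [ha1, hb1, hD]
    simp [sub_mul, mul_sub, kb.1, kb.2.1, kb.2.2.1, kb.2.2.2, kab.1, kab.2]
  have hu1 : a1 * b1 * a1 = 0 := by
    rw [ha1, hb1]
    simp [sub_mul, mul_sub, mul_assoc, kb.1, kb.2.1, kb.2.2.1, kb.2.2.2, kab.1, kab.2]
    rw [← mul_assoc, P.aba]
  have ha1m : IsMin G a1 := P.left.of_rk hfa (fun h => hDm.2.1 (by rw [← hDe, h]; simp)) hra
  have hb1m : IsMin G b1 := P.right.of_rk hfb (fun h => hDm.2.1 (by rw [← hDe, h]; simp)) hrb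
  have Q : ClassTwoPair G a1 b1 :=
    ⟨ha1m, hb1m, hu1, tst_eq_zero h2 ha1m hb1m hu1, by rw [hDe]; exact hDm.2.1⟩
  -- a partner of `D` whose commutator with it is a weight one element
  have key : ∀ y, IsMin G y → D * y = 0 → y * D = 0 →
      y = D * v * y * (1 - v * D) + (1 - D * v) * y * (v * D) →
      finrank k (cls G D) ≤ finrank k (cls G y) := by
    intro y hy hDy hyD hye
    have hpyq : D * v * y * (v * D) = 0 := by
      have e := congrArg (fun z => D * v * z * (v * D)) hye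
      rw [e]
      calc D * v * (D * v * y * (1 - v * D) + (1 - D * v) * y * (v * D)) * (v * D)
          = (D * v * D) * v * y * (v * D - v * D * v * D) +
              (D * v - D * v * D * v) * y * (v * D) * (v * D) := by noncomm_ring
        _ = 0 := by simp [W.DvD, W.vDv]
    have hvyv : v * y * v = 0 := by
      calc v * y * v = (v * D * v) * y * (v * D * v) := by rw [W.vDv]
        _ = v * (D * v * y * (v * D)) * v := by noncomm_ring
        _ = 0 := by rw [hpyq, mul_zero, zero_mul]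
    have hyvy := tst_eq_zero h2 hv hy hvyv
    set w := v * y - y * v with hw
    have hwD : w * D - D * w = -y := by
      calc w * D - D * w = v * (y * D) - (y * (v * D) + D * v * y) + (D * y) * v := by
            rw [hw]; noncomm_ring
        _ = -(y * (v * D) + D * v * y - D * v * y * (v * D)) := by rw [hyD, hDy, hpyq]; simp
        _ = -(D * v * y * (1 - v * D) + (1 - D * v) * y * (v * D) + D * v * y * (v * D)) := by noncomm_ring
        _ = -y := by rw [hpyq, add_zero, ← hye]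
    have hw0 : w ≠ 0 := fun h => hy.2.1 (neg_eq_zero.1 (by rw [← hwD, h]; simp))
    have hwm := hv.comm hy hvyv hyvy hw0
    have hwDw : w * D * w = 0 := by
      calc w * D * w = v * (y * D) * w - y * v * D * v * y + y * v * (D * y) * v := by
            rw [hw]; noncomm_ring
        _ = 0 := by
          rw [hyD, hDy, mul_assoc y v D, mul_assoc y (v * D) v, W.vDv, hyvy]; simp
    have R : ClassTwoPair G w D :=
      ⟨hwm, hDm, hwDw, tst_eq_zero h2 hwm hDm hwDw, by rw [hwD]; exact neg_ne_zero.2 hy.2.1⟩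
    have := R.finrank_right_le h2
    rwa [hwD, cls_eq hy (neg_mem (self_mem_cls hy.1)) (neg_ne_zero.2 hy.2.1)] at this
  have hD1 : ∀ z ∈ cls G D, D * z = 0 ∧ z * D = 0 := fun z hz =>
    ⟨cls_mul (self_mem_cls hDm.1) hz, cls_mul hz (self_mem_cls hDm.1)⟩
  have hle_b : finrank k (cls G D) ≤ finrank k (cls G b1) :=
    key b1 hb1m (by rw [hb1, mul_sub, hDb', (hD1 _ hb2).1, sub_zero])
      (by rw [hb1, sub_mul, hbD', (hD1 _ hb2).2, sub_zero]) (by
        have e1 : D * v * b1 * (1 - v * D) = D * v * b * (1 - v * D) := by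
          calc D * v * b1 * (1 - v * D)
              = D * v * b * (1 - v * D) -
                  D * v * (D * v) * b * (v * D - v * D * v * D) := by rw [hb1, hb2e]; noncomm_ring
            _ = _ := by rw [W.vDv, sub_self, mul_zero, sub_zero]
        have e2 : (1 - D * v) * b1 * (v * D) = (1 - D * v) * b * (v * D) := by
          calc (1 - D * v) * b1 * (v * D)
              = (1 - D * v) * b * (v * D) -
                  (D * v - D * v * D * v) * b * (v * D) * (v * D) := by rw [hb1, hb2e]; noncomm_ring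
            _ = _ := by rw [W.DvD, sub_self, zero_mul, zero_mul, zero_mul, sub_zero]
        rw [e1, e2]; exact hsb)
  have hle_a : finrank k (cls G D) ≤ finrank k (cls G a1) :=
    key a1 ha1m (by rw [ha1, mul_sub, hDa, (hD1 _ ha2).1, sub_zero])
      (by rw [ha1, sub_mul, haD, (hD1 _ ha2).2, sub_zero]) (by
        have e1 : D * v * a1 * (1 - v * D) = D * v * a * (1 - v * D) := by
          calc D * v * a1 * (1 - v * D)
              = D * v * a * (1 - v * D) -
                  D * v * (D * v) * a * (v * D - v * D * v * D) := by rw [ha1, ha2e]; noncomm_ring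
            _ = _ := by rw [W.vDv, sub_self, mul_zero, sub_zero]
        have e2 : (1 - D * v) * a1 * (v * D) = (1 - D * v) * a * (v * D) := by
          calc (1 - D * v) * a1 * (v * D)
              = (1 - D * v) * a * (v * D) -
                  (D * v - D * v * D * v) * a * (v * D) * (v * D) := by rw [ha1, ha2e]; noncomm_ring
            _ = _ := by rw [W.DvD, sub_self, zero_mul, zero_mul, zero_mul, sub_zero]
        rw [e1, e2]; exact hsa)
  have hcl : cls G (b1 * a1 - a1 * b1) = cls G D := by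
    rw [← neg_sub, hDe]
    exact cls_eq hDm (neg_mem (self_mem_cls hDm.1)) (neg_ne_zero.2 hDm.2.1)
  obtain ⟨x, hx, hxe⟩ := Q.symm.surj_of_finrank h2 (by rwa [hcl]) (z := -b2)
    (by rw [hcl]; exact neg_mem hb2)
  have hxe' : x * b1 - b1 * x = b2 := by rw [← neg_sub, hxe, neg_neg]
  have hx1 : x * b1 * x = 0 := by
    rw [mul_assoc]
    refine (cls_kill hx).1 ?_
    rw [← mul_assoc]
    exact (cls_kill hx).2 Q.aba
  have hconj : (tt x).1 * b1 * (tt x)⁻¹.1 = b := by
    rw [conj_eq hx.1.1, hx1, hxe', hb1, sub_zero, sub_add_cancel]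
  have := finrank_cls_conj_le (s := b1) hx.1.tt_mem
  rw [hconj] at this
  exact hle_b.trans this

/-- The commutator map is onto in the second variable. -/
theorem surj (h2 : (2 : k) ≠ 0) (h3 : Nat.card k ≠ 3) (hirr : Cfsg.IsIrreducibleFor G)
    {z : M →ₗ[k] M} (hz : z ∈ cls G (a * b - b * a)) : ∃ y ∈ cls G b, a * y - y * a = z :=
  P.surj_of_finrank h2 (P.finrank_eq h2 h3 hirr) hz

end ClassTwoPair

/-! ### The groups -/

omit [FiniteDimensional k M] in
theorem commutator_le_of_central {H : Type*} [Group H] {E F L : Subgroup H}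
    (hE : ∀ a ∈ E, ∀ b ∈ E, a * b = b * a) (hF : ∀ a ∈ F, ∀ b ∈ F, a * b = b * a)
    (hEF : ∀ a ∈ E, ∀ b ∈ F, a * b * a⁻¹ * b⁻¹ ∈ L)
    (hL : ∀ c ∈ L, ∀ x ∈ E ⊔ F, c * x = x * c) : ⁅E ⊔ F, E ⊔ F⁆ ≤ L := by
  set X := E ⊔ F with hX
  have step : ∀ h ∈ X, ∀ S : Subgroup H, S ≤ X → (∀ g ∈ S, g * h * g⁻¹ * h⁻¹ ∈ L) →
      ∀ S' : Subgroup H, S' ≤ X → (∀ g ∈ S', g * h * g⁻¹ * h⁻¹ ∈ L) →
      ∀ g ∈ S ⊔ S', g * h * g⁻¹ * h⁻¹ ∈ L := by
    intro h hh S hS h1 S' hS' h1' g hg
    let N : Subgroup H :=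
      { carrier := {g | g ∈ X ∧ g * h * g⁻¹ * h⁻¹ ∈ L}
        one_mem' := ⟨one_mem _, by simp⟩
        mul_mem' := by
          rintro p q ⟨hp, hp'⟩ ⟨hq, hq'⟩
          refine ⟨mul_mem hp hq, ?_⟩
          have e : p * q * h * (p * q)⁻¹ * h⁻¹ =
              (p * (q * h * q⁻¹ * h⁻¹) * p⁻¹) * (p * h * p⁻¹ * h⁻¹) := by group
          rw [e, ← hL _ hq' p hp, mul_inv_cancel_right]
          exact mul_mem hq' hp'
        inv_mem' := by
          rintro p ⟨hp, hp'⟩
          refine ⟨inv_mem hp, ?_⟩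
          have e : p⁻¹ * h * p⁻¹⁻¹ * h⁻¹ = p⁻¹ * (p * h * p⁻¹ * h⁻¹)⁻¹ * p := by group
          rw [e, ← hL _ (inv_mem hp') p⁻¹ (inv_mem hp), inv_mul_cancel_right]
          exact inv_mem hp' }
    have hle : S ⊔ S' ≤ N := sup_le (fun a ha => ⟨hS ha, h1 a ha⟩) (fun a ha => ⟨hS' ha, h1' a ha⟩)
    exact (hle hg).2
  have inv : ∀ {x y : H}, x * y * x⁻¹ * y⁻¹ ∈ L → y * x * y⁻¹ * x⁻¹ ∈ L := fun {x y} h => by
    rw [show y * x * y⁻¹ * x⁻¹ = (x * y * x⁻¹ * y⁻¹)⁻¹ by group]; exact inv_mem h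
  have comm : ∀ {x y : H}, x * y = y * x → x * y * x⁻¹ * y⁻¹ ∈ L := fun {x y} h => by
    rw [h, mul_inv_cancel_right, mul_inv_cancel]; exact one_mem _
  refine Subgroup.commutator_le.2 fun g hg h hh => ?_
  rw [commutatorElement_def]
  refine step h hh E le_sup_left ?_ F le_sup_right ?_ g hg
  · exact fun a ha => inv (step a (le_sup_left (a := E) (b := F) ha) E le_sup_left
      (fun b hb => comm (hE b hb a ha)) F le_sup_right (fun b hb => inv (hEF a ha b hb)) h hh)
  · exact fun a ha => inv (step a (le_sup_right (a := E) (b := F) ha) E le_sup_left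
      (fun b hb => hEF b hb a ha) F le_sup_right (fun b hb => comm (hF b hb a ha)) h hh)

theorem fixedSubmodule_eq {s : M →ₗ[k] M} (hs : IsMin G s) :
    Cfsg.fixedSubmodule (Cfsg.sameActionSubgroup G (tt s)) = LinearMap.ker s := by
  refine le_antisymm (fun w hw => ?_) (fun w hw => ?_)
  · simp only [Cfsg.fixedSubmodule, Submodule.mem_iInf, LinearMap.mem_ker] at hw
    have := hw (tt s) ((mem_sameAction_iff hs).2 ⟨s, self_mem_cls hs.1, rfl⟩)
    simpa [tt_val hs.1.1] using this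
  · simp only [Cfsg.fixedSubmodule, Submodule.mem_iInf]
    intro g hg
    obtain ⟨x, hx, rfl⟩ := (mem_sameAction_iff hs).1 hg
    simpa [tt_val hx.1.1] using hx.2.1 hw

theorem commutatorSubmodule_eq {s : M →ₗ[k] M} (hs : IsMin G s) :
    Cfsg.commutatorSubmodule (Cfsg.sameActionSubgroup G (tt s)) = LinearMap.range s := by
  refine le_antisymm (iSup₂_le fun g hg => ?_) ?_
  · obtain ⟨x, hx, rfl⟩ := (mem_sameAction_iff hs).1 hg
    rw [tt_val hx.1.1, add_sub_cancel_left]
    exact hx.2.2.trans inf_le_left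
  · refine le_trans ?_ (le_iSup₂ (f := fun (g : LinearMap.GeneralLinearGroup k M)
      (_ : g ∈ Cfsg.sameActionSubgroup G (tt s)) => LinearMap.range (g.1 - 1)) (tt s)
      ((mem_sameAction_iff hs).2 ⟨s, self_mem_cls hs.1, rfl⟩))
    rw [tt_val hs.1.1, add_sub_cancel_left]

/-- `U(L)` contains the pair. -/
theorem ClassTwoPair.core {a b : M →ₗ[k] M} (P : ClassTwoPair G a b) (h2 : (2 : k) ≠ 0)
    {x : M →ₗ[k] M} (hx : x ∈ cls G a) :
    x * (a * b - b * a) = 0 ∧ (a * b - b * a) * x = 0 ∧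
      ∀ w, (a * b - b * a) w = 0 → x w ∈ LinearMap.range (a * b - b * a) := by
  rcases eq_or_ne x 0 with rfl | hx0
  · simp
  have Q := P.move hx hx0 h2
  obtain ⟨-, hk, hr⟩ := cls_min P.left hx hx0
  refine ⟨(cls_kill hx).1 P.D_mul.2, (cls_kill hx).2 P.D_mul.1, fun w hw => ?_⟩
  have hD := P.comm_cls hx h2
  obtain ⟨u, hu⟩ := Q.map_ker_le (w := w) (LinearMap.mem_ker.1 (hD.2.1 hw))
  rw [← hu]
  exact (hD.2.2 ⟨u, rfl⟩).1

theorem pair_main (h2 : (2 : k) ≠ 0) (h3 : Nat.card k ≠ 3) (hirr : Cfsg.IsIrreducibleFor G)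
    {a b : M →ₗ[k] M} (P : ClassTwoPair G a b) :
    let E := Cfsg.sameActionSubgroup G (tt a)
    let F := Cfsg.sameActionSubgroup G (tt b)
    ⁅E, F⁆ ∈ Cfsg.quadraticRootSubgroups G ∧
      (∀ e ∈ E, e ≠ 1 → Subgroup.closure ((fun f : LinearMap.GeneralLinearGroup k M => e * f * e⁻¹ * f⁻¹) ''
        (F : Set (LinearMap.GeneralLinearGroup k M))) = ⁅E, F⁆) ∧
      (∀ f ∈ F, f ≠ 1 → Subgroup.closure ((fun e : LinearMap.GeneralLinearGroup k M => e * f * e⁻¹ * f⁻¹) ''
        (E : Set (LinearMap.GeneralLinearGroup k M))) = ⁅E, F⁆) ∧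
      ⁅E ⊔ F, E ⊔ F⁆ ≠ ⊥ ∧ ⁅⁅E ⊔ F, E ⊔ F⁆, E ⊔ F⁆ = ⊥ ∧
      ((E ⊔ F : Subgroup (LinearMap.GeneralLinearGroup k M)) : Set (LinearMap.GeneralLinearGroup k M)) ⊆
        Cfsg.quadraticUnipotentCore G ⁅E, F⁆ := by
  intro E F
  set D := a * b - b * a with hD
  have hDm : IsMin G D := P.min_comm
  set L := Cfsg.sameActionSubgroup G (tt D) with hL
  have hE : ∀ e ∈ E, ∃ x ∈ cls G a, e = tt x := fun e he => (mem_sameAction_iff P.left).1 he
  have hF : ∀ f ∈ F, ∃ y ∈ cls G b, f = tt y := fun f hf => (mem_sameAction_iff P.right).1 hf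
  have hcls : cls G (b * a - a * b) = cls G D := by
    rw [← neg_sub]; exact cls_eq hDm (neg_mem (self_mem_cls hDm.1)) (neg_ne_zero.2 hDm.2.1)
  have hcomm : ∀ x ∈ cls G a, ∀ y ∈ cls G b,
      tt x * tt y * (tt x)⁻¹ * (tt y)⁻¹ = tt (x * y - y * x) := fun x hx y hy =>
    comm_tt hx.1.1 hy.1.1 (P.unip₂ hx hy h2).1 (P.unip₂ hx hy h2).2
  have hmemL : ∀ e ∈ E, ∀ f ∈ F, e * f * e⁻¹ * f⁻¹ ∈ L := by
    intro e he f hf
    obtain ⟨x, hx, rfl⟩ := hE e he
    obtain ⟨y, hy, rfl⟩ := hF f hf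
    rw [hcomm x hx y hy]
    exact (mem_sameAction_iff hDm).2 ⟨_, P.comm_cls₂ hx hy h2, rfl⟩
  have hle : ⁅E, F⁆ ≤ L := by
    refine Subgroup.commutator_le.2 fun e he f hf => ?_
    rw [commutatorElement_def]; exact hmemL e he f hf
  have hsurjE : ∀ x ∈ cls G a, x ≠ 0 → ∀ g ∈ L, ∃ f ∈ F, tt x * f * (tt x)⁻¹ * f⁻¹ = g := by
    intro x hx hx0 g hg
    obtain ⟨z, hz, rfl⟩ := (mem_sameAction_iff hDm).1 hg
    have Q := P.move hx hx0 h2
    obtain ⟨y, hy, rfl⟩ := Q.surj h2 h3 hirr (z := z) (by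
      rwa [cls_eq hDm (P.comm_cls hx h2) Q.ne])
    exact ⟨tt y, (mem_sameAction_iff P.right).2 ⟨y, hy, rfl⟩, hcomm x hx y hy⟩
  have hsurjF : ∀ y ∈ cls G b, y ≠ 0 → ∀ g ∈ L, ∃ e ∈ E, e * tt y * e⁻¹ * (tt y)⁻¹ = g := by
    intro y hy hy0 g hg
    obtain ⟨z, hz, rfl⟩ := (mem_sameAction_iff hDm).1 hg
    have Q := P.symm.move hy hy0 h2
    have hQc : cls G (y * a - a * y) = cls G D :=
      (cls_eq P.symm.min_comm (P.symm.comm_cls hy h2) Q.ne).trans hcls
    obtain ⟨x, hx, hxe⟩ := Q.surj h2 h3 hirr (z := -z) (by rw [hQc]; exact neg_mem hz)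
    refine ⟨tt x, (mem_sameAction_iff P.left).2 ⟨x, hx, rfl⟩, ?_⟩
    rw [hcomm x hx y hy, ← neg_sub, hxe, neg_neg]
  have hLeq : ⁅E, F⁆ = L := by
    refine le_antisymm hle fun g hg => ?_
    obtain ⟨f, hf, rfl⟩ := hsurjE a (self_mem_cls P.left.1) P.left.2.1 g hg
    rw [← commutatorElement_def]
    exact Subgroup.commutator_mem_commutator ((mem_sameAction_iff P.left).2 ⟨a, self_mem_cls P.left.1, rfl⟩) hf
  have hne : ∀ {s : M →ₗ[k] M} {g : LinearMap.GeneralLinearGroup k M}, IsMin G s →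
      g ∈ Cfsg.sameActionSubgroup G (tt s) → g ≠ 1 → ∃ x ∈ cls G s, x ≠ 0 ∧ g = tt x := by
    intro s g hs hg hg1
    obtain ⟨x, hx, rfl⟩ := (mem_sameAction_iff hs).1 hg
    exact ⟨x, hx, fun h => hg1 (by rw [h, tt_zero]), rfl⟩
  have hab : ∀ {s : M →ₗ[k] M}, IsMin G s → ∀ p ∈ Cfsg.sameActionSubgroup G (tt s),
      ∀ q ∈ Cfsg.sameActionSubgroup G (tt s), p * q = q * p := by
    intro s hs p hp q hq
    obtain ⟨x, hx, rfl⟩ := (mem_sameAction_iff hs).1 hp
    obtain ⟨y, hy, rfl⟩ := (mem_sameAction_iff hs).1 hq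
    rw [commute_tt_iff hx.1.1 hy.1.1, cls_mul hx hy, cls_mul hy hx]
  have hgen : ∀ x ∈ E ⊔ F, ∀ c ∈ L, c * x = x * c := by
    have hle' : E ⊔ F ≤ Subgroup.centralizer (L : Set (LinearMap.GeneralLinearGroup k M)) := by
      refine sup_le (fun e he => Subgroup.mem_centralizer_iff.2 fun c hc => ?_)
        (fun f hf => Subgroup.mem_centralizer_iff.2 fun c hc => ?_)
      · obtain ⟨x, hx, rfl⟩ := hE e he
        obtain ⟨z, hz, rfl⟩ := (mem_sameAction_iff hDm).1 hc
        rw [commute_tt_iff hz.1.1 hx.1.1, (cls_kill hz).1 (P.core h2 hx).2.1,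
          (cls_kill hz).2 (P.core h2 hx).1]
      · obtain ⟨y, hy, rfl⟩ := hF f hf
        obtain ⟨z, hz, rfl⟩ := (mem_sameAction_iff hDm).1 hc
        rw [← hcls] at hz
        rw [commute_tt_iff hz.1.1 hy.1.1, (cls_kill hz).1 (P.symm.core h2 hy).2.1,
          (cls_kill hz).2 (P.symm.core h2 hy).1]
    exact fun x hx c hc => Subgroup.mem_centralizer_iff.1 (hle' hx) c hc
  have hder : ⁅E ⊔ F, E ⊔ F⁆ ≤ L :=
    commutator_le_of_central (hab P.left) (hab P.right) hmemL fun c hc x hx => hgen x hx c hc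
  refine ⟨hLeq ▸ mem_rootSubgroups_iff.2 ⟨D, hDm, rfl⟩, ?_, ?_, ?_, ?_, ?_⟩
  · intro e he he1
    obtain ⟨x, hx, hx0, rfl⟩ := hne P.left he he1
    rw [hLeq]
    refine le_antisymm ((Subgroup.closure_le _).2 ?_) fun g hg => ?_
    · rintro _ ⟨f, hf, rfl⟩; exact hmemL _ he f hf
    · obtain ⟨f, hf, rfl⟩ := hsurjE x hx hx0 g hg
      exact Subgroup.subset_closure ⟨f, hf, rfl⟩
  · intro f hf hf1
    obtain ⟨y, hy, hy0, rfl⟩ := hne P.right hf hf1
    rw [hLeq]
    refine le_antisymm ((Subgroup.closure_le _).2 ?_) fun g hg => ?_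
    · rintro _ ⟨e, he, rfl⟩; exact hmemL e he _ hf
    · obtain ⟨e, he, rfl⟩ := hsurjF y hy hy0 g hg
      exact Subgroup.subset_closure ⟨e, he, rfl⟩
  · intro hbot
    have hDL : tt D ∈ L := (mem_sameAction_iff hDm).2 ⟨D, self_mem_cls hDm.1, rfl⟩
    rw [← hLeq] at hDL
    have := Subgroup.commutator_mono (le_sup_left (a := E) (b := F)) (le_sup_right (a := E) (b := F)) hDL
    rw [hbot, Subgroup.mem_bot, ← tt_zero] at this
    exact hDm.2.1 (tt_inj hDm.1.1 (mul_zero _) this)
  · refine eq_bot_iff.2 ((Subgroup.commutator_mono hder le_rfl).trans (le_of_eq ?_))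
    exact Subgroup.commutator_eq_bot_iff_le_centralizer.2 fun c hc =>
      Subgroup.mem_centralizer_iff.2 fun x hx => (hgen x hx c hc).symm
  · rw [hLeq]
    intro g hg
    have hQ : ∀ g ∈ E ⊔ F, g ∈ G ∧ (∀ m, g.1 m - m ∈ LinearMap.ker D) ∧
        (∀ m ∈ LinearMap.ker D, g.1 m - m ∈ LinearMap.range D) ∧
        (∀ m ∈ LinearMap.range D, g.1 m = m) := by
      have hRK : LinearMap.range D ≤ LinearMap.ker D := by
        rintro _ ⟨w, rfl⟩
        exact LinearMap.congr_fun hDm.1.1 w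
      let Q : Subgroup (LinearMap.GeneralLinearGroup k M) :=
        { carrier := {g | g ∈ G ∧ (∀ m, g.1 m - m ∈ LinearMap.ker D) ∧
            (∀ m ∈ LinearMap.ker D, g.1 m - m ∈ LinearMap.range D) ∧
            (∀ m ∈ LinearMap.range D, g.1 m = m)}
          one_mem' := ⟨one_mem _, fun m => by simp, fun m _ => by simp, fun m _ => rfl⟩
          mul_mem' := by
            rintro p q ⟨hp, p1, p2, p3⟩ ⟨hq, q1, q2, q3⟩
            have e : ∀ m, (p * q).1 m - m = (p.1 (q.1 m) - q.1 m) + (q.1 m - m) := fun m => by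
              rw [Units.val_mul, Module.End.mul_apply]; abel
            refine ⟨mul_mem hp hq, fun m => ?_, fun m hm => ?_, fun m hm => ?_⟩
            · rw [e]; exact add_mem (p1 _) (q1 m)
            · rw [e]
              refine add_mem (p2 _ ?_) (q2 m hm)
              simpa using add_mem (hRK (q2 m hm)) hm
            · rw [Units.val_mul, Module.End.mul_apply, q3 m hm, p3 m hm]
          inv_mem' := by
            rintro p ⟨hp, p1, p2, p3⟩
            have hpi : ∀ m, p.1 (p⁻¹.1 m) = m := fun m => LinearMap.congr_fun p.mul_inv m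
            have hip : ∀ m, p⁻¹.1 (p.1 m) = m := fun m => LinearMap.congr_fun p.inv_mul m
            have e : ∀ m, p⁻¹.1 m - m = -(p.1 (p⁻¹.1 m) - p⁻¹.1 m) := fun m => by
              rw [hpi, neg_sub]
            refine ⟨inv_mem hp, fun m => ?_, fun m hm => ?_, fun m hm => ?_⟩
            · rw [e]; exact neg_mem (p1 _)
            · have hk : p⁻¹.1 m ∈ LinearMap.ker D := by
                have := add_mem (neg_mem (p1 (p⁻¹.1 m))) hm
                rw [← e] at this
                simpa using this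
              rw [e]; exact neg_mem (p2 _ hk)
            · conv_lhs => rw [← p3 m hm]
              exact hip m }
      intro g hg
      refine (show E ⊔ F ≤ Q from sup_le (fun e he => ?_) (fun f hf => ?_)) hg
      · obtain ⟨x, hx, rfl⟩ := hE e he
        obtain ⟨k1, k2, k3⟩ := P.core h2 hx
        rw [← hD] at k1 k2 k3
        refine ⟨hx.1.tt_mem, fun m => ?_, fun m hm => ?_, ?_⟩
        · simpa [tt_val hx.1.1] using LinearMap.congr_fun k2 m
        · simpa [tt_val hx.1.1] using k3 m hm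
        · rintro _ ⟨w, rfl⟩
          simpa [tt_val hx.1.1] using LinearMap.congr_fun k1 w
      · obtain ⟨y, hy, rfl⟩ := hF f hf
        obtain ⟨k1, k2, k3⟩ := P.symm.core h2 hy
        have hneg : b * a - a * b = -D := (neg_sub _ _).symm
        rw [hneg] at k1 k2 k3
        rw [mul_neg, neg_eq_zero] at k1
        rw [neg_mul, neg_eq_zero] at k2
        refine ⟨hy.1.tt_mem, fun m => ?_, fun m hm => ?_, ?_⟩
        · simpa [tt_val hy.1.1] using LinearMap.congr_fun k2 m
        · obtain ⟨u, hu⟩ := k3 m (by simp [LinearMap.mem_ker.1 hm])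
          exact ⟨-u, by simpa [tt_val hy.1.1] using hu⟩
        · rintro _ ⟨w, rfl⟩
          simpa [tt_val hy.1.1] using LinearMap.congr_fun k1 w
    obtain ⟨g0, g1, g2, g3⟩ := hQ g hg
    refine ⟨g0, Subgroup.mem_normalizer_iff.2 fun c => ?_, ?_, ?_, ?_⟩
    · constructor
      · intro hc
        rwa [← hgen g hg c hc, mul_inv_cancel_right]
      · intro hc
        have h := hgen g hg _ hc
        rw [inv_mul_cancel_right] at h
        rwa [← mul_left_cancel h] at hc
    · rw [fixedSubmodule_eq hDm]; exact g1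
    · rw [fixedSubmodule_eq hDm, commutatorSubmodule_eq hDm]; exact g2
    · rw [commutatorSubmodule_eq hDm]; exact g3

end CfsgLib.Quadratic.TwoStep
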