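import Cfsg.Agent.Lib.Quadratic.Root

/-!
Two non-commuting subgroups `E(σ)` acting unipotently: their commutator is a third one.
-/

set_option autoImplicit false

namespace CfsgLib.Quadratic

open CfsgLib.RootGroups
open scoped commutatorElement

variable {k : Type*} [Field k] {M : Type*} [AddCommGroup M] [Module k M] [FiniteDimensional k M]
  {G : Subgroup (LinearMap.GeneralLinearGroup k M)} {s t x y : M →ₗ[k] M}

/-- The common range of the commutators. -/
def rangeC (s t : M →ₗ[k] M) : Submodule k M :=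
  (LinearMap.range s ⊓ LinearMap.ker t) ⊔ (LinearMap.range t ⊓ LinearMap.ker s)

/-- The common kernel of the commutators. -/
def kerC (s t : M →ₗ[k] M) : Submodule k M :=
  (LinearMap.ker t ⊔ LinearMap.range s) ⊓ (LinearMap.ker s ⊔ LinearMap.range t)

theorem finrank_range_mul (a b : M →ₗ[k] M) :
    rk (a * b) + Module.finrank k (LinearMap.range b ⊓ LinearMap.ker a : Submodule k M) = rk b := by
  have h := (a.domRestrict (LinearMap.range b)).finrank_range_add_finrank_ker
  have h1 : LinearMap.range (a.domRestrict (LinearMap.range b)) = LinearMap.range (a * b) := by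
    rw [LinearMap.range_domRestrict, Module.End.mul_eq_comp, LinearMap.range_comp]
  have h2 : LinearMap.ker (a.domRestrict (LinearMap.range b)) =
      (LinearMap.range b ⊓ LinearMap.ker a).comap (LinearMap.range b).subtype := by
    ext v; simp
  rw [h1, h2, (Submodule.comapSubtypeEquivOfLe inf_le_left).finrank_eq] at h
  exact h

/-- What is common to all commutators of two classes. -/
structure CommData (s t x y : M →ₗ[k] M) : Prop where
  range_le : LinearMap.range (x * y - y * x) ≤ rangeC s t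
  ker_le : kerC s t ≤ LinearMap.ker (x * y - y * x)
  rk_le : rk (x * y - y * x) ≤ rk s

theorem rk_sub_le_add (a b : M →ₗ[k] M) : rk (a - b) ≤ rk a + rk b := by
  refine le_trans (Submodule.finrank_mono ?_)
    (Submodule.finrank_add_le_finrank_add_finrank (LinearMap.range a) (LinearMap.range b))
  rintro _ ⟨v, rfl⟩
  exact Submodule.sub_mem _ (Submodule.mem_sup_left ⟨v, rfl⟩) (Submodule.mem_sup_right ⟨v, rfl⟩)

theorem range_inf_congr (hs : IsMin G s) (ht : IsMin G t) (hx : x ∈ cls G s) (hx0 : x ≠ 0)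
    (hy : y ∈ cls G t) (hy0 : y ≠ 0) :
    (LinearMap.range x ⊓ LinearMap.ker y) = LinearMap.range s ⊓ LinearMap.ker t := by
  rw [(cls_min hs hx hx0).2.2, (cls_min ht hy hy0).2.1]

theorem commData (h2 : (2 : k) ≠ 0) (hs : IsMin G s) (ht : IsMin G t) (hst : s * t * s = 0)
    (hx : x ∈ cls G s) (hx0 : x ≠ 0) (hy : y ∈ cls G t) (hy0 : y ≠ 0) :
    CommData s t x y ∧ x * y * x = 0 ∧ y * x * y = 0 ∧
      LinearMap.range (x * y) ≤ LinearMap.range s ⊓ LinearMap.ker t ∧
      LinearMap.range (y * x) ≤ LinearMap.range t ⊓ LinearMap.ker s := by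
  obtain ⟨hmx, hkx, hrx⟩ := cls_min hs hx hx0
  obtain ⟨hmy, hky, hry⟩ := cls_min ht hy hy0
  have hts := tst_eq_zero h2 hs ht hst
  have hxyx := triple_zero_congr hst hs hx hx hy ht h2
  have hyxy := triple_zero_congr hts ht hy hy hx hs h2
  have hr1 : LinearMap.range (x * y) ≤ LinearMap.range s ⊓ LinearMap.ker t := by
    rintro _ ⟨v, rfl⟩
    refine ⟨hrx ▸ LinearMap.mem_range_self x (y v), ?_⟩
    rw [← hky]
    exact LinearMap.congr_fun hyxy v
  have hr2 : LinearMap.range (y * x) ≤ LinearMap.range t ⊓ LinearMap.ker s := by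
    rintro _ ⟨v, rfl⟩
    refine ⟨hry ▸ LinearMap.mem_range_self y (x v), ?_⟩
    rw [← hkx]
    exact LinearMap.congr_fun hxyx v
  refine ⟨⟨?_, ?_, ?_⟩, hxyx, hyxy, hr1, hr2⟩
  · rintro _ ⟨v, rfl⟩
    exact Submodule.sub_mem _ (Submodule.mem_sup_left (hr1 ⟨v, rfl⟩))
      (Submodule.mem_sup_right (hr2 ⟨v, rfl⟩))
  · intro v hv
    have k1 : LinearMap.ker t ⊔ LinearMap.range s ≤ LinearMap.ker (x * y) := by
      refine sup_le (fun w hw => ?_) ?_
      · rw [LinearMap.mem_ker, mul_apply', LinearMap.mem_ker.1 (hy.2.1 hw), map_zero]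
      · rw [← hrx]; rintro _ ⟨w, rfl⟩; exact LinearMap.congr_fun hxyx w
    have k2 : LinearMap.ker s ⊔ LinearMap.range t ≤ LinearMap.ker (y * x) := by
      refine sup_le (fun w hw => ?_) ?_
      · rw [LinearMap.mem_ker, mul_apply', LinearMap.mem_ker.1 (hx.2.1 hw), map_zero]
      · rw [← hry]; rintro _ ⟨w, rfl⟩; exact LinearMap.congr_fun hyxy w
    rw [LinearMap.mem_ker, LinearMap.sub_apply, LinearMap.mem_ker.1 (k1 hv.1),
      LinearMap.mem_ker.1 (k2 hv.2), sub_zero]
  · refine (rk_sub_le_add _ _).trans ?_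
    have e1 := finrank_range_mul x y
    have e2 : rk (y * x) ≤ Module.finrank k (LinearMap.range y ⊓ LinearMap.ker x : Submodule k M) :=
      Submodule.finrank_mono (by rw [hry, hkx]; exact hr2)
    have hd : rk y ≤ rk s := (cls_min ht hy hy0).1.2.2 s hs.1 hs.2.1
    omega

/-- Once one commutator is non-trivial, all are, and they share kernel and range. -/
theorem comm_all (h2 : (2 : k) ≠ 0) (hs : IsMin G s) (ht : IsMin G t) (hst : s * t * s = 0)
    (h0 : s * t - t * s ≠ 0) (hx : x ∈ cls G s) (hy : y ∈ cls G t) :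
    IsMin G (s * t - t * s) ∧ x * y - y * x ∈ cls G (s * t - t * s) ∧
      (x * y - y * x = 0 → x = 0 ∨ y = 0) ∧
      LinearMap.range (s * t - t * s) = rangeC s t ∧ LinearMap.ker (s * t - t * s) = kerC s t := by
  obtain ⟨hC, -, -, h4, h5⟩ := commData h2 hs ht hst (self_mem_cls hs.1) hs.2.1 (self_mem_cls ht.1) ht.2.1
  have hts := tst_eq_zero h2 hs ht hst
  have hfam : Fam G (s * t - t * s) := hs.1.comm ht.1 hst hts
  have hmin : IsMin G (s * t - t * s) := hs.of_rk hfam h0 hC.rk_le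
  have hd := hs.2.2 _ hfam h0
  have hd' : rk t = rk s := le_antisymm (ht.2.2 _ hs.1 hs.2.1) (hs.2.2 _ ht.1 ht.2.1)
  set a := Module.finrank k (LinearMap.range t ⊓ LinearMap.ker s : Submodule k M) with ha
  set b := Module.finrank k (LinearMap.range s ⊓ LinearMap.ker t : Submodule k M) with hb
  have e1 : rk (s * t) + a = rk t := finrank_range_mul s t
  have e2 : rk (t * s) + b = rk s := finrank_range_mul t s
  have l1 : rk (s * t) ≤ b := Submodule.finrank_mono h4
  have l2 : rk (t * s) ≤ a := Submodule.finrank_mono h5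
  have l3 := rk_sub_le_add (s * t) (t * s)
  have hab : a + b = rk s := by omega
  have hR : Module.finrank k (rangeC s t) + Module.finrank k
      ((LinearMap.range s ⊓ LinearMap.ker t) ⊓ (LinearMap.range t ⊓ LinearMap.ker s) : Submodule k M) =
      b + a := Submodule.finrank_sup_add_finrank_inf_eq _ _
  have hRle : rk (s * t - t * s) ≤ Module.finrank k (rangeC s t) := Submodule.finrank_mono hC.range_le
  have hrange : LinearMap.range (s * t - t * s) = rangeC s t :=
    Submodule.eq_of_le_of_finrank_le hC.range_le (by show _ ≤ rk (s * t - t * s); omega)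
  have hdisj : (LinearMap.range s ⊓ LinearMap.ker t) ⊓ (LinearMap.range t ⊓ LinearMap.ker s) = ⊥ :=
    Submodule.finrank_eq_zero.1 (by omega)
  have hker : LinearMap.ker (s * t - t * s) = kerC s t := by
    refine (Submodule.eq_of_le_of_finrank_le hC.ker_le ?_).symm
    have q0 : Module.finrank k (kerC s t) +
        Module.finrank k ((LinearMap.ker t ⊔ LinearMap.range s) ⊔ (LinearMap.ker s ⊔ LinearMap.range t) : Submodule k M) =
        Module.finrank k (LinearMap.ker t ⊔ LinearMap.range s : Submodule k M) +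
          Module.finrank k (LinearMap.ker s ⊔ LinearMap.range t : Submodule k M) := by
      rw [add_comm]; exact Submodule.finrank_sup_add_finrank_inf_eq _ _
    have q1 := Submodule.finrank_sup_add_finrank_inf_eq (LinearMap.ker t) (LinearMap.range s)
    have q2 := Submodule.finrank_sup_add_finrank_inf_eq (LinearMap.ker s) (LinearMap.range t)
    rw [inf_comm (LinearMap.ker t)] at q1
    rw [inf_comm (LinearMap.ker s)] at q2
    have q3 := Submodule.finrank_le
      ((LinearMap.ker t ⊔ LinearMap.range s) ⊔ (LinearMap.ker s ⊔ LinearMap.range t))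
    have r1 := (s * t - t * s).finrank_range_add_finrank_ker
    have r2 := s.finrank_range_add_finrank_ker
    have r3 := t.finrank_range_add_finrank_ker
    simp only [rk] at *
    omega
  refine ⟨hmin, ?_, ?_, hrange, hker⟩
  · rcases eq_or_ne x 0 with rfl | hx0
    · simp
    rcases eq_or_ne y 0 with rfl | hy0
    · simp
    obtain ⟨hC', k1, k2, -, -⟩ := commData h2 hs ht hst hx hx0 hy hy0
    refine ⟨hx.1.comm hy.1 k1 k2, hker ▸ hC'.ker_le, le_inf (hrange ▸ hC'.range_le) ?_⟩
    refine hC'.range_le.trans ?_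
    rw [← hrange]
    rintro _ ⟨v, rfl⟩
    exact LinearMap.congr_fun hfam.1 v
  · intro h
    by_contra hcon
    push Not at hcon
    obtain ⟨hx0, hy0⟩ := hcon
    obtain ⟨-, -, -, k4, k5⟩ := commData h2 hs ht hst hx hx0 hy hy0
    have hxy : x * y = 0 := by
      refine LinearMap.ext fun v => ?_
      have : (x * y) v ∈ (LinearMap.range s ⊓ LinearMap.ker t) ⊓ (LinearMap.range t ⊓ LinearMap.ker s) :=
        ⟨k4 ⟨v, rfl⟩, k5 ⟨v, by rw [sub_eq_zero.1 h]⟩⟩
      rw [hdisj, Submodule.mem_bot] at this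
      rw [this]; rfl
    have hyx : y * x = 0 := by rw [← sub_eq_zero.1 h, hxy]
    have f1 := finrank_range_mul x y
    have f2 := finrank_range_mul y x
    rw [range_inf_congr hs ht hx hx0 hy hy0] at f2
    rw [range_inf_congr ht hs hy hy0 hx hx0] at f1
    have g1 : rk (x * y) = 0 := by rw [hxy, rk, LinearMap.range_zero, finrank_bot]
    have g2 : rk (y * x) = 0 := by rw [hyx, rk, LinearMap.range_zero, finrank_bot]
    have g3 : rk y = rk s := le_antisymm ((cls_min ht hy hy0).1.2.2 _ hs.1 hs.2.1) (hs.2.2 _ hy.1 hy0)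
    have g4 : rk x = rk s := le_antisymm ((cls_min hs hx hx0).1.2.2 _ hs.1 hs.2.1) (hs.2.2 _ hx.1 hx0)
    have g5 : 0 < rk s := by
      rw [rk, Nat.pos_iff_ne_zero, ne_eq, Submodule.finrank_eq_zero, LinearMap.range_eq_bot]
      exact hs.2.1
    omega

/-- The commutator map for a fixed left entry. -/
theorem finrank_le_comm (h2 : (2 : k) ≠ 0) (hs : IsMin G s) (ht : IsMin G t) (hst : s * t * s = 0)
    (h0 : s * t - t * s ≠ 0) (hx : x ∈ cls G s) (hx0 : x ≠ 0) :
    ∃ f : cls G t →ₗ[k] cls G (s * t - t * s), Function.Injective f ∧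
      ∀ y, (f y : M →ₗ[k] M) = x * y.1 - y.1 * x := by
  refine ⟨LinearMap.codRestrict _
    (((LinearMap.mulLeft k x) - (LinearMap.mulRight k x)).comp (cls G t).subtype)
    (fun y => (comm_all h2 hs ht hst h0 hx y.2).2.1), ?_, fun y => rfl⟩
  rw [injective_iff_map_eq_zero]
  intro y hy
  rcases (comm_all h2 hs ht hst h0 hx y.2).2.2.1 (congrArg Subtype.val hy) with h | h
  · exact absurd h hx0
  · exact Subtype.ext h

theorem finrank_cls_conj_le {g : LinearMap.GeneralLinearGroup k M} (hg : g ∈ G) (u : M →ₗ[k] M) :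
    Module.finrank k (cls G u) ≤ Module.finrank k (cls G (g.1 * u * g⁻¹.1)) := by
  let f : cls G u →ₗ[k] cls G (g.1 * u * g⁻¹.1) :=
    LinearMap.codRestrict _
      (((LinearMap.mulRight k g⁻¹.1).comp (LinearMap.mulLeft k g.1)).comp (cls G u).subtype)
      (fun x => cls_conj_mem hg x.2)
  refine LinearMap.finrank_le_finrank_of_injective (f := f) fun a b hab => Subtype.ext ?_
  have := congrArg (fun z : cls G (g.1 * u * g⁻¹.1) => g⁻¹.1 * z.1 * g.1) hab
  change g⁻¹.1 * (g.1 * a.1 * g⁻¹.1) * g.1 = g⁻¹.1 * (g.1 * b.1 * g⁻¹.1) * g.1 at this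
  have e : ∀ z : M →ₗ[k] M, g⁻¹.1 * (g.1 * z * g⁻¹.1) * g.1 = z := fun z => by
    rw [show g⁻¹.1 * (g.1 * z * g⁻¹.1) * g.1 = (g⁻¹.1 * g.1) * z * (g⁻¹.1 * g.1) by noncomm_ring,
      Units.inv_mul, one_mul, mul_one]
  rwa [e, e] at this

theorem finrank_cls_opp (h2 : (2 : k) ≠ 0) (h3 : Nat.card k ≠ 3) (hs : IsMin G s) (ht : IsMin G t)
    (hst : s * t * s ≠ 0) : Module.finrank k (cls G s) = Module.finrank k (cls G t) := by
  have key : ∀ {u v : M →ₗ[k] M}, IsMin G u → IsMin G v → u * v * u ≠ 0 →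
      Module.finrank k (cls G u) ≤ Module.finrank k (cls G v) := by
    intro u v hu hv huv
    obtain ⟨w, hw, hw0, hP⟩ := exists_partner' h2 h3 hu hv huv (self_mem_cls hu.1) hu.2.1
    have h := finrank_cls_conj_le (swp_mem hP) u
    rwa [(swp_conj hP).1, cls_eq hv (neg_mem hw) (neg_ne_zero.2 hw0)] at h
  exact le_antisymm (key hs ht hst) (key ht hs fun h => hst (tst_eq_zero h2 ht hs h))

theorem exists_partner_of_min (h2 : (2 : k) ≠ 0) (h3 : Nat.card k ≠ 3) (hG : Cfsg.IsQuadraticPair G)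
    (hs : IsMin G s) : ∃ ρ, ρ ≠ 0 ∧ Partner G s ρ := by
  obtain ⟨g, hg, hne⟩ := exists_opposite h2 hG hs
  obtain ⟨ρ, -, hρ0, hP⟩ := exists_partner' h2 h3 hs (hs.conj hg) hne (self_mem_cls hs.1) hs.2.1
  exact ⟨ρ, hρ0, hP⟩

theorem finrank_comm_le (h2 : (2 : k) ≠ 0) (h3 : Nat.card k ≠ 3) (hG : Cfsg.IsQuadraticPair G)
    (hs : IsMin G s) (ht : IsMin G t) (hst : s * t * s = 0) (h0 : s * t - t * s ≠ 0) :
    Module.finrank k (cls G (s * t - t * s)) ≤ Module.finrank k (cls G s) := by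
  obtain ⟨hδ, -, -, -, -⟩ := comm_all h2 hs ht hst h0 (self_mem_cls hs.1) (self_mem_cls ht.1)
  set δ := s * t - t * s with hδdef
  have hts := tst_eq_zero h2 hs ht hst
  have hss := hs.1.1
  have hsδ : s * δ = 0 := by
    rw [hδdef, mul_sub, ← mul_assoc, ← mul_assoc, hss, hst, zero_mul, sub_zero]
  have hδs : δ * s = 0 := by
    rw [hδdef, sub_mul, mul_assoc t s s, hss, hst, mul_zero, sub_zero]
  obtain ⟨ρ, -, hP⟩ := exists_partner_of_min h2 h3 hG hs
  have hρ := hP.miny
  have hsρs := hP.xyx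
  by_cases hρδ : δ * ρ * δ = 0
  swap
  · exact le_of_eq ((finrank_cls_opp h2 h3 hδ hρ hρδ).trans
      (finrank_cls_opp h2 h3 hs hρ (hsρs.symm ▸ hs.2.1)).symm)
  have hρδρ : ρ * δ * ρ = 0 := tst_eq_zero h2 hδ hρ hρδ
  -- `δ` is made up of the parts through `s ρ` and `ρ s`
  have hsplit : δ = s * ρ * δ + δ * ρ * s := by
    have e : s * ρ * t * s = s * t * ρ * s := by
      have h := congrArg (fun z => s * z * s) hρδρ
      simp only [mul_zero, zero_mul] at h
      have e1 : s * (ρ * δ * ρ) * s = (s * ρ * s) * t * ρ * s - s * ρ * t * (s * ρ * s) := by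
        rw [hδdef]; noncomm_ring
      rw [e1, hsρs, sub_eq_zero] at h
      exact h.symm
    have e2 : s * ρ * δ + δ * ρ * s =
        (s * ρ * s) * t - t * (s * ρ * s) - (s * ρ * t * s - s * t * ρ * s) := by
      rw [hδdef]; noncomm_ring
    rw [e2, hsρs, e, sub_self, sub_zero]
  obtain ⟨ω, -, hQ⟩ := exists_partner_of_min h2 h3 hG hδ
  have hω := hQ.miny
  by_cases hsω : s * ω * s = 0
  swap
  · exact le_of_eq ((finrank_cls_opp h2 h3 hδ hω (hQ.xyx.symm ▸ hδ.2.1)).trans
      (finrank_cls_opp h2 h3 hs hω hsω).symm)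
  have hωsω : ω * s * ω = 0 := tst_eq_zero h2 hs hω hsω
  set η := s * ω - ω * s with hηdef
  have hδηδ : δ * η * δ = 0 := by
    rw [hηdef, show δ * (s * ω - ω * s) * δ = (δ * s) * ω * δ - δ * ω * (s * δ) by noncomm_ring,
      hδs, hsδ]; simp
  set κ := δ * η - η * δ with hκdef
  have hκeq : κ = -(δ * ω * s + s * ω * δ) := by
    rw [hκdef, hηdef, show δ * (s * ω - ω * s) - (s * ω - ω * s) * δ =
      (δ * s) * ω + ω * (s * δ) - (δ * ω * s + s * ω * δ) by noncomm_ring, hδs, hsδ]; simp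
  have hκ0 : κ ≠ 0 := by
    intro h
    rw [hκeq, neg_eq_zero] at h
    have hb : s * ω * δ = 0 := by
      have h' := congrArg (fun z => z * (ω * δ)) h
      simp only [zero_mul] at h'
      rwa [show (δ * ω * s + s * ω * δ) * (ω * δ) = δ * (ω * s * ω) * δ + s * ω * (δ * ω * δ) by
        noncomm_ring, hωsω, hQ.xyx, mul_zero, zero_mul, zero_add] at h'
    have ha : δ * ω * s = 0 := by rwa [hb, add_zero] at h
    apply hδ.2.1
    have e1 : δ * ω * δ = δ * ω * s * ρ * δ + δ * ω * δ * ρ * s := by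
      conv_lhs => arg 2; rw [hsplit]
      noncomm_ring
    rw [ha, hQ.xyx, zero_mul, zero_mul, zero_add] at e1
    have e3 : δ * ω * δ = s * ρ * (δ * ω * δ) + δ * ρ * (s * ω * δ) := by
      conv_lhs => rw [mul_assoc]; arg 1; rw [hsplit]
      noncomm_ring
    rw [hb, hQ.xyx, mul_zero, add_zero] at e3
    rw [← e1, ← e3] at hsplit
    exact left_eq_add.1 hsplit
  have hη0 : η ≠ 0 := fun e => hκ0 (by rw [hκdef, e, mul_zero, zero_mul, sub_zero])
  have hη : IsMin G η := (comm_all h2 hs hω hsω hη0 (self_mem_cls hs.1) (self_mem_cls hω.1)).1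
  obtain ⟨hκ, -, -, -, -⟩ := comm_all h2 hδ hη hδηδ hκ0 (self_mem_cls hδ.1) (self_mem_cls hη.1)
  have hκs : κ ∈ cls G s := by
    have hle : LinearMap.range κ ≤ LinearMap.range s := by
      rintro _ ⟨v, rfl⟩
      have e : δ * ω * s = s * ρ * δ * ω * s := by
        conv_lhs => rw [hsplit]
        rw [show (s * ρ * δ + δ * ρ * s) * ω * s = s * ρ * δ * ω * s + δ * ρ * (s * ω * s) by noncomm_ring,
          hsω, mul_zero, add_zero]
      rw [hκeq, e, show -(s * ρ * δ * ω * s + s * ω * δ) = s * (-(ρ * δ * ω * s + ω * δ)) by noncomm_ring]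
      exact ⟨_, rfl⟩
    refine ⟨hκ.1, fun v hv => ?_, le_inf hle (hle.trans ?_)⟩
    · have e : s * ω * δ = s * ω * δ * ρ * s := by
        conv_lhs => rw [hsplit]
        rw [show s * ω * (s * ρ * δ + δ * ρ * s) = s * ω * s * ρ * δ + s * ω * δ * ρ * s by noncomm_ring,
          hsω]; simp
      rw [LinearMap.mem_ker, hκeq, e, show -(δ * ω * s + s * ω * δ * ρ * s) =
        -(δ * ω + s * ω * δ * ρ) * s by noncomm_ring, mul_apply', LinearMap.mem_ker.1 hv, map_zero]
    · exact fun w hw => ((self_mem_cls hs.1).2.2 hw).2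
  have hle := finrank_le_comm h2 hη hδ (tst_eq_zero h2 hδ hη hδηδ)
    (fun e => hκ0 (by rw [hκdef, ← neg_sub, e, neg_zero])) (self_mem_cls hη.1) hη.2.1
  obtain ⟨f, hf, -⟩ := hle
  refine (LinearMap.finrank_le_finrank_of_injective hf).trans (le_of_eq ?_)
  have hκ' : η * δ - δ * η ∈ cls G s := by rw [← neg_sub]; exact neg_mem hκs
  rw [cls_eq hs hκ' (fun e => hκ0 (by rw [hκdef, ← neg_sub, e, neg_zero]))]

theorem exists_comm_eq (h2 : (2 : k) ≠ 0) (h3 : Nat.card k ≠ 3) (hG : Cfsg.IsQuadraticPair G)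
    (hs : IsMin G s) (ht : IsMin G t) (hst : s * t * s = 0) (h0 : s * t - t * s ≠ 0)
    (hx : x ∈ cls G s) (hx0 : x ≠ 0) {z : M →ₗ[k] M} (hz : z ∈ cls G (s * t - t * s)) :
    ∃ y ∈ cls G t, x * y - y * x = z := by
  obtain ⟨f, hf, hfe⟩ := finrank_le_comm h2 hs ht hst h0 hx hx0
  have hts := tst_eq_zero h2 hs ht hst
  have hle := finrank_comm_le h2 h3 hG ht hs hts (fun e => h0 (by rw [← neg_sub, e, neg_zero]))
  have hcl : cls G (t * s - s * t) = cls G (s * t - t * s) := by
    have hm := (comm_all h2 hs ht hst h0 (self_mem_cls hs.1) (self_mem_cls ht.1)).1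
    rw [← neg_sub (s * t)]
    exact cls_eq hm (neg_mem (self_mem_cls hm.1)) (neg_ne_zero.2 h0)
  rw [hcl] at hle
  have heq := le_antisymm (LinearMap.finrank_le_finrank_of_injective hf) hle
  obtain ⟨y, hy⟩ := (LinearMap.injective_iff_surjective_of_finrank_eq_finrank heq).1 hf ⟨z, hz⟩
  exact ⟨y, y.2, by rw [← hfe, hy]⟩

end CfsgLib.Quadratic
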