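import Cfsg.Agent.Lib.Quadratic.Components

/-!
The group of a component is quasisimple and has the component as a class of abstract root subgroups.
-/

set_option autoImplicit false

namespace CfsgLib.Quadratic.Comp

open CfsgLib.RootGroups Module
open scoped commutatorElement

variable {k : Type*} [Field k] {M : Type*} [AddCommGroup M] [Module k M] [FiniteDimensional k M]
variable {G : Subgroup (LinearMap.GeneralLinearGroup k M)}
variable (h2 : (2 : k) ≠ 0) (h3 : Nat.card k ≠ 3) (hG : Cfsg.IsQuadraticPair G)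

include h2 h3 hG

theorem span_quasisimple (s : MinEl G) : Cfsg.IsQuasisimple ↥(span s) := by
  set X := span s with hX
  have hinj : Function.Injective X.subtype := Subtype.val_injective
  refine ⟨⟨Subgroup.map_injective hinj ?_⟩, ?_⟩
  · rw [commutator_def, Subgroup.map_commutator, ← MonoidHom.range_eq_map, Subgroup.range_subtype]
    exact span_perfect h2 h3 hG s
  have : Nontrivial (↥X ⧸ Subgroup.center ↥X) := by
    obtain ⟨u, hu⟩ := exists_opposed hG s
    have hs : tt s.1 ∈ X := esub_le_span Relation.ReflTransGen.refl (tt_esub s.2 (self_mem_cls s.2.1))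
    have hu' : tt u.1 ∈ X := esub_le_span hu.reach (tt_esub u.2 (self_mem_cls u.2.1))
    refine ⟨⟨(⟨tt s.1, hs⟩ : ↥X), (1 : ↥X ⧸ Subgroup.center ↥X), fun h => ?_⟩⟩
    rw [QuotientGroup.eq_one_iff, Subgroup.mem_center_iff] at h
    have h1 := congrArg Subtype.val (h ⟨tt u.1, hu'⟩)
    simp only [Subgroup.coe_mul] at h1
    rw [commute_tt_iff u.2.1.1 s.2.1.1] at h1
    apply hu
    rw [mul_assoc, h1, ← mul_assoc, s.2.1.1, zero_mul]
  refine ⟨fun N hN => ?_⟩
  set N' := N.comap (QuotientGroup.mk' (Subgroup.center ↥X))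
  have hN' : N'.Normal := hN.comap _
  rcases span_dichotomy h2 h3 hG s (N := N'.map X.subtype)
      (by rintro _ ⟨x, -, rfl⟩; exact x.2)
      (by
        rintro g hg _ ⟨x, hx, rfl⟩
        exact ⟨⟨g, hg⟩ * x * ⟨g, hg⟩⁻¹, hN'.conj_mem x hx _, rfl⟩) with h | h
  · right
    have hT : N' = ⊤ := Subgroup.map_injective hinj (by
      rw [h, ← MonoidHom.range_eq_map, Subgroup.range_subtype])
    refine eq_top_iff.2 fun q _ => ?_
    obtain ⟨x, rfl⟩ := QuotientGroup.mk'_surjective _ q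
    exact Subgroup.mem_comap.1 (hT ▸ Subgroup.mem_top x : x ∈ N')
  · left
    refine (Subgroup.eq_bot_iff_forall _).2 fun q hq => ?_
    obtain ⟨x, rfl⟩ := QuotientGroup.mk'_surjective _ q
    rw [QuotientGroup.mk'_apply, QuotientGroup.eq_one_iff, Subgroup.mem_center_iff]
    exact fun g => Subtype.ext (h x.1 ⟨x, hq, rfl⟩ g.1 g.2).symm

theorem span_rootClass (s : MinEl G) :
    Cfsg.IsRootSubgroupClass ((fun A : Subgroup (LinearMap.GeneralLinearGroup k M) =>
      A.subgroupOf (span s)) '' part s) := by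
  set X := span s with hX
  have hle : ∀ A ∈ part s, A ≤ X := fun A hA => le_iSup₂ (f := fun A (_ : A ∈ part s) => A) A hA
  have hmap : ∀ A ∈ part s, (A.subgroupOf X).map X.subtype = A := fun A hA => by
    rw [Subgroup.subgroupOf_map_subtype, inf_eq_left.2 (hle A hA)]
  have hinj : Function.Injective X.subtype := Subtype.val_injective
  have hmem : ∀ A : Subgroup X, A.map X.subtype ∈ part s →
      A ∈ (fun A : Subgroup (LinearMap.GeneralLinearGroup k M) => A.subgroupOf X) '' part s :=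
    fun A hA => ⟨_, hA, Subgroup.comap_map_eq_self_of_injective hinj A⟩
  refine ⟨⟨?_, ?_, ?_, ?_, ?_⟩, ⟨_, ⟨esub G s.1, ⟨s, Relation.ReflTransGen.refl, rfl⟩, rfl⟩⟩, ?_⟩
  · rintro _ ⟨A, hA, rfl⟩
    obtain ⟨t, -, rfl⟩ := hA
    refine ⟨⟨fun a b => Subtype.ext (Subtype.ext ?_)⟩⟩
    show a.1.1 * b.1.1 = b.1.1 * a.1.1
    exact congrArg Subtype.val ((esub_comm t.2).is_comm.comm (⟨a.1.1, a.2⟩ : esub G t.1) ⟨b.1.1, b.2⟩)
  · rintro _ ⟨A, hA, rfl⟩ hbot
    have := hmap A hA
    obtain ⟨t, -, rfl⟩ := hA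
    beta_reduce at hbot
    refine esub_ne_bot t.2 ?_
    rwa [hbot, Subgroup.map_bot, eq_comm] at this
  · refine Subgroup.map_injective hinj ?_
    rw [← MonoidHom.range_eq_map, Subgroup.range_subtype, iSup_image, Subgroup.map_iSup]
    refine le_antisymm (iSup_le fun A => ?_) (iSup₂_le fun A hA => ?_)
    · rw [Subgroup.map_iSup]
      exact iSup_le fun hA => (hmap A hA).le.trans (hle A hA)
    · refine le_iSup_of_le A ?_
      rw [Subgroup.map_iSup]
      exact le_iSup_of_le hA (hmap A hA).ge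
  · rintro _ ⟨A, hA, rfl⟩ g
    refine hmem _ ?_
    rw [← conjBy_map, hmap A hA]
    exact conj_part h2 h3 hG hA (span_le_rootSpan s g.2)
  · rintro _ ⟨A, hA, rfl⟩ _ ⟨B, hB, rfl⟩
    have hA' := hmap A hA
    have hB' := hmap B hB
    obtain ⟨a, ha, rfl⟩ := hA
    obtain ⟨b, hb, rfl⟩ := hB
    by_cases hab : a.1 * b.1 * a.1 = 0
    · by_cases h0 : a.1 * b.1 - b.1 * a.1 = 0
      · refine Or.inl (Subgroup.map_injective hinj ?_)
        rw [Subgroup.map_commutator, hA', hB', esub_commute_of_zero h2 a.2 b.2 hab h0, Subgroup.map_bot]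
      · obtain ⟨heq, hD, hcase⟩ := esub_commutator_case h2 h3 hG a.2 b.2 hab h0
        refine Or.inr (Or.inr (rootCase_of_map (S' := part s) hinj hmem ?_))
        rw [hA', hB']
        refine ⟨?_, hcase.2⟩
        rw [heq]
        exact ⟨⟨_, hD⟩, ha.trans (reach_comm h2 h3 hG hab h0 ⟨_, hD⟩ rfl), rfl⟩
    · refine Or.inr (Or.inl (rankOne_of_map hinj ?_))
      rw [hA', hB']
      exact (special_pair h2 h3 a.2 b.2 hab).1
  · rintro _ ⟨A, hA, rfl⟩ _ ⟨B, hB, rfl⟩
    have hA' := hmap A hA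
    have hB' := hmap B hB
    obtain ⟨a, ha, rfl⟩ := hA
    obtain ⟨b, hb, rfl⟩ := hB
    obtain ⟨g, hg, he⟩ := part_class h2 h3 hG ha
    obtain ⟨g', hg', he'⟩ := part_class h2 h3 hG hb
    refine ⟨⟨g', hg'⟩ * ⟨g, hg⟩⁻¹, Subgroup.map_injective hinj ?_⟩
    rw [← conjBy_map, hA', hB', he, he', map_mul, map_inv, ← conjBy_conjBy]
    rw [show Cfsg.conjBy (Cfsg.conjBy (esub G s.1) g) (X.subtype ⟨g, hg⟩)⁻¹ = esub G s.1 from
      conjBy_inv_conjBy _ _]
    rfl

theorem span_sl2 {A B : Subgroup (LinearMap.GeneralLinearGroup k M)} {s : MinEl G} (hA : A ∈ part s)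
    (hB : B ∈ part s) (hp : Cfsg.IsRankOnePair A B) :
    ∃ a b : MinEl G, A = esub G a.1 ∧ B = esub G b.1 ∧ a.1 * b.1 * a.1 ≠ 0 := by
  obtain ⟨a, -, rfl⟩ := hA
  obtain ⟨b, -, rfl⟩ := hB
  exact ⟨a, b, rfl, rfl, mul_mul_ne_of_rankOne h2 h3 hG a.2 b.2 hp⟩

end CfsgLib.Quadratic.Comp
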