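import Mathlib
import Cfsg.Prelude.Def_RootSubgroups

/-!
Complete reducibility of `M` passes to normal subgroups (Clifford), and a unipotent subgroup acting
completely reducibly is trivial.
-/

set_option autoImplicit false

namespace CfsgLib.Quadratic.Comp

open Module

variable {k : Type*} [Field k] {M : Type*} [AddCommGroup M] [Module k M]

/-- `W` is invariant under `H`. -/
def Inv (H : Subgroup (LinearMap.GeneralLinearGroup k M)) (W : Submodule k M) : Prop :=
  ∀ g ∈ H, ∀ w ∈ W, g.1 w ∈ W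

/-- Every invariant subspace has an invariant complement. -/
def CompRed (H : Subgroup (LinearMap.GeneralLinearGroup k M)) : Prop :=
  ∀ W, Inv H W → ∃ V, Inv H V ∧ IsCompl W V

theorem compRed_of_irreducible {H : Subgroup (LinearMap.GeneralLinearGroup k M)}
    (h : Cfsg.IsIrreducibleFor H) : CompRed H := by
  intro W hW
  rcases h.2 W hW with rfl | rfl
  · exact ⟨⊤, fun _ _ _ _ => Submodule.mem_top, isCompl_bot_top⟩
  · exact ⟨⊥, fun g _ w hw => by simp [(Submodule.mem_bot k).1 hw], isCompl_top_bot⟩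

theorem Inv.inf {H : Subgroup (LinearMap.GeneralLinearGroup k M)} {V W : Submodule k M}
    (hV : Inv H V) (hW : Inv H W) : Inv H (V ⊓ W) :=
  fun g hg w hw => ⟨hV g hg w hw.1, hW g hg w hw.2⟩

theorem Inv.sup {H : Subgroup (LinearMap.GeneralLinearGroup k M)} {V W : Submodule k M}
    (hV : Inv H V) (hW : Inv H W) : Inv H (V ⊔ W) := by
  intro g hg w hw
  obtain ⟨a, ha, b, hb, rfl⟩ := Submodule.mem_sup.1 hw
  rw [map_add]
  exact add_mem (Submodule.mem_sup_left (hV g hg a ha)) (Submodule.mem_sup_right (hW g hg b hb))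

/-- A minimal non-zero invariant subspace. -/
def Simple (K : Subgroup (LinearMap.GeneralLinearGroup k M)) (S : Submodule k M) : Prop :=
  Inv K S ∧ S ≠ ⊥ ∧ ∀ T, Inv K T → T ≤ S → T ≠ ⊥ → T = S

variable [FiniteDimensional k M]

theorem exists_simple_le {K : Subgroup (LinearMap.GeneralLinearGroup k M)} {W : Submodule k M}
    (hW : Inv K W) (hne : W ≠ ⊥) : ∃ S, Simple K S ∧ S ≤ W := by
  obtain ⟨S, ⟨hS, hS0, hSW⟩, hmin⟩ := (wellFounded_lt (α := Submodule k M)).has_min
    {T | Inv K T ∧ T ≠ ⊥ ∧ T ≤ W} ⟨W, hW, hne, le_rfl⟩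
  refine ⟨S, ⟨hS, hS0, fun T hT hTS hT0 => ?_⟩, hSW⟩
  exact (eq_or_lt_of_le hTS).resolve_right (hmin T ⟨hT, hT0, hTS.trans hSW⟩)

/-- Clifford: complete reducibility passes to normal subgroups. -/
theorem CompRed.of_normal {H K : Subgroup (LinearMap.GeneralLinearGroup k M)} (hH : CompRed H)
    (hle : K ≤ H)
    (hn : ∀ h ∈ H, ∀ a ∈ K, h * a * h⁻¹ ∈ K) : CompRed K := by
  have hi : ∀ (g : LinearMap.GeneralLinearGroup k M) v, g⁻¹.1 (g.1 v) = v :=
    fun g v => LinearMap.congr_fun g.inv_mul v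
  have hii : ∀ (g : LinearMap.GeneralLinearGroup k M) v, g.1 (g⁻¹.1 v) = v :=
    fun g v => LinearMap.congr_fun g.mul_inv v
  have hmapInv : ∀ g ∈ H, ∀ T, Inv K T → Inv K (T.map g.1) := by
    rintro g hg T hT a ha _ ⟨w, hw, rfl⟩
    refine ⟨(g⁻¹ * a * g).1 w, hT _ ?_ w hw, ?_⟩
    · have := hn _ (inv_mem hg) a ha
      rwa [inv_inv] at this
    · rw [Units.val_mul, Units.val_mul, Module.End.mul_apply, Module.End.mul_apply, hii]
  have hmap : ∀ g ∈ H, ∀ S, Simple K S → Simple K (S.map g.1) := by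
    intro g hg S hS
    refine ⟨hmapInv g hg S hS.1, fun h => hS.2.1 ?_, fun T hT hTS hT0 => ?_⟩
    · rw [Submodule.eq_bot_iff] at h ⊢
      intro x hx
      have := congrArg g⁻¹.1 (h (g.1 x) ⟨x, hx, rfl⟩)
      rwa [hi, map_zero] at this
    · have h1 := hS.2.2 (T.map g⁻¹.1) (hmapInv _ (inv_mem hg) T hT) (by
        rintro _ ⟨x, hx, rfl⟩
        obtain ⟨y, hy, rfl⟩ := hTS hx
        rwa [hi]) (fun h => hT0 (by
        rw [Submodule.eq_bot_iff] at h ⊢
        intro x hx
        have := congrArg g.1 (h _ ⟨x, hx, rfl⟩)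
        rwa [hii, map_zero] at this))
      refine le_antisymm hTS ?_
      rintro _ ⟨y, hy, rfl⟩
      rw [← h1] at hy
      obtain ⟨x, hx, rfl⟩ := hy
      rwa [hii]
  set soc : Submodule k M := ⨆ S ∈ {S | Simple K S}, S with hsoc
  have hsocH : Inv H soc := by
    intro g hg w hw
    have : soc ≤ soc.comap g.1 := iSup₂_le fun S hS x hx =>
      Submodule.mem_iSup_of_mem (S.map g.1) (Submodule.mem_iSup_of_mem (hmap g hg S hS) ⟨x, hx, rfl⟩)
    exact this hw
  have hsocTop : soc = ⊤ := by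
    obtain ⟨V, hV, hc⟩ := hH soc hsocH
    by_contra hne
    have hV0 : V ≠ ⊥ := fun h => hne (by simpa [h] using hc.sup_eq_top)
    obtain ⟨S, hS⟩ := exists_simple_le (K := K) (fun a ha => hV a (hle ha)) hV0
    exact hS.1.2.1 (eq_bot_iff.2 (hc.disjoint.le_bot.trans' (le_inf
      (le_iSup₂ (f := fun S (_ : Simple K S) => S) S hS.1) hS.2)))
  intro W hW
  obtain ⟨V, ⟨hV, hd⟩, hmax⟩ := (wellFounded_gt (α := Submodule k M)).has_min
    {T | Inv K T ∧ W ⊓ T = ⊥} ⟨⊥, fun g _ w hw => by simp [(Submodule.mem_bot k).1 hw], inf_bot_eq W⟩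
  refine ⟨V, hV, disjoint_iff.2 hd, codisjoint_iff.2 (eq_top_iff.2 ?_)⟩
  rw [← hsocTop]
  refine iSup₂_le fun S hS => ?_
  by_contra hle
  have hSd : S ⊓ (W ⊔ V) = ⊥ := by
    by_contra h0
    exact hle (inf_eq_left.1 (hS.2.2 _ (hS.1.inf (hW.sup hV)) inf_le_left h0))
  refine hmax (V ⊔ S) ⟨hV.sup hS.1, ?_⟩ (lt_of_le_of_ne le_sup_left fun h => hle ?_)
  · rw [eq_bot_iff]
    rintro x ⟨hxW, hx⟩
    obtain ⟨v, hv, s, hs, rfl⟩ := Submodule.mem_sup.1 hx
    have hs0 : s = 0 := (Submodule.mem_bot k).1 (hSd ▸ ⟨hs, by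
      have := sub_mem (Submodule.mem_sup_left (T := V) hxW) (Submodule.mem_sup_right (S := W) hv)
      simpa using this⟩)
    subst hs0
    rw [add_zero] at hxW ⊢
    exact hd ▸ ⟨hxW, hv⟩
  · rw [h]; exact le_sup_right.trans le_sup_right

/-- A unipotent subgroup acting completely reducibly is trivial. -/
theorem CompRed.eq_bot_of_unipotent {K : Subgroup (LinearMap.GeneralLinearGroup k M)} (hK : CompRed K)
    (hu : ∃ n : ℕ, ∀ l : List (LinearMap.GeneralLinearGroup k M), (∀ g ∈ l, g ∈ K) → l.length = n →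
      (l.map fun g : LinearMap.GeneralLinearGroup k M => g.1 - 1).prod = 0) : K = ⊥ := by
  set F : Submodule k M := ⨅ g ∈ K, LinearMap.ker (g.1 - 1) with hF
  have hfix : ∀ {v}, v ∈ F ↔ ∀ g ∈ K, g.1 v = v := by
    intro v
    simp [hF, Submodule.mem_iInf, sub_eq_zero]
  have hFK : Inv K F := fun g hg w hw => by rwa [hfix.1 hw g hg]
  obtain ⟨V, hV, hc⟩ := hK F hFK
  obtain ⟨n, hn⟩ := hu
  have hVbot : ∀ v ∈ V, v = 0 := by
    have hkey : ∀ j, ∀ v ∈ V, (∀ l : List (LinearMap.GeneralLinearGroup k M), (∀ g ∈ l, g ∈ K) →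
        l.length = j → (l.map fun g : LinearMap.GeneralLinearGroup k M => g.1 - 1).prod v = 0) → v = 0 := by
      intro j
      induction j with
      | zero =>
        intro v _ h
        simpa using h [] (by simp) rfl
      | succ j ih =>
        intro v hv h
        have hvF : v ∈ F := hfix.2 fun g hg => sub_eq_zero.1 <| ih (g.1 v - v) (sub_mem (hV g hg v hv) hv)
          fun l hl hlen => by
            have := h (l ++ [g]) (by
              intro a ha
              rcases List.mem_append.1 ha with ha | ha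
              · exact hl a ha
              · rwa [List.mem_singleton.1 ha]) (by simp [hlen])
            simpa [List.map_append, List.prod_append] using this
        exact (Submodule.mem_bot k).1 (hc.disjoint.le_bot ⟨hvF, hv⟩)
    intro v hv
    exact hkey n v hv fun l hl hlen => by rw [hn l hl hlen]; rfl
  have hFtop : F = ⊤ := by
    have := hc.sup_eq_top
    rwa [show V = ⊥ from (Submodule.eq_bot_iff _).2 hVbot, sup_bot_eq] at this
  refine (Subgroup.eq_bot_iff_forall _).2 fun g hg => Units.ext (LinearMap.ext fun v => ?_)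
  exact hfix.1 (hFtop ▸ Submodule.mem_top) g hg

end CfsgLib.Quadratic.Comp
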