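import Cfsg.Agent.Lib.Quadratic.RootSet
import Cfsg.Agent.Lib.Quadratic.NoIsolated
import Cfsg.Agent.Lib.Quadratic.Semisimple

/-!
The components of the graph of opposite pairs of least elements: finitely many, pairwise commuting,
each generating a quasisimple group on which it is a class of abstract root subgroups.
-/

set_option autoImplicit false

namespace CfsgLib.Quadratic.Comp

open CfsgLib.RootGroups Module
open scoped commutatorElement

variable {k : Type*} [Field k] {M : Type*} [AddCommGroup M] [Module k M] [FiniteDimensional k M]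
variable {G : Subgroup (LinearMap.GeneralLinearGroup k M)}

variable (G) in
/-- Least elements. -/
abbrev MinEl : Type _ := {s : M →ₗ[k] M // IsMin G s}

/-- Opposite least elements. -/
def Opposed (s t : MinEl G) : Prop := s.1 * t.1 * s.1 ≠ 0

/-- Joined by a chain of opposite pairs. -/
def Reach (s t : MinEl G) : Prop := Relation.ReflTransGen Opposed s t

variable (h2 : (2 : k) ≠ 0) (h3 : Nat.card k ≠ 3) (hG : Cfsg.IsQuadraticPair G)

include h2 in
theorem Opposed.symm {s t : MinEl G} (h : Opposed s t) : Opposed t s :=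
  fun e => h (tst_eq_zero h2 t.2 s.2 e)

include h2 in
theorem Reach.symm {s t : MinEl G} (h : Reach s t) : Reach t s := by
  induction h with
  | refl => exact Relation.ReflTransGen.refl
  | tail _ hab ih => exact Relation.ReflTransGen.head (hab.symm h2) ih

theorem Reach.trans {s t r : MinEl G} (h : Reach s t) (h' : Reach t r) : Reach s r :=
  Relation.ReflTransGen.trans h h'

theorem Opposed.reach {s t : MinEl G} (h : Opposed s t) : Reach s t := Relation.ReflTransGen.single h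

include hG in
theorem exists_opposed (s : MinEl G) : ∃ t, Opposed s t := by
  obtain ⟨v, hv, hne⟩ := exists_nonunipotent hG.1 s.2
  exact ⟨⟨v, hv⟩, hne⟩

include h2 hG in
theorem reach_of_cls {s t : MinEl G} (h : t.1 ∈ cls G s.1) : Reach s t := by
  obtain ⟨u, hu⟩ := exists_opposed hG s
  obtain ⟨-, hk, hr⟩ := cls_min s.2 h t.2.2.1
  have hu' : Opposed t u := by
    intro e
    apply hu
    rw [mid_mul_eq_zero_iff] at e ⊢
    rwa [hk, hr] at e
  exact hu.reach.trans (Reach.symm h2 hu'.reach)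

/-- Conjugation of least elements. -/
noncomputable def act (g : LinearMap.GeneralLinearGroup k M) (hg : g ∈ G) (s : MinEl G) : MinEl G :=
  ⟨g.1 * s.1 * g⁻¹.1, s.2.conj hg⟩

theorem Reach.act {s t : MinEl G} (h : Reach s t) {g : LinearMap.GeneralLinearGroup k M} (hg : g ∈ G) :
    Reach (Comp.act g hg s) (Comp.act g hg t) := by
  refine h.lift (Comp.act g hg) fun a b hab e => hab ?_
  have e' : g⁻¹.1 * ((g.1 * a.1 * g⁻¹.1) * (g.1 * b.1 * g⁻¹.1) * (g.1 * a.1 * g⁻¹.1)) * g.1 = 0 := by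
    rw [show (g.1 * a.1 * g⁻¹.1) * (g.1 * b.1 * g⁻¹.1) * (g.1 * a.1 * g⁻¹.1) = 0 from e, mul_zero, zero_mul]
  rw [← e']
  calc a.1 * b.1 * a.1 = (g⁻¹.1 * g.1) * a.1 * (g⁻¹.1 * g.1) * b.1 * (g⁻¹.1 * g.1) * a.1 * (g⁻¹.1 * g.1) := by
        simp
    _ = _ := by noncomm_ring

include h2 h3 hG in
/-- A non-zero commutator is in the component of each of its two entries. -/
theorem reach_comm {a b : MinEl G} (hab : a.1 * b.1 * a.1 = 0) (hne : a.1 * b.1 - b.1 * a.1 ≠ 0) :
    ∀ D : MinEl G, D.1 = a.1 * b.1 - b.1 * a.1 → Reach a D := by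
  intro D hD
  have hba := tst_eq_zero h2 a.2 b.2 hab
  obtain ⟨u, hu⟩ := exists_opposed hG a
  obtain ⟨v₀, hv₀⟩ := exists_opposed hG D
  obtain ⟨y, hy, e1, e2, -⟩ := exists_partner h2 h3 D.2 v₀.2 hv₀
  have hy0 : y ≠ 0 := fun e => D.2.2.1 (by rw [← e1, e]; simp)
  let v : MinEl G := ⟨y, (cls_min v₀.2 hy hy0).1⟩
  have hDv : Opposed D v := by show D.1 * y * D.1 ≠ 0; rw [e1]; exact D.2.2.1
  -- conjugates of `a` by the family of `b`
  have hconj : ∀ c : k, IsMin G (a.1 + c • D.1) := by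
    intro c
    have h := a.2.conj (b.2.1.2 (-c))
    rw [conj_eq (smul_sq b.2.1.1 _)] at h
    have e : a.1 + ((-c) • b.1 * a.1 - a.1 * (-c) • b.1) - (-c) • b.1 * a.1 * (-c) • b.1 = a.1 + c • D.1 := by
      rw [hD]
      simp only [smul_mul_assoc, mul_smul_comm, smul_smul, hba, smul_zero, sub_zero]
      module
    rwa [e] at h
  by_cases hud : Opposed D u
  · exact hu.reach.trans (Reach.symm h2 hud.reach)
  have hDu : u.1 * D.1 * u.1 = 0 := tst_eq_zero h2 D.2 u.2 (not_not.1 hud)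
  obtain ⟨c, hc⟩ : ∃ c : k, y * (a.1 + c • D.1) * y ≠ 0 := by
    by_contra hcon
    push Not at hcon
    have h1 := hcon 1
    have h0 := hcon 0
    rw [zero_smul, add_zero] at h0
    rw [one_smul, mul_add, add_mul, h0, zero_add, e2] at h1
    exact hy0 h1
  let a' : MinEl G := ⟨a.1 + c • D.1, hconj c⟩
  have hua : Opposed u a' := by
    show u.1 * (a.1 + c • D.1) * u.1 ≠ 0
    rw [mul_add, add_mul, mul_smul_comm, smul_mul_assoc, hDu, smul_zero, add_zero]
    exact hu.symm h2
  have hva : Opposed v a' := hc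
  exact hu.reach.trans (hua.reach.trans ((Reach.symm h2 hva.reach).trans (Reach.symm h2 hDv.reach)))

include h2 h3 hG in
/-- Different components commute. -/
theorem commute_of_not_reach {a b : MinEl G} (h : ¬ Reach a b) :
    a.1 * b.1 * a.1 = 0 ∧ a.1 * b.1 - b.1 * a.1 = 0 := by
  have hab : a.1 * b.1 * a.1 = 0 := not_not.1 fun e => h (Opposed.reach e)
  refine ⟨hab, by_contra fun hne => h ?_⟩
  have hba := tst_eq_zero h2 a.2 b.2 hab
  let D : MinEl G := ⟨_, a.2.comm b.2 hab hba hne⟩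
  let D' : MinEl G := ⟨_, b.2.comm a.2 hba hab (fun e => hne (by rw [← neg_sub, e, neg_zero]))⟩
  have hr : Reach D D' := by
    refine reach_of_cls h2 hG ?_
    show b.1 * a.1 - a.1 * b.1 ∈ cls G (a.1 * b.1 - b.1 * a.1)
    rw [show b.1 * a.1 - a.1 * b.1 = -(a.1 * b.1 - b.1 * a.1) from (neg_sub _ _).symm]
    exact neg_mem (self_mem_cls D.2.1)
  exact (reach_comm h2 h3 hG hab hne D rfl).trans (hr.trans
    (Reach.symm h2 (reach_comm h2 h3 hG hba (fun e => hne (by rw [← neg_sub, e, neg_zero])) D' rfl)))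

include h2 h3 hG in
theorem esub_commute {a b : MinEl G} (h : ¬ Reach a b) : ⁅esub G a.1, esub G b.1⁆ = ⊥ :=
  esub_commute_of_zero h2 a.2 b.2 (commute_of_not_reach h2 h3 hG h).1 (commute_of_not_reach h2 h3 hG h).2

include h2 h3 hG in
theorem reach_act_tt (x t : MinEl G) : Reach (act (tt x.1) x.2.1.tt_mem t) t := by
  by_cases h : Reach x t
  · have h' := h.act x.2.1.tt_mem
    have e : act (tt x.1) x.2.1.tt_mem x = x := by
      refine Subtype.ext ?_
      show (tt x.1).1 * x.1 * (tt x.1)⁻¹.1 = x.1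
      rw [conj_eq x.2.1.1, x.2.1.1]; simp
    rw [e] at h'
    exact (Reach.symm h2 h').trans h
  · have e : act (tt x.1) x.2.1.tt_mem t = t := by
      refine Subtype.ext ?_
      show (tt x.1).1 * t.1 * (tt x.1)⁻¹.1 = t.1
      obtain ⟨h0, h1⟩ := commute_of_not_reach h2 h3 hG h
      rw [conj_eq x.2.1.1, h0, h1]; simp
    rw [e]
    exact Relation.ReflTransGen.refl

include h2 h3 hG in
/-- The subgroup generated by all `E(σ)` fixes every component. -/
theorem rootSpan_fix {g : LinearMap.GeneralLinearGroup k M} (hg : g ∈ rootSpan G) (hgG : g ∈ G)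
    (t : MinEl G) : Reach (act g hgG t) t := by
  let Fix : Subgroup (LinearMap.GeneralLinearGroup k M) :=
    { carrier := {g | ∃ h : g ∈ G, ∀ t : MinEl G, Reach (act g h t) t}
      one_mem' := ⟨one_mem _, fun t => by
        rw [show act 1 (one_mem G) t = t from Subtype.ext (by simp [act])]
        exact Relation.ReflTransGen.refl⟩
      mul_mem' := by
        rintro p q ⟨hp, hp'⟩ ⟨hq, hq'⟩
        refine ⟨mul_mem hp hq, fun t => ?_⟩
        rw [show act (p * q) (mul_mem hp hq) t = act p hp (act q hq t) from Subtype.ext (by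
          show (p * q).1 * t.1 * (p * q)⁻¹.1 = p.1 * (q.1 * t.1 * q⁻¹.1) * p⁻¹.1
          rw [_root_.mul_inv_rev, Units.val_mul, Units.val_mul]; simp only [mul_assoc])]
        exact (hp' _).trans (hq' t)
      inv_mem' := by
        rintro p ⟨hp, hp'⟩
        refine ⟨inv_mem hp, fun t => ?_⟩
        have h := hp' (act p⁻¹ (inv_mem hp) t)
        rw [show act p hp (act p⁻¹ (inv_mem hp) t) = t from Subtype.ext (by
          show p.1 * (p⁻¹.1 * t.1 * p⁻¹⁻¹.1) * p⁻¹.1 = t.1
          rw [inv_inv, ← mul_assoc, ← mul_assoc, Units.mul_inv, one_mul, mul_assoc, Units.mul_inv, mul_one])] at h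
        exact Reach.symm h2 h }
  have hle : rootSpan G ≤ Fix := iSup₂_le fun A hA σ hσ => by
    obtain ⟨s, hs, rfl⟩ := mem_rootSubgroups_iff.1 hA
    obtain ⟨x, hx, rfl⟩ := (mem_sameAction_iff hs).1 hσ
    rcases eq_or_ne x 0 with rfl | hx0
    · rw [tt_zero]; exact one_mem _
    · exact ⟨hx.1.tt_mem, fun t => reach_act_tt h2 h3 hG ⟨x, (cls_min hs hx hx0).1⟩ t⟩
  obtain ⟨h, h'⟩ := hle hg
  exact h' t

/-! ### Finitely many components -/

/-- The setoid of components. -/
def setoid : Setoid (MinEl G) :=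
  ⟨Reach, fun _ => Relation.ReflTransGen.refl, fun h => Reach.symm h2 h, fun h h' => h.trans h'⟩

include h3 hG in
theorem finite_components : Finite (Quotient (setoid (G := G) h2)) := by
  let e : Quotient (setoid (G := G) h2) → (M →ₗ[k] M) := fun q => q.out.1
  suffices LinearIndependent k e from this.finite
  rw [linearIndependent_iff']
  intro F c hsum j hj
  obtain ⟨u, hu⟩ := exists_opposed hG j.out
  obtain ⟨y, hy, e1, -, -⟩ := exists_partner h2 h3 j.out.2 u.2 hu
  have hy0 : y ≠ 0 := fun e' => j.out.2.2.1 (by rw [← e1, e']; simp)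
  let v : MinEl G := ⟨y, (cls_min u.2 hy hy0).1⟩
  have hjv : Reach j.out v := hu.reach.trans (reach_of_cls h2 hG hy)
  have h0 : ∀ i, i ≠ j → e i * y - y * e i = 0 := by
    intro i hi
    refine (commute_of_not_reach h2 h3 hG (a := i.out) (b := v) fun h => hi ?_).2
    have : Reach i.out j.out := h.trans (Reach.symm h2 hjv)
    rw [← Quotient.out_eq i, ← Quotient.out_eq j]
    exact Quotient.sound this
  have hz : ∑ i ∈ F, c i • (e i * y - y * e i) = 0 := by
    have h := congrArg₂ (· - ·) (congrArg (fun z => z * y) hsum) (congrArg (fun z => y * z) hsum)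
    simp only [Finset.sum_mul, Finset.mul_sum, zero_mul, mul_zero, sub_zero, ← Finset.sum_sub_distrib] at h
    rw [← h]
    exact Finset.sum_congr rfl fun i _ => by rw [smul_sub, smul_mul_assoc, mul_smul_comm]
  rw [Finset.sum_eq_single j (fun i _ hi => by rw [h0 i hi, smul_zero]) (fun h => absurd hj h)] at hz
  by_contra hc
  have h1 := congrArg (fun z => e j * z) ((smul_eq_zero.1 hz).resolve_left hc)
  rw [mul_sub, ← mul_assoc, ← mul_assoc, j.out.2.1.1, zero_mul, zero_sub, mul_zero, neg_eq_zero] at h1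
  exact j.out.2.2.1 (e1.symm.trans h1)

/-! ### The group of a component -/

/-- The members of the component of `s`. -/
def part (s : MinEl G) : Set (Subgroup (LinearMap.GeneralLinearGroup k M)) :=
  {A | ∃ t : MinEl G, Reach s t ∧ A = esub G t.1}

/-- The group of the component of `s`. -/
noncomputable def span (s : MinEl G) : Subgroup (LinearMap.GeneralLinearGroup k M) := ⨆ A ∈ part s, A

theorem esub_le_span {s t : MinEl G} (h : Reach s t) : esub G t.1 ≤ span s :=
  le_iSup₂ (f := fun A (_ : A ∈ part s) => A) (esub G t.1) ⟨t, h, rfl⟩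

theorem span_le_rootSpan (s : MinEl G) : span s ≤ rootSpan G := iSup₂_le fun A hA => by
  obtain ⟨t, -, rfl⟩ := hA
  exact le_iSup₂ (f := fun A (_ : A ∈ Cfsg.quadraticRootSubgroups G) => A) (esub G t.1) (esub_mem t.2)

include h2 h3 hG in
theorem conj_part {s : MinEl G} {A : Subgroup (LinearMap.GeneralLinearGroup k M)} (hA : A ∈ part s)
    {g : LinearMap.GeneralLinearGroup k M} (hg : g ∈ rootSpan G) : Cfsg.conjBy A g ∈ part s := by
  obtain ⟨t, ht, rfl⟩ := hA
  exact ⟨act g (rootSpan_le hg) t, ht.trans (Reach.symm h2 (rootSpan_fix h2 h3 hG hg _ t)),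
    conjBy_esub (rootSpan_le hg) t.2⟩

include h2 h3 hG in
theorem span_normal (s : MinEl G) : ∀ g ∈ rootSpan G, ∀ a ∈ span s, g * a * g⁻¹ ∈ span s := by
  intro g hg a ha
  have hle : span s ≤ (span s).comap (MulAut.conj g).toMonoidHom := by
    refine iSup₂_le fun A hA a ha => ?_
    exact le_iSup₂ (f := fun A (_ : A ∈ part s) => A) _ (conj_part h2 h3 hG hA hg) (conj_mem_conjBy ha)
  exact hle ha

theorem rootSpan_normal : ∀ g ∈ G, ∀ a ∈ rootSpan G, g * a * g⁻¹ ∈ rootSpan G := by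
  intro g hg a ha
  have hle : rootSpan G ≤ (rootSpan G).comap (MulAut.conj g).toMonoidHom := by
    refine iSup₂_le fun A hA a ha => ?_
    exact le_iSup₂ (f := fun A (_ : A ∈ Cfsg.quadraticRootSubgroups G) => A) _
      (conjBy_mem_rootSubgroups hA hg) (conj_mem_conjBy ha)
  exact hle ha

include h2 h3 hG in
theorem span_commute {s t : MinEl G} (h : ¬ Reach s t) : ⁅span s, span t⁆ = ⊥ := by
  refine Subgroup.commutator_eq_bot_iff_le_centralizer.2 (iSup₂_le fun A hA => ?_)
  obtain ⟨a, ha, rfl⟩ := hA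
  intro x hx
  refine Subgroup.mem_centralizer_iff.2 fun y hy => ?_
  have hle : span t ≤ Subgroup.centralizer ({x} : Set (LinearMap.GeneralLinearGroup k M)) := by
    refine iSup₂_le fun B hB b hb => ?_
    obtain ⟨b', hb', rfl⟩ := hB
    refine Subgroup.mem_centralizer_singleton_iff.2 ?_
    exact (CfsgLib.RootGroups.commute_of_commutator_eq_bot
      (esub_commute h2 h3 hG fun h' => h (ha.trans (h'.trans (Reach.symm h2 hb')))) hx hb).symm
  exact Subgroup.mem_centralizer_singleton_iff.1 (hle hy)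

include h2 h3 hG in
theorem part_class {s : MinEl G} {t : MinEl G} (h : Reach s t) :
    ∃ g ∈ span s, esub G t.1 = Cfsg.conjBy (esub G s.1) g := by
  induction h with
  | refl => exact ⟨1, one_mem _, (conjBy_one _).symm⟩
  | @tail b c hab hbc ih =>
    obtain ⟨g, hg, he⟩ := ih
    obtain ⟨y, hy, hy0, hP⟩ := exists_partner' h2 h3 b.2 c.2 hbc (self_mem_cls b.2.1) b.2.2.1
    refine ⟨swp b.1 y * g, mul_mem ?_ hg, ?_⟩
    · have hbs := esub_le_span (hab)
      have hcs := esub_le_span (Reach.trans hab hbc.reach)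
      exact mul_mem (mul_mem (hbs (tt_esub b.2 (self_mem_cls b.2.1)))
        (hcs (tt_esub c.2 (neg_mem hy)))) (hbs (tt_esub b.2 (self_mem_cls b.2.1)))
    · rw [← conjBy_conjBy, ← he, conjBy_esub (swp_mem hP) b.2, (swp_conj hP).1, esub_neg hP.miny,
        esub_eq_of_mem c.2 hy hy0]

include h2 h3 hG in
/-- Perfectness, locally. -/
theorem esub_le_derived {t u : MinEl G} (h : Opposed t u) :
    esub G t.1 ≤ ⁅esub G t.1 ⊔ esub G u.1, esub G t.1 ⊔ esub G u.1⁆ := by
  intro σ hσ
  obtain ⟨x, hx, rfl⟩ := (mem_sameAction_iff t.2).1 hσ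
  rcases eq_or_ne x 0 with rfl | hx0
  · rw [tt_zero]; exact one_mem _
  obtain ⟨a, ha0, ha⟩ := RingSL2.exists_sq_ne_one (k := k) h2 h3
  set c : k := a⁻¹ * a⁻¹ - 1 with hc
  have hc0 : c ≠ 0 := by
    rw [hc, sub_ne_zero, ← mul_inv, ne_eq, inv_eq_one]; exact ha
  set x' := c⁻¹ • x with hx'
  have hx'c : x' ∈ cls G t.1 := Submodule.smul_mem _ _ hx
  have hx'0 : x' ≠ 0 := smul_ne_zero (inv_ne_zero hc0) hx0
  obtain ⟨y, hy, hy0, hP⟩ := exists_partner' h2 h3 t.2 u.2 h hx'c hx'0
  have hmax := (cls_min t.2 (Submodule.smul_mem _ a hx'c) (smul_ne_zero ha0 hx'0)).1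
  have hmay := (cls_min u.2 (Submodule.smul_mem _ a⁻¹ hy) (smul_ne_zero (inv_ne_zero ha0) hy0)).1
  have hPa : Partner G (a • x') (a⁻¹ • y) := by
    refine ⟨hmax, hmay, ?_, ?_⟩
    · simp only [smul_mul_assoc, mul_smul_comm, smul_smul, hP.xyx]; congr 1; field_simp
    · simp only [smul_mul_assoc, mul_smul_comm, smul_smul, hP.yxy]; congr 1; field_simp
  set X := esub G t.1 ⊔ esub G u.1
  have hswp : ∀ {p q : M →ₗ[k] M}, p ∈ cls G t.1 → q ∈ cls G u.1 → swp p q ∈ X := fun {p q} hp hq =>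
    mul_mem (mul_mem (Subgroup.mem_sup_left (tt_esub t.2 hp)) (Subgroup.mem_sup_right (tt_esub u.2 (neg_mem hq))))
      (Subgroup.mem_sup_left (tt_esub t.2 hp))
  set w := swp x' y * swp (a • x') (a⁻¹ • y) with hw
  have hwX : w ∈ X := mul_mem (hswp hx'c hy)
    (hswp (Submodule.smul_mem _ a hx'c) (Submodule.smul_mem _ a⁻¹ hy))
  have hwx : w.1 * x' * w⁻¹.1 = (a⁻¹ * a⁻¹) • x' := by
    have e1 : (swp (a • x') (a⁻¹ • y)).1 * x' * (swp (a • x') (a⁻¹ • y))⁻¹.1 = -((a⁻¹ * a⁻¹) • y) := by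
      have := congrArg (fun z => a⁻¹ • z) (swp_conj hPa).1
      simp only [smul_neg, smul_smul, mul_smul_comm, smul_mul_assoc] at this
      rwa [inv_mul_cancel₀ ha0, one_smul] at this
    rw [hw, _root_.mul_inv_rev, Units.val_mul, Units.val_mul]
    calc (swp x' y).1 * (swp (a • x') (a⁻¹ • y)).1 * x' *
          ((swp (a • x') (a⁻¹ • y))⁻¹.1 * (swp x' y)⁻¹.1)
        = (swp x' y).1 * ((swp (a • x') (a⁻¹ • y)).1 * x' * (swp (a • x') (a⁻¹ • y))⁻¹.1) *
            (swp x' y)⁻¹.1 := by simp only [mul_assoc]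
      _ = _ := by
        rw [e1, mul_neg, neg_mul, mul_smul_comm, smul_mul_assoc, (swp_conj hP).2, smul_neg, neg_neg]
  have key : tt x = w * tt x' * w⁻¹ * (tt x')⁻¹ := by
    rw [tt_conj w hx'c.1.1, hwx, ← tt_neg hx'c.1.1, ← tt_add (smul_sq hx'c.1.1 _)
      (by rw [neg_mul_neg]; exact hx'c.1.1) (by rw [mul_neg, smul_mul_assoc, hx'c.1.1, smul_zero, neg_zero])
      (by rw [neg_mul, mul_smul_comm, hx'c.1.1, smul_zero, neg_zero])]
    congr 1
    rw [show (a⁻¹ * a⁻¹) • x' + -x' = c • x' by rw [hc, sub_smul, one_smul, sub_eq_add_neg], hx',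
      smul_smul, mul_inv_cancel₀ hc0, one_smul]
  rw [key, ← commutatorElement_def]
  exact Subgroup.commutator_mem_commutator hwX (Subgroup.mem_sup_left (tt_esub t.2 hx'c))

include h2 h3 hG in
theorem span_perfect (s : MinEl G) : ⁅span s, span s⁆ = span s := by
  refine le_antisymm (Subgroup.commutator_le_self _) (iSup₂_le fun A hA => ?_)
  obtain ⟨t, ht, rfl⟩ := hA
  obtain ⟨u, hu⟩ := exists_opposed hG t
  have hle : esub G t.1 ⊔ esub G u.1 ≤ span s :=
    sup_le (esub_le_span ht) (esub_le_span (ht.trans hu.reach))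
  exact (esub_le_derived h2 h3 hG hu).trans (Subgroup.commutator_mono hle hle)

include hG in
theorem compRed_span_sub {s : MinEl G} (hn : ∀ g ∈ rootSpan G, ∀ a ∈ span s, g * a * g⁻¹ ∈ span s)
    {N : Subgroup (LinearMap.GeneralLinearGroup k M)} (hNX : N ≤ span s)
    (hN : ∀ g ∈ span s, ∀ a ∈ N, g * a * g⁻¹ ∈ N) : CompRed N :=
  (((compRed_of_irreducible hG.1).of_normal rootSpan_le rootSpan_normal).of_normal
    (span_le_rootSpan s) hn).of_normal hNX hN

include h2 h3 hG in
/-- A normal subgroup of a component group is central or everything. -/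
theorem span_dichotomy (s : MinEl G) {N : Subgroup (LinearMap.GeneralLinearGroup k M)}
    (hNX : N ≤ span s) (hN : ∀ g ∈ span s, ∀ a ∈ N, g * a * g⁻¹ ∈ N) :
    N = span s ∨ ∀ n ∈ N, ∀ g ∈ span s, n * g = g * n := by
  by_cases hcase : ∃ t : MinEl G, Reach s t ∧ ∃ n ∈ N, ∀ hn : n ∈ G, Opposed t (act n hn t)
  · left
    obtain ⟨t, ht, n, hn, hopp⟩ := hcase
    have hnG : n ∈ G := rootSpan_le (span_le_rootSpan s (hNX hn))
    have hA := esub_le_span ht
    set A := esub G t.1
    set B := esub G (act n hnG t).1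
    -- modulo `N` the two are equal
    have hB : ∀ b ∈ B, ∃ m ∈ N, ∃ a ∈ A, b = m * a := by
      intro b hb
      have hb' : b ∈ Cfsg.conjBy A n := by rwa [conjBy_esub hnG t.2]
      rw [mem_conjBy] at hb'
      refine ⟨n * ((n⁻¹ * b * n) * n⁻¹ * (n⁻¹ * b * n)⁻¹), ?_, _, hb', by group⟩
      exact mul_mem hn (hN _ (hA hb') _ (inv_mem hn))
    let H : Subgroup (LinearMap.GeneralLinearGroup k M) :=
      { carrier := {g | g ∈ span s ∧ ∃ a ∈ A, g * a⁻¹ ∈ N}
        one_mem' := ⟨one_mem _, 1, one_mem _, by simp⟩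
        mul_mem' := by
          rintro p q ⟨hp, a, ha, hpa⟩ ⟨hq, b, hb, hqb⟩
          refine ⟨mul_mem hp hq, a * b, mul_mem ha hb, ?_⟩
          rw [show p * q * (a * b)⁻¹ = (p * a⁻¹) * (a * (q * b⁻¹) * a⁻¹) by group]
          exact mul_mem hpa (hN a (hA ha) _ hqb)
        inv_mem' := by
          rintro p ⟨hp, a, ha, hpa⟩
          refine ⟨inv_mem hp, a⁻¹, inv_mem ha, ?_⟩
          have h := hN _ (inv_mem (hA ha)) _ (inv_mem hpa)
          convert h using 1
          group }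
    have hAH : A ≤ H := fun a ha => ⟨hA ha, a, ha, by rw [mul_inv_cancel]; exact one_mem _⟩
    have hBH : B ≤ H := by
      intro b hb
      obtain ⟨m, hm, a, ha, rfl⟩ := hB b hb
      exact ⟨mul_mem (hNX hm) (hA ha), a, ha, by rw [mul_inv_cancel_right]; exact hm⟩
    have hHN : ⁅H, H⁆ ≤ N := by
      refine Subgroup.commutator_le.2 ?_
      rintro g ⟨hg, a, ha, hga⟩ h ⟨hh, b, hb, hhb⟩
      have hcomm : a * b = b * a := congrArg Subtype.val
        ((esub_comm t.2).is_comm.comm (⟨a, ha⟩ : esub G t.1) ⟨b, hb⟩)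
      have e : ⁅g, h⁆ = (g * a⁻¹) * (a * (h * b⁻¹) * a⁻¹) * (b * (g * a⁻¹)⁻¹ * b⁻¹) * (h * b⁻¹)⁻¹ := by
        rw [commutatorElement_def]
        calc g * h * g⁻¹ * h⁻¹ = (g * a⁻¹) * (a * (h * b⁻¹) * a⁻¹) * ((a * b) * (b * a)⁻¹) *
              (b * (g * a⁻¹)⁻¹ * b⁻¹) * (h * b⁻¹)⁻¹ := by group
          _ = _ := by rw [hcomm, mul_inv_cancel, mul_one]
      rw [e]
      exact mul_mem (mul_mem (mul_mem hga (hN a (hA ha) _ hhb)) (hN b (hA hb) _ (inv_mem hga))) (inv_mem hhb)
    have hAN : A ≤ N := (esub_le_derived h2 h3 hG (hopp hnG)).trans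
      ((Subgroup.commutator_mono (sup_le hAH hBH) (sup_le hAH hBH)).trans hHN)
    refine le_antisymm hNX (iSup₂_le fun C hC => ?_)
    obtain ⟨r, hr, rfl⟩ := hC
    obtain ⟨g, hg, he⟩ := part_class h2 h3 hG ht
    obtain ⟨g', hg', he'⟩ := part_class h2 h3 hG hr
    have he2 : esub G r.1 = Cfsg.conjBy A (g' * g⁻¹) := by
      show _ = Cfsg.conjBy (esub G t.1) _
      rw [he', he, ← conjBy_conjBy, conjBy_inv_conjBy]
    rw [he2]
    intro c hc
    rw [mem_conjBy] at hc
    have h1 := hN _ (mul_mem hg' (inv_mem hg)) _ (hAN hc)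
    convert h1 using 1
    group
  · right
    push Not at hcase
    have key : ∀ t : MinEl G, Reach s t → ∀ n ∈ N, ∀ a ∈ esub G t.1, n * a = a * n := by
      intro t ht n hn a ha
      set A := esub G t.1
      have hA : A ≤ span s := esub_le_span ht
      set H₀ := N ⊔ A
      have hH₀ : H₀ ≤ span s := sup_le hNX hA
      let W : Set (Subgroup (LinearMap.GeneralLinearGroup k M)) := {C | ∃ g ∈ H₀, C = Cfsg.conjBy A g}
      have hrep : ∀ g ∈ H₀, ∃ m ∈ N, Cfsg.conjBy A g = Cfsg.conjBy A m := by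
        intro g hg
        let R : Subgroup (LinearMap.GeneralLinearGroup k M) :=
          { carrier := {g | g ∈ span s ∧ ∃ m ∈ N, Cfsg.conjBy A g = Cfsg.conjBy A m}
            one_mem' := ⟨one_mem _, 1, one_mem _, rfl⟩
            mul_mem' := by
              rintro p q ⟨hp, m, hm, hpm⟩ ⟨hq, m', hm', hqm⟩
              refine ⟨mul_mem hp hq, p * m' * p⁻¹ * m, mul_mem (hN p hp m' hm') hm, ?_⟩
              rw [← conjBy_conjBy, hqm, conjBy_conjBy, show p * m' = (p * m' * p⁻¹) * p by group,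
                ← conjBy_conjBy, hpm, conjBy_conjBy]
              congr 1
              group
            inv_mem' := by
              rintro p ⟨hp, m, hm, hpm⟩
              refine ⟨inv_mem hp, (p⁻¹ * m * p)⁻¹, ?_, ?_⟩
              · have h := hN _ (inv_mem hp) _ hm
                rw [inv_inv] at h
                exact inv_mem h
              · rw [show (p⁻¹ * m * p)⁻¹ = p⁻¹ * (m⁻¹ * p) by group, ← conjBy_conjBy A (m⁻¹ * p) p⁻¹,
                  ← conjBy_conjBy A p m⁻¹, hpm, conjBy_inv_conjBy] }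
        exact ((show H₀ ≤ R from sup_le (fun m hm => ⟨hNX hm, m, hm, rfl⟩)
          (fun b hb => ⟨hA hb, 1, one_mem _, by rw [conjBy_one, conjBy_eq_self hb]⟩)) hg).2
      have hWW : ∀ C ∈ W, ∀ D ∈ W, Cfsg.IsUnipotentOn (C ⊔ D) := by
        rintro _ ⟨g, hg, rfl⟩ _ ⟨g', hg', rfl⟩
        obtain ⟨m, hm, hme⟩ := hrep g hg
        obtain ⟨m', hm', hme'⟩ := hrep g' hg'
        have hmG : m ∈ G := rootSpan_le (span_le_rootSpan s (hNX hm))
        have hmG' : m' ∈ G := rootSpan_le (span_le_rootSpan s (hNX hm'))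
        rw [hme, hme', conjBy_esub hmG t.2, conjBy_esub hmG' t.2]
        refine unipotent_of_zero h2 (t.2.conj hmG) (t.2.conj hmG') ?_
        obtain ⟨hG', h0⟩ := hcase t ht (m⁻¹ * m') (mul_mem (inv_mem hm) hm')
        have h0' : t.1 * ((m⁻¹ * m').1 * t.1 * (m⁻¹ * m')⁻¹.1) * t.1 = 0 := not_not.1 h0
        rw [Units.val_mul, _root_.mul_inv_rev, inv_inv, Units.val_mul] at h0'
        calc m.1 * t.1 * m⁻¹.1 * (m'.1 * t.1 * m'⁻¹.1) * (m.1 * t.1 * m⁻¹.1)
            = m.1 * (t.1 * (m⁻¹.1 * m'.1 * t.1 * (m'⁻¹.1 * m.1)) * t.1) * m⁻¹.1 := by noncomm_ring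
          _ = 0 := by rw [h0']; simp
      obtain ⟨⟨d, hd⟩, hnorm⟩ := Cfsg.Agent.S5061.result (G := H₀) (W := W)
        (by
          rintro _ ⟨g, hg, rfl⟩ c hc
          rw [mem_conjBy] at hc
          have := mul_mem (mul_mem hg (Subgroup.mem_sup_right (S := N) hc)) (inv_mem hg)
          convert this using 1
          group)
        hWW
        (by
          rintro _ ⟨g, hg, rfl⟩ g' hg'
          exact ⟨g' * g, mul_mem hg' hg, conjBy_conjBy _ _ _⟩)
      set U := ⨆ C ∈ W, C
      have hK : (U ⊓ N) = ⊥ := by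
        refine CompRed.eq_bot_of_unipotent ((compRed_span_sub hG (span_normal h2 h3 hG s) hNX hN).of_normal
          inf_le_right fun m hm c hc => Subgroup.mem_inf.2 ⟨?_, mul_mem (mul_mem hm hc.2) (inv_mem hm)⟩) ⟨d, fun l hl hlen =>
            (Cfsg.Agent.S5061.prod_coe_eq l).symm.trans (hd l (fun g hg => (hl g hg).1) hlen)⟩
        rw [← hnorm m (Subgroup.mem_sup_left hm)]
        exact conj_mem_conjBy hc.1
      have h1 : n * a * n⁻¹ * a⁻¹ ∈ U ⊓ N := by
        refine Subgroup.mem_inf.2 ⟨mul_mem ?_ (inv_mem ?_), ?_⟩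
        · exact le_iSup₂ (f := fun C (_ : C ∈ W) => C) (Cfsg.conjBy A n) ⟨n, Subgroup.mem_sup_left hn, rfl⟩
            (conj_mem_conjBy ha)
        · exact le_iSup₂ (f := fun C (_ : C ∈ W) => C) A ⟨1, one_mem _, (conjBy_one A).symm⟩ ha
        · rw [show n * a * n⁻¹ * a⁻¹ = n * (a * n⁻¹ * a⁻¹) by group]
          exact mul_mem hn (hN a (hA ha) _ (inv_mem hn))
      rw [hK, Subgroup.mem_bot, mul_inv_eq_one, mul_inv_eq_iff_eq_mul] at h1
      exact h1
    intro n hn g hg
    have hle : span s ≤ Subgroup.centralizer ({n} : Set (LinearMap.GeneralLinearGroup k M)) := by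
      refine iSup₂_le fun C hC a ha => Subgroup.mem_centralizer_singleton_iff.2 ?_
      obtain ⟨r, hr, rfl⟩ := hC
      exact (key r hr n hn a ha).symm
    exact (Subgroup.mem_centralizer_singleton_iff.1 (hle hg)).symm

end CfsgLib.Quadratic.Comp
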