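import Cfsg.Agent.Lib.Quadratic.Pair
import Cfsg.Agent.Lib.Quadratic.NoIsolated

/-!
A quadratic element of any rank is a least element times one of smaller rank, or centralizes all
least elements; so it lies in `G₀ C(G₀)`.
-/

set_option autoImplicit false

namespace CfsgLib.Quadratic

open Matrix Polynomial

variable {k : Type*} [Field k] {M : Type*} [AddCommGroup M] [Module k M] [FiniteDimensional k M]
variable {G : Subgroup (LinearMap.GeneralLinearGroup k M)}

/-- The descent with only the left element least. -/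
theorem sts_eq_zero_left (h2 : (2 : k) ≠ 0) : ∀ (n : ℕ) {s t : M →ₗ[k] M}, IsMin G s → Fam G t →
    (s * t) ^ n * s = 0 → s * t * s = 0 := by
    intro n s t hs ht hn
    have mono : ∀ {i : ℕ}, n ≤ i → (s * t) ^ i * s = 0 := by
      intro i hi
      obtain ⟨d, rfl⟩ := Nat.exists_eq_add_of_le hi
      induction d with
      | zero => simpa using hn
      | succ d ihd =>
        rw [show n + (d + 1) = (n + d) + 1 by ring, pow_succ', mul_assoc, ihd (by omega), mul_zero]
    rcases Nat.lt_or_ge n 2 with hn2 | hn2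
    · simpa using mono (i := 1) (by omega)
    have ss := hs.1.1
    have tt' := ht.1
    -- the two conjugates of `s` under `t`
    have key : ∀ u : M →ₗ[k] M, IsMin G u → s * u * s = -((s * t) ^ 2 * s) → s * u * s = 0 := by
      intro u hu hus
      refine sts_eq_zero h2 ((n + 1) / 2) hs hu ?_
      have : ∀ j : ℕ, (s * u) ^ j * s = (-1 : k) ^ j • ((s * t) ^ (2 * j) * s) := by
        intro j
        induction j with
        | zero => simp
        | succ j ihj =>
          rw [pow_succ (s * u), mul_assoc, hus, mul_neg, show 2 * (j + 1) = 2 * j + 2 by ring,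
            pow_add (s * t) (2 * j) 2, pow_two, pow_succ (-1 : k)]
          rw [show (s * u) ^ j * (s * t * (s * t) * s) = ((s * u) ^ j * s) * (t * s * t * s) by noncomm_ring,
            ihj, smul_mul_assoc]
          rw [mul_neg_one, neg_smul]
          congr 2
      rw [this, mono (by omega), smul_zero]
    have hgt : tt t ∈ G := ht.tt_mem
    have hmx : IsMin G (s + (t * s - s * t) - t * s * t) := by
      have := hs.conj hgt
      rwa [conj_eq tt'] at this
    have hmy : IsMin G (s - (t * s - s * t) - t * s * t) := by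
      have := hs.conj (inv_mem hgt)
      rw [← tt_neg tt', conj_eq (by rwa [neg_mul_neg])] at this
      convert this using 1
      noncomm_ring
    set x := s + (t * s - s * t) - t * s * t with hx
    set y := s - (t * s - s * t) - t * s * t with hy
    have hxs : s * x * s = -((s * t) ^ 2 * s) := by
      rw [hx, pow_two]
      calc s * (s + (t * s - s * t) - t * s * t) * s
          = (s * s) * s + s * t * (s * s) - (s * s) * t * s - s * t * s * t * s := by noncomm_ring
        _ = _ := by simp [ss]; noncomm_ring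
    have hys : s * y * s = -((s * t) ^ 2 * s) := by
      rw [hy, pow_two]
      calc s * (s - (t * s - s * t) - t * s * t) * s
          = (s * s) * s - s * t * (s * s) + (s * s) * t * s - s * t * s * t * s := by noncomm_ring
        _ = _ := by simp [ss]; noncomm_ring
    have hx0 := key x hmx hxs
    have hy0 := key y hmy hys
    have h5 : s * t * s * t * s = 0 := by
      have e := hx0
      rw [hxs, neg_eq_zero, pow_two] at e
      rw [← e]; noncomm_ring
    have hT : ∀ (g : LinearMap.GeneralLinearGroup k M) (a b : M →ₗ[k] M), b = g.1 * s * g⁻¹.1 →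
        a = g⁻¹.1 * s * g.1 → s * a * s = 0 → b * s * b = 0 := by
      intro g a b hb ha h0
      rw [hb, show g.1 * s * g⁻¹.1 * s * (g.1 * s * g⁻¹.1) = g.1 * (s * (g⁻¹.1 * s * g.1) * s) * g⁻¹.1 by
        noncomm_ring, ← ha, h0, mul_zero, zero_mul]
    have ex : x = (tt t).1 * s * (tt t)⁻¹.1 := by rw [conj_eq tt', hx]
    have ey : y = (tt t)⁻¹.1 * s * (tt t).1 := by
      rw [tt_inv_val tt', tt_val tt', hy]; noncomm_ring
    have hxsx : x * s * x = 0 := hT (tt t) y x ex ey hy0
    have hysy : y * s * y = 0 := hT (tt t)⁻¹ x y (by rw [ey, inv_inv]) (by rw [ex, inv_inv]) hx0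
    have hA := hs.1.comm hmx.1 hx0 hxsx
    have hB := hs.1.comm hmy.1 hy0 hysy
    set D := s * t * s * t - t * s * t * s with hD
    have eA : s * x - x * s = 2 • (s * t * s) - D := by
      rw [hx, hD]
      calc s * (s + (t * s - s * t) - t * s * t) - (s + (t * s - s * t) - t * s * t) * s
          = 2 • (s * t * s) - (s * t * s * t - t * s * t * s) - (s * s) * t - t * (s * s) := by noncomm_ring
        _ = _ := by simp [ss]
    have eB : s * y - y * s = -(2 • (s * t * s)) - D := by
      rw [hy, hD]
      calc s * (s - (t * s - s * t) - t * s * t) - (s - (t * s - s * t) - t * s * t) * s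
          = -(2 • (s * t * s)) - (s * t * s * t - t * s * t * s) + (s * s) * t + t * (s * s) := by noncomm_ring
        _ = _ := by simp [ss]
    set P := s * t * s with hP
    have hPP : P * P = 0 := by
      rw [hP, show s * t * s * (s * t * s) = s * t * (s * s) * (t * s) by noncomm_ring, ss]; simp
    have hPD : P * D = 0 := by
      rw [hP, hD, show s * t * s * (s * t * s * t - t * s * t * s) =
        s * t * (s * s) * (t * s * t) - (s * t * s * t * s) * (t * s) by noncomm_ring, ss, h5]; simp
    have hDP : D * P = 0 := by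
      rw [hP, hD, show (s * t * s * t - t * s * t * s) * (s * t * s) =
        (s * t * s * t * s) * (t * s) - t * s * t * (s * s) * (t * s) by noncomm_ring, ss, h5]; simp
    have hDD : D * D = 0 := by
      rw [hD, show (s * t * s * t - t * s * t * s) * (s * t * s * t - t * s * t * s) =
        (s * t * s * t * s) * (t * s * t) - s * t * s * (t * t) * (s * t * s)
          - t * s * t * (s * s) * (t * s * t) + t * s * t * (s * t * s * (t * t) * 0 + 1 * (s * t * s * t * s)) - 0 by
        noncomm_ring, ss, h5, tt']; simp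
    rw [eA] at hA
    rw [eB] at hB
    have hB' : Fam G (2 • P + D) := by
      have := hB.smul (-1)
      rwa [neg_one_smul, neg_sub, sub_neg_eq_add, add_comm] at this
    have h4 := hA.add hB' (by
        simp [two_nsmul, sub_mul, mul_add, add_mul, hPP, hPD, hDP, hDD, two_mul])
      (by simp [two_nsmul, add_mul, mul_sub, mul_add, hPP, hPD, hDP, hDD, two_mul])
    have hFam : Fam G P := by
      have e : P = (4 : k)⁻¹ • (2 • P - D + (2 • P + D)) := by
        rw [sub_add_add_cancel, ← add_smul, ← Nat.cast_smul_eq_nsmul k, smul_smul]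
        norm_num
        rw [inv_mul_cancel₀ (by rw [show (4 : k) = 2 * 2 by norm_num]; exact mul_ne_zero h2 h2), one_smul]
      rw [e]
      exact h4.smul _
    by_contra hP0
    have hr := range_eq_of_min hs hFam hP0 (by
      rw [hP, mul_assoc]; exact LinearMap.range_comp_le_range _ _)
    apply hP0
    ext v
    obtain ⟨w, hw⟩ : s v ∈ LinearMap.range P := hr.symm ▸ LinearMap.mem_range_self s v
    show s (t (s v)) = 0
    rw [← hw, hP]
    exact LinearMap.congr_fun (show s * (t * (s * t * s)) = 0 by rw [← h5]; noncomm_ring) w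

variable {s t : M →ₗ[k] M}

/-- The corner of a least element and any family member. -/
theorem exists_corner_field (h2 : (2 : k) ≠ 0) (h3 : Nat.card k ≠ 3) (hs : IsMin G s) (ht : Fam G t)
    (hst : s * t * s ≠ 0) :
    ∃ D : Corner s t, D.e * s = s ∧ D.e ≠ 0 ∧ ∀ γ, D.rep γ ∈ pairGroup s t := by
  obtain ⟨D⟩ := exists_corner hs.1.1 ht.1
  have : FiniteDimensional k D.R := (AdjoinRoot.powerBasis D.g_ne).finite
  have he : D.e ≠ 0 := by
    intro he
    apply hst
    refine sts_eq_zero_left h2 D.a hs ht ?_
    have hnil := D.nil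
    change (1 - D.e) * D.z ^ D.a = 0 at hnil
    rw [he, sub_zero, one_mul] at hnil
    have hcomm : ∀ i : ℕ, (s * t) ^ i * s = D.z ^ i * s := by
      intro i
      induction i with
      | zero => simp
      | succ i ih =>
        have hzi : D.z ^ i * (s * t) = (s * t) * D.z ^ i :=
          ((Commute.mul_right D.z_s D.z_t).pow_left i).eq
        rw [pow_succ', pow_succ', mul_assoc, ih, ← mul_assoc, ← hzi, mul_assoc, D.sts, ← mul_assoc]
        rw [(Commute.self_pow D.z i).eq]
    rw [hcomm, hnil, zero_mul]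
  have hnt : Nontrivial D.R := by
    refine ⟨⟨0, 1, fun e01 => he ?_⟩⟩
    rw [← D.j_one, ← e01, D.j_zero]
  have hgen : Algebra.adjoin k {(D.rootUnit : D.R)} = ⊤ := AdjoinRoot.adjoinRoot_eq_top
  obtain ⟨n, hn⟩ := D.exists_deep_lift
  have hQ := RingSL2.isGood_der h2 h3 hgen n
  have hjs : ∀ x : D.R, D.j x * D.P01 = D.j x * s := fun x => by
    rw [Corner.P01, ← D.e_s, ← mul_assoc, D.j_e]
  have hjs0 : ∀ x : D.R, D.j x * s = 0 → x = 0 := by
    intro x hx
    apply D.j_units_injective (b := 0)
    obtain ⟨-, -, -, -, -, -, h12, -, -, h21, -⟩ := D.table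
    obtain ⟨-, -, z2, -⟩ := D.z_units
    have a0 : D.j x * D.P00 = 0 := by rw [← h12, ← mul_assoc, hjs, hx, zero_mul]
    have a1 : D.j x * D.P11 = 0 := by
      rw [← h21, ← mul_assoc, D.j_comm z2, mul_assoc, hjs, hx, mul_zero]
    rw [a0, a1, D.j_zero, zero_mul, zero_mul]
  have hfield : IsField D.R := by
    by_contra hR
    obtain ⟨x, hx0, hxu, hx⟩ := RingSL2.exists_small hQ h2 h3 hgen hR
    have hfam := D.rep_U_fam hn hQ hs.1 ht hx
    have hne : D.j x * s ≠ 0 := fun e => hx0 (hjs0 x e)
    have hle := hs.2.2 _ hfam hne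
    have : IsArtinianRing D.R := isArtinian_of_tower k inferInstance
    obtain ⟨y, hy0, hxy⟩ : ∃ y, y ≠ 0 ∧ x * y = 0 := by
      by_contra hcon
      push Not at hcon
      apply hxu
      have hinj : Function.Injective (LinearMap.mulLeft k x) := by
        rw [← LinearMap.ker_eq_bot, LinearMap.ker_eq_bot']
        intro y hy
        by_contra hy0
        exact hcon y hy0 hy
      obtain ⟨b, hb⟩ := LinearMap.injective_iff_surjective.1 hinj 1
      exact IsUnit.of_mul_eq_one (a := x) b hb
    have hlt : rk (D.j x * s) < rk s := by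
      have h1 : LinearMap.range (D.j x * s) = (LinearMap.range s).map (D.j x) := LinearMap.range_comp _ _
      rw [rk, rk, h1]
      obtain ⟨v, hv⟩ : ∃ v, (D.j y * s) v ≠ 0 := by
        by_contra hcon
        push Not at hcon
        exact hy0 (hjs0 y (LinearMap.ext hcon))
      have hmem : (D.j y * s) v ∈ LinearMap.range s := by
        rw [D.j_comm D.z_s y]; exact ⟨_, rfl⟩
      have hker : D.j x ((D.j y * s) v) = 0 := by
        show (D.j x * (D.j y * s)) v = 0
        rw [← mul_assoc, ← D.j_mul, hxy, D.j_zero, zero_mul]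
        rfl
      have h := (D.j x).domRestrict (LinearMap.range s) |>.finrank_range_add_finrank_ker
      have hk : 0 < Module.finrank k (LinearMap.ker ((D.j x).domRestrict (LinearMap.range s))) := by
        refine Module.finrank_pos_iff_exists_ne_zero.2 ⟨⟨⟨_, hmem⟩, hker⟩, fun e => hv ?_⟩
        simpa [Subtype.ext_iff] using e
      rw [show LinearMap.range ((D.j x).domRestrict (LinearMap.range s)) =
        (LinearMap.range s).map (D.j x) from LinearMap.range_domRestrict _ _] at h
      omega
    omega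
  have htopQ := RingSL2.eq_top_of_isField hfield hQ
  have hall : ∀ γ, D.rep γ ∈ pairGroup s t := fun γ => hn γ (htopQ ▸ Subgroup.mem_top γ)
  have hes : D.e * s = s := by
    have hfam : Fam G (D.e * s) := by
      have := D.rep_U_fam hn hQ hs.1 ht (x := 1) (htopQ ▸ Subgroup.mem_top _)
      rwa [D.j_one] at this
    have hne : D.e * s ≠ 0 := fun e => one_ne_zero (α := D.R) (hjs0 1 (by rw [D.j_one, e]))
    have hr := range_eq_of_min hs hfam hne (by
      rw [D.e_s]; exact LinearMap.range_comp_le_range _ _)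
    refine LinearMap.ext fun v => ?_
    obtain ⟨u, hu⟩ : s v ∈ LinearMap.range (D.e * s) := hr.symm ▸ LinearMap.mem_range_self s v
    show D.e (s v) = s v
    rw [← hu]
    exact LinearMap.congr_fun (show D.e * (D.e * s) = D.e * s by rw [← mul_assoc, D.ee]) u
  exact ⟨D, hes, he, hall⟩

/-- Splitting off a least part. -/
theorem exists_min_part (h2 : (2 : k) ≠ 0) (h3 : Nat.card k ≠ 3) (hs : IsMin G s) (ht : Fam G t)
    (hst : s * t * s ≠ 0) :
    ∃ y, IsMin G y ∧ Fam G (t - y) ∧ y * (t - y) = 0 ∧ (t - y) * y = 0 ∧ rk (t - y) < rk t := by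
  obtain ⟨D, hes, he, hall⟩ := exists_corner_field h2 h3 hs ht hst
  have hfam : Fam G (D.e * t) := by
    refine ⟨?_, fun c => ?_⟩
    · rw [show D.e * t * (D.e * t) = D.e * (t * D.e) * t by noncomm_ring, ← D.e_t,
        show D.e * (D.e * t) * t = D.e * D.e * (t * t) by noncomm_ring, D.ht, mul_zero]
    · rw [← D.rep_L]; exact pairGroup_le hs.1 ht (hall _)
  obtain ⟨-, -, -, -, -, -, h12, -, -, h21, -, -, -, -, h32, -⟩ := D.table
  have hne : D.e * t ≠ 0 := by
    intro e0
    apply he
    have hP : D.P10 = 0 := by rw [Corner.P10, mul_assoc, ← D.e_t, e0, mul_zero]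
    rw [← D.unit_sum, ← h12, ← h21, hP, mul_zero, zero_mul, add_zero]
  have hrk : rk (D.e * t) ≤ rk s := by
    have e1 : D.e * t = D.z * D.P10 := by
      have hw : D.w * D.z * D.e = D.e := D.wze
      have hzw : D.z * D.w = D.w * D.z := (D.poly_comm (x := D.z) rfl D.wp).symm
      rw [Corner.P10, ← mul_assoc, ← mul_assoc, hzw, mul_assoc (D.w * D.z) t D.e, ← D.e_t, ← mul_assoc, hw]
    have e2 : D.P10 = D.P10 * D.P01 * D.P10 := by rw [h21, h32]
    rw [e1, e2]
    refine (rk_mul_le_right _ _).trans ((rk_mul_le_left _ _).trans ((rk_mul_le_right _ _).trans ?_))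
    rw [Corner.P01]
    exact rk_mul_le_left _ _
  have hee : D.e * (D.e * t) = D.e * t := by rw [← mul_assoc, D.ee]
  have o1 : t * (D.e * t) = 0 := by rw [D.e_t, ← mul_assoc, D.ht, zero_mul]
  have o2 : D.e * t * t = 0 := by rw [mul_assoc, D.ht, mul_zero]
  refine ⟨D.e * t, hs.of_rk hfam hne hrk, ?_, ?_, ?_, ?_⟩
  · have := ht.add (hfam.smul (-1 : k)) (by rw [mul_smul_comm, o1, smul_zero])
      (by rw [smul_mul_assoc, o2, smul_zero])
    rwa [neg_one_smul, ← sub_eq_add_neg] at this
  · rw [mul_sub, o2, hfam.1, sub_zero]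
  · rw [sub_mul, o1, hfam.1, sub_zero]
  · refine Submodule.finrank_lt_finrank_of_lt (lt_of_le_of_ne ?_ ?_)
    · rintro _ ⟨v, rfl⟩
      refine sub_mem ⟨v, rfl⟩ ?_
      rw [D.e_t]
      exact ⟨D.e v, rfl⟩
    · intro heq
      obtain ⟨v, hv⟩ : ∃ v, (D.e * t) v ≠ 0 := by
        by_contra hc; push Not at hc; exact hne (LinearMap.ext hc)
      have hmem : (D.e * t) v ∈ LinearMap.range t := by rw [D.e_t]; exact ⟨D.e v, rfl⟩
      obtain ⟨u, hu⟩ : (D.e * t) v ∈ LinearMap.range (t - D.e * t) := heq.symm ▸ hmem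
      apply hv
      calc (D.e * t) v = (D.e * (D.e * t)) v := by rw [hee]
        _ = D.e ((D.e * t) v) := rfl
        _ = (D.e * (t - D.e * t)) u := by rw [← hu]; rfl
        _ = 0 := by rw [mul_sub, hee, sub_self]; rfl

/-- A family member with `e t e = 0` for all least `e` commutes with all least elements. -/
theorem commute_of_all_zero (h2 : (2 : k) ≠ 0) (h3 : Nat.card k ≠ 3) (hirr : Cfsg.IsIrreducibleFor G)
    (ht : Fam G t) (hz : ∀ e, IsMin G e → e * t * e = 0) {e : M →ₗ[k] M} (he : IsMin G e) :
    e * t = t * e := by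
  have ee := he.1.1
  have tt' := ht.1
  have ete := hz e he
  -- the bracket with `t` is isolated
  have hbr : ∀ f g, IsMin G f → IsMin G g → f * (t * g - g * t) * f = 0 := by
    intro f g hf hg
    obtain ⟨a, ha0, ha⟩ := RingSL2.exists_sq_ne_one (k := k) h2 h3
    set P := f * t * (g * f - f * g) + (g * f - f * g) * t * f with hP
    set Q := (g * f - f * g) * t * (g * f * g) + (g * f * g) * t * (g * f - f * g) with hQ
    have hcz : ∀ c : k, (2 * c) • P - (2 * c ^ 3) • Q = 0 := by
      intro c
      have h1 := hz _ (hf.conj (hg.1.2 c))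
      have h4 := hz _ (hf.conj (hg.1.2 (-c)))
      rw [conj_eq (smul_sq hg.1.1 c)] at h1
      rw [conj_eq (smul_sq hg.1.1 (-c))] at h4
      have hd := congrArg₂ (· - ·) h1 h4

      rw [sub_zero] at hd
      rw [← hd, hP, hQ]
      simp only [smul_mul_assoc, mul_smul_comm, mul_sub, sub_mul, mul_add, add_mul, smul_sub, smul_add,
        smul_smul, neg_smul, neg_mul, mul_neg, neg_neg, smul_neg, ← mul_assoc]
      match_scalars <;> ring
    have e1 := hcz 1
    have e2 := hcz a
    have hQ0 : (2 * a - 2 * a ^ 3) • Q = 0 := by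
      have : a • ((2 * 1 : k) • P - (2 * 1 ^ 3 : k) • Q) - ((2 * a) • P - (2 * a ^ 3) • Q) =
          (2 * a ^ 3 - 2 * a) • Q := by module
      rw [e1, e2, smul_zero, sub_zero] at this
      rw [← neg_sub, neg_smul, ← this, neg_zero]
    have hQ' : Q = 0 := (smul_eq_zero.1 hQ0).resolve_left (by
      rw [show 2 * a - 2 * a ^ 3 = 2 * a * (1 - a * a) by ring]
      exact mul_ne_zero (mul_ne_zero h2 ha0) (sub_ne_zero.2 (Ne.symm ha)))
    rw [hQ', smul_zero, sub_zero] at e1
    have hP' : P = 0 := (smul_eq_zero.1 e1).resolve_left (by simpa using h2)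
    rw [← hP', hP]
    calc f * (t * g - g * t) * f
        = f * t * (g * f - f * g) + (g * f - f * g) * t * f + (f * t * f) * g - g * (f * t * f) := by
          noncomm_ring
      _ = _ := by rw [hz f hf]; simp
  set u := t * e - e * t with hu
  set w := t * e * t with hw
  have hep := he.conj ht.tt_mem
  have hem := he.conj (inv_mem ht.tt_mem)
  have ep : (tt t).1 * e * (tt t)⁻¹.1 = e + u - w := by rw [conj_eq tt']
  have em : (tt t)⁻¹.1 * e * (tt t)⁻¹⁻¹.1 = e - u - w := by
    rw [inv_inv, tt_inv_val tt', tt_val tt', hu, hw]; noncomm_ring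
  rw [ep] at hep
  rw [em] at hem
  have eu : e * u = 0 ∧ u * e = 0 := by
    constructor
    · rw [hu, mul_sub, ← mul_assoc, ← mul_assoc, ete, ee, zero_mul, sub_zero]
    · rw [hu, sub_mul, mul_assoc t, ee, mul_zero, ete, sub_zero]
  have ew : e * w = 0 ∧ w * e = 0 := by
    constructor
    · rw [hw, ← mul_assoc, ← mul_assoc, ete, zero_mul]
    · rw [hw, show t * e * t * e = t * (e * t * e) by noncomm_ring, ete, mul_zero]
  have uu : u * u = 0 := by
    rw [hu, show (t * e - e * t) * (t * e - e * t) =
      t * (e * t * e) - t * (e * e) * t - e * (t * t) * e + (e * t * e) * t by noncomm_ring, ete, ee, tt']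
    simp
  have uw : u * w = 0 ∧ w * u = 0 := by
    constructor
    · rw [hu, hw, show (t * e - e * t) * (t * e * t) = t * (e * t * e) * t - e * (t * t) * e * t by
        noncomm_ring, ete, tt']
      simp
    · rw [hu, hw, show t * e * t * (t * e - e * t) = t * e * (t * t) * e - t * (e * t * e) * t by
        noncomm_ring, ete, tt']
      simp
  have ww : w * w = 0 := by
    rw [hw, show t * e * t * (t * e * t) = t * e * (t * t) * (e * t) by noncomm_ring, tt']; simp
  have o1 : (e + u - w) * (e - u - w) = 0 := by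
    simp [mul_sub, sub_mul, add_mul, ee, eu.1, eu.2, ew.1, ew.2, uu, uw.1, uw.2, ww]
  have o2 : (e - u - w) * (e + u - w) = 0 := by
    simp [mul_sub, sub_mul, mul_add, ee, eu.1, eu.2, ew.1, ew.2, uu, uw.1, uw.2, ww]
  have hfu : Fam G u := by
    have := (hep.1.add (hem.1.smul (-1 : k)) (by rw [mul_smul_comm, o1, smul_zero])
      (by rw [smul_mul_assoc, o2, smul_zero])).smul (2 : k)⁻¹
    rwa [show e + u - w + (-1 : k) • (e - u - w) = (2 : k) • u by module, inv_smul_smul₀ h2] at this
  have hfw : Fam G w := by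
    have h := (hep.1.add hem.1 o1 o2).add (he.1.smul (-2 : k))
      (by simp [add_mul, sub_mul, ee, eu.2, ew.2]) (by simp [mul_add, mul_sub, ee, eu.1, ew.1])
    have := h.smul (-2 : k)⁻¹
    rwa [show e + u - w + (e - u - w) + (-2 : k) • e = (-2 : k) • w by module,
      inv_smul_smul₀ (neg_ne_zero.2 h2)] at this
  have iso : ∀ y, IsMin G y → (∀ f, IsMin G f → f * y * f = 0) → False := by
    intro y hy h
    obtain ⟨f, hf, hne⟩ := exists_nonunipotent hirr hy
    exact hne (tst_eq_zero h2 hf hy (h f hf))
  have hw0 : w = 0 := by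
    by_contra hne
    refine iso w (he.of_rk hfw hne ((rk_mul_le_left _ _).trans (rk_mul_le_right _ _))) fun f hf => ?_
    have h := congrArg₂ (· - ·) (hbr f _ hf hep) (hbr f _ hf hem)

    rw [sub_zero] at h
    have hbu : t * u - u * t = -((2 : k) • w) := by
      rw [hu, show t * (t * e - e * t) - (t * e - e * t) * t = (t * t) * e + e * (t * t) - (w + w) by
        rw [hw]; noncomm_ring, tt', two_smul]
      simp
    have h' : (2 : k) • (f * (t * u - u * t) * f) = 0 := by
      rw [← h, two_smul]; noncomm_ring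
    rw [hbu] at h'
    simpa [h2, smul_eq_zero] using h'
  have hu0 : u = 0 := by
    by_contra hne
    refine iso u (he.of_rk hfu hne (rk_comm_le ?_)) fun f hf => hbr f e hf he
    exact hw0
  exact (sub_eq_zero.1 hu0).symm

/-- Every family member lies in `G₀ C(G₀)`. -/
theorem fam_split (h2 : (2 : k) ≠ 0) (h3 : Nat.card k ≠ 3) (hirr : Cfsg.IsIrreducibleFor G)
    {G₀ : Subgroup (LinearMap.GeneralLinearGroup k M)} (hmin : ∀ y, IsMin G y → tt y ∈ G₀)
    (hgen : ∀ g, (∀ y, IsMin G y → tt y * g = g * tt y) → g ∈ G →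
      g ∈ G ⊓ Subgroup.centralizer (G₀ : Set (LinearMap.GeneralLinearGroup k M))) :
    ∀ (n : ℕ) (t : M →ₗ[k] M), Fam G t → rk t = n →
      tt t ∈ G₀ ⊔ (G ⊓ Subgroup.centralizer (G₀ : Set (LinearMap.GeneralLinearGroup k M))) := by
  intro n
  induction n using Nat.strong_induction_on with
  | _ n ih =>
    intro t ht hn
    by_cases hz : ∀ e, IsMin G e → e * t * e = 0
    · refine Subgroup.mem_sup_right (hgen _ (fun y hy => ?_) ht.tt_mem)
      rw [commute_tt_iff hy.1.1 ht.1]
      exact commute_of_all_zero h2 h3 hirr ht hz hy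
    · push Not at hz
      obtain ⟨e, he, hne⟩ := hz
      obtain ⟨y, hy, hf, o1, o2, hlt⟩ := exists_min_part h2 h3 he ht hne
      have e0 : tt t = tt y * tt (t - y) := by
        rw [← tt_add hy.1.1 hf.1 o1 o2, add_sub_cancel]
      rw [e0]
      exact mul_mem (Subgroup.mem_sup_left (hmin y hy)) (ih _ (hn ▸ hlt) _ hf rfl)

end CfsgLib.Quadratic
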