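import Cfsg.Agent.Lib.Quadratic.RingSL2
import Cfsg.Agent.Lib.RootGroups.SimpleExtensionFinite

/-!
Iterated commutator subgroups of subgroups; for the group generated by the two translation groups
over `k` in `SL₂` of `R = k[z]` they satisfy the hypotheses of `RingSL2.exists_small`.
-/

set_option autoImplicit false

namespace CfsgLib.Quadratic

open Matrix

section Der

variable {G H : Type*} [Group G] [Group H]

/-- The derived series of a subgroup, inside the ambient group. -/
def der : ℕ → Subgroup G → Subgroup G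
  | 0, S => S
  | n + 1, S => ⁅der n S, der n S⁆

theorem der_le (n : ℕ) (S : Subgroup G) : der n S ≤ S := by
  induction n with
  | zero => exact le_rfl
  | succ n ih => exact (Subgroup.commutator_mono ih ih).trans (Subgroup.commutator_le_self _)

theorem der_mono {S T : Subgroup G} (h : S ≤ T) (n : ℕ) : der n S ≤ der n T := by
  induction n with
  | zero => exact h
  | succ n ih => exact Subgroup.commutator_mono ih ih

theorem der_map (f : G →* H) (n : ℕ) (S : Subgroup G) : (der n S).map f = der n (S.map f) := by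
  induction n with
  | zero => rfl
  | succ n ih => simp only [der, Subgroup.map_commutator, ih]

theorem der_map_mem {f : G →* G} {S : Subgroup G} (h : S.map f ≤ S) {n : ℕ} {x : G}
    (hx : x ∈ der n S) : f x ∈ der n S :=
  der_mono h n ((der_map f n S).le (Subgroup.mem_map_of_mem f hx))

theorem der_eq_self_of_perfect {S : Subgroup G} (h : ⁅S, S⁆ = S) (n : ℕ) : der n S = S := by
  induction n with
  | zero => rfl
  | succ n ih => simp only [der, ih, h]

end Der

namespace RingSL2

variable {k R : Type*} [Field k] [CommRing R] [Algebra k R]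

variable (k) in
/-- The two translation groups over `k`. -/
def gens (z : R) : Subgroup (SpecialLinearGroup (Fin 2) R) :=
  Subgroup.closure ((Set.range fun c : k => U (algebraMap k R c)) ∪
    (Set.range fun c : k => L (algebraMap k R c * z)))

theorem U_one_mem (z : R) : U (1 : R) ∈ gens k z :=
  Subgroup.subset_closure (Or.inl ⟨1, by simp⟩)

theorem perfect_field {F : Type*} [Field F] [Algebra k F] (h2 : (2 : k) ≠ 0) (h3 : Nat.card k ≠ 3)
    (pb : PowerBasis k F) (hα : pb.gen ≠ 0) :
    CfsgLib.RootGroups.SimpleExt.gens k pb.gen = (⊤ : Subgroup (SpecialLinearGroup (Fin 2) F)) ∧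
      ⁅(⊤ : Subgroup (SpecialLinearGroup (Fin 2) F)), (⊤ : Subgroup (SpecialLinearGroup (Fin 2) F))⁆ =
        (⊤ : Subgroup (SpecialLinearGroup (Fin 2) F)) := by
  have htop : CfsgLib.RootGroups.SimpleExt.gens k pb.gen =
      (⊤ : Subgroup (SpecialLinearGroup (Fin 2) F)) := by
    cases finite_or_infinite k
    · exact CfsgLib.RootGroups.SimpleExt.top_of_finite pb h2 h3 hα
    · exact CfsgLib.RootGroups.SimpleExt.top_of_infinite pb h2 hα
  refine ⟨htop, top_le_iff.1 ?_⟩
  obtain ⟨a, ha0, ha⟩ := exists_sq_ne_one h2 h3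
  set b := algebraMap k F a with hb
  have hb0 : b ≠ 0 := by simpa [hb] using ha0
  have hb1 : b * b - 1 ≠ 0 := fun e => ha ((algebraMap k F).injective
    (by rw [map_mul, map_one, ← hb]; exact sub_eq_zero.1 e))
  have hb2 : b ^ 2 - 1 ≠ 0 := by rwa [pow_two]
  let D : SpecialLinearGroup (Fin 2) F := ⟨!![b, 0; 0, b⁻¹], by simp [det_fin_two, hb0]⟩
  have d00 : D.1 0 0 = b := rfl
  have d01 : D.1 0 1 = 0 := rfl
  have d10 : D.1 1 0 = 0 := rfl
  have d11 : D.1 1 1 = b⁻¹ := rfl
  conv_lhs => rw [← htop]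
  rw [CfsgLib.RootGroups.SimpleExt.gens, Subgroup.closure_le]
  rintro _ (⟨c, rfl⟩ | ⟨c, rfl⟩)
  · have := Subgroup.commutator_mem_commutator (Subgroup.mem_top D)
      (Subgroup.mem_top (CfsgLib.RootGroups.SimpleExt.U (algebraMap k F c / (b * b - 1))))
    rw [commutatorElement_def] at this
    refine Eq.mpr ?_ this
    refine congrArg (· ∈ _) ?_
    refine ext ?_ ?_ ?_ ?_ <;>
      simp [CfsgLib.RootGroups.SimpleExt.U_val, d00, d01, d10, d11, hb0] <;>
      field_simp [hb1, hb2] <;> ring
  · have := Subgroup.commutator_mem_commutator (Subgroup.mem_top D⁻¹)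
      (Subgroup.mem_top (CfsgLib.RootGroups.SimpleExt.L (algebraMap k F c * pb.gen / (b * b - 1))))
    rw [commutatorElement_def] at this
    refine Eq.mpr ?_ this
    refine congrArg (· ∈ _) ?_
    refine ext ?_ ?_ ?_ ?_ <;>
      simp [CfsgLib.RootGroups.SimpleExt.L_val, d00, d01, d10, d11, hb0] <;>
      field_simp [hb1, hb2] <;> ring

theorem isGood_der [FiniteDimensional k R] (h2 : (2 : k) ≠ 0) (h3 : Nat.card k ≠ 3) {z : Rˣ}
    (hgen : Algebra.adjoin k {(z : R)} = ⊤) (n : ℕ) : IsGood k z (der n (gens k (z : R))) := by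
  refine ⟨fun g hg => ?_, fun g hg => ?_, fun c g hg => ?_, fun m hm y => ?_⟩
  · refine der_map_mem (f := (MulAut.conj (U (1 : R))).toMonoidHom) ?_ hg
    rintro _ ⟨x, hx, rfl⟩
    exact mul_mem (mul_mem (U_one_mem _) hx) (inv_mem (U_one_mem _))
  · refine der_map_mem (f := flipHom z) ?_ hg
    rw [gens, MonoidHom.map_closure, Subgroup.closure_le]
    rintro _ ⟨_, (⟨d, rfl⟩ | ⟨d, rfl⟩), rfl⟩
    · refine Subgroup.subset_closure (Or.inr ⟨d, ext ?_ ?_ ?_ ?_⟩) <;>
        simp [flipHom, flipFun, mul_comm]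
    · refine Subgroup.subset_closure (Or.inl ⟨d, ext ?_ ?_ ?_ ?_⟩) <;>
        simp [flipHom, flipFun]
  · refine der_map_mem (f := scaleHom c) ?_ hg
    rw [gens, MonoidHom.map_closure, Subgroup.closure_le]
    rintro _ ⟨_, (⟨d, rfl⟩ | ⟨d, rfl⟩), rfl⟩
    · refine Subgroup.subset_closure (Or.inl ⟨(c : k) * d, ext ?_ ?_ ?_ ?_⟩) <;>
        simp [scaleHom, scaleFun]
    · refine Subgroup.subset_closure (Or.inr ⟨((c⁻¹ : kˣ) : k) * d, ext ?_ ?_ ?_ ?_⟩) <;>
        simp [scaleHom, scaleFun, mul_assoc, -Units.val_inv_eq_inv_val]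
  · letI := Ideal.Quotient.field m
    have hadj : Algebra.adjoin k {Ideal.Quotient.mkₐ k m (z : R)} = ⊤ := by
      rw [← Set.image_singleton (f := Ideal.Quotient.mkₐ k m), ← AlgHom.map_adjoin, hgen,
        Algebra.map_top, AlgHom.range_eq_top]
      exact Ideal.Quotient.mkₐ_surjective k m
    have : FiniteDimensional k (R ⧸ m) :=
      Module.Finite.of_surjective (Ideal.Quotient.mkₐ k m).toLinearMap (Ideal.Quotient.mkₐ_surjective k m)
    let pb := PowerBasis.ofAdjoinEqTop' (Algebra.IsIntegral.isIntegral _) hadj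
    have hpb : pb.gen = Ideal.Quotient.mkₐ k m (z : R) := PowerBasis.ofAdjoinEqTop'_gen _ _
    have hα : pb.gen ≠ 0 := by
      rw [hpb]; exact (z.isUnit.map (Ideal.Quotient.mkₐ k m)).ne_zero
    obtain ⟨htop, hperf⟩ := perfect_field h2 h3 pb hα
    have hred : (gens k (z : R)).map (red m) = ⊤ := by
      rw [← htop, gens, MonoidHom.map_closure, CfsgLib.RootGroups.SimpleExt.gens, Set.image_union,
        ← Set.range_comp, ← Set.range_comp, hpb]
      congr 2 <;> refine congrArg Set.range (funext fun c => ?_)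
      · rw [Function.comp_apply, red_U]; rfl
      · rw [Function.comp_apply, red_L, map_mul]; rfl
    have hy : y ∈ (der n (gens k (z : R))).map (red m) := by
      rw [der_map, hred, der_eq_self_of_perfect hperf]
      exact Subgroup.mem_top y
    obtain ⟨g, hg, rfl⟩ := hy
    exact ⟨g, hg, rfl⟩

theorem eq_top_of_isField (hR : IsField R) {z : Rˣ} {Q : Subgroup (SpecialLinearGroup (Fin 2) R)}
    (hQ : IsGood k z Q) : Q = ⊤ := by
  letI := hR.toField
  refine (Subgroup.eq_top_iff' _).2 fun g => ?_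
  obtain ⟨h, hh, he⟩ := hQ.full ⊥ Ideal.bot_isMaximal (red ⊥ g)
  convert hh using 1
  have hinj : ∀ x y : R, Ideal.Quotient.mk (⊥ : Ideal R) x = Ideal.Quotient.mk ⊥ y → x = y :=
    fun x y e => sub_eq_zero.1 (by simpa using Ideal.Quotient.eq.1 e)
  refine ext ?_ ?_ ?_ ?_ <;> refine hinj _ _ ?_ <;> rw [← red_apply, ← red_apply, he]

end RingSL2

end CfsgLib.Quadratic
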