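import Cfsg.Agent.Lib.Quadratic.Basic
import Cfsg.Agent.Lib.Quadratic.Derived

/-!
Two elements of least rank with `s t s ≠ 0`: their scalar families generate an `SL₂` over a simple
extension of `k`.
-/

set_option autoImplicit false

namespace CfsgLib.Quadratic

open Matrix Polynomial

variable {k : Type*} [Field k] {M : Type*} [AddCommGroup M] [Module k M]

/-! ### A flag for two square-zero maps -/

/-- The ranges of the words of a given length. -/
def flag (s t : M →ₗ[k] M) : ℕ → Submodule k M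
  | 0 => ⊤
  | i + 1 => (flag s t i).map s ⊔ (flag s t i).map t

/-- `x` moves the flag at least `i` steps. -/
def Deep (s t : M →ₗ[k] M) (i : ℕ) (x : M →ₗ[k] M) : Prop :=
  ∀ l, ∀ v ∈ flag s t l, x v ∈ flag s t (l + i)

variable {s t : M →ₗ[k] M}

theorem flag_succ_le (i : ℕ) : flag s t (i + 1) ≤ flag s t i := by
  induction i with
  | zero => exact le_top
  | succ i ih => exact sup_le_sup (Submodule.map_mono ih) (Submodule.map_mono ih)

theorem flag_antitone {i j : ℕ} (h : i ≤ j) : flag s t j ≤ flag s t i :=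
  antitone_nat_of_succ_le flag_succ_le h

theorem deep_mono {i j : ℕ} {x : M →ₗ[k] M} (h : i ≤ j) (hx : Deep s t j x) : Deep s t i x :=
  fun l v hv => flag_antitone (by omega) (hx l v hv)

theorem deep_one : Deep s t 0 (1 : M →ₗ[k] M) := fun l v hv => hv

theorem deep_zero (i : ℕ) : Deep s t i (0 : M →ₗ[k] M) := fun l v _ => zero_mem _

theorem deep_add {i : ℕ} {x y : M →ₗ[k] M} (hx : Deep s t i x) (hy : Deep s t i y) :
    Deep s t i (x + y) := fun l v hv => add_mem (hx l v hv) (hy l v hv)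

theorem deep_smul {i : ℕ} {x : M →ₗ[k] M} (c : k) (hx : Deep s t i x) : Deep s t i (c • x) :=
  fun l v hv => Submodule.smul_mem _ c (hx l v hv)

theorem deep_sub {i : ℕ} {x y : M →ₗ[k] M} (hx : Deep s t i x) (hy : Deep s t i y) :
    Deep s t i (x - y) := fun l v hv => sub_mem (hx l v hv) (hy l v hv)

theorem deep_mul {i j : ℕ} {x y : M →ₗ[k] M} (hx : Deep s t i x) (hy : Deep s t j y) :
    Deep s t (i + j) (x * y) := fun l v hv => by
  have := hx _ _ (hy l v hv)
  rwa [add_assoc, add_comm j i] at this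

theorem deep_left : Deep s t 1 s := fun _ v hv => Submodule.mem_sup_left ⟨v, hv, rfl⟩

theorem deep_right : Deep s t 1 t := fun _ v hv => Submodule.mem_sup_right ⟨v, hv, rfl⟩

variable (s t) in
/-- The elements moving the flag `i` steps. -/
def deepGroup (i : ℕ) : Subgroup (LinearMap.GeneralLinearGroup k M) where
  carrier := {g | Deep s t i (g.1 - 1) ∧ Deep s t i (g⁻¹.1 - 1)}
  one_mem' := by simpa using deep_zero i
  mul_mem' := by
    intro g h hg hh
    refine ⟨?_, ?_⟩
    · rw [Units.val_mul, show g.1 * h.1 - 1 = (g.1 - 1) * (h.1 - 1) + (g.1 - 1) + (h.1 - 1) by noncomm_ring]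
      exact deep_add (deep_add (deep_mono (by omega) (deep_mul hg.1 hh.1)) hg.1) hh.1
    · rw [_root_.mul_inv_rev, Units.val_mul,
        show h⁻¹.1 * g⁻¹.1 - 1 = (h⁻¹.1 - 1) * (g⁻¹.1 - 1) + (h⁻¹.1 - 1) + (g⁻¹.1 - 1) by noncomm_ring]
      exact deep_add (deep_add (deep_mono (by omega) (deep_mul hh.2 hg.2)) hh.2) hg.2
  inv_mem' := fun {g} hg => ⟨hg.2, by rw [inv_inv]; exact hg.1⟩

theorem deepGroup_commutator (i : ℕ) :
    ⁅deepGroup s t i, deepGroup s t i⁆ ≤ deepGroup s t (i + i) := by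
  rw [Subgroup.commutator_le]
  have key : ∀ g ∈ deepGroup s t i, ∀ h ∈ deepGroup s t i,
      Deep s t (i + i) ((g * h * g⁻¹ * h⁻¹).1 - 1) := by
    intro g hg h hh
    have e : (g * h * g⁻¹ * h⁻¹).1 - 1 =
        ((g.1 - 1) * (h.1 - 1) - (h.1 - 1) * (g.1 - 1)) * (g⁻¹.1 * h⁻¹.1) := by
      have e1 : h.1 * g.1 * (g⁻¹.1 * h⁻¹.1) = 1 := by
        rw [← Units.val_mul, ← Units.val_mul, ← Units.val_mul]; simp [mul_assoc]
      rw [show (g.1 - 1) * (h.1 - 1) - (h.1 - 1) * (g.1 - 1) = g.1 * h.1 - h.1 * g.1 by noncomm_ring,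
        sub_mul, e1]
      simp [mul_assoc]
    have h0 : ∀ {a : LinearMap.GeneralLinearGroup k M}, a ∈ deepGroup s t i → Deep s t 0 a⁻¹.1 :=
      fun {a} ha => by
        have := deep_add (deep_one (s := s) (t := t)) (deep_mono (Nat.zero_le i) ha.2)
        simpa using this
    rw [e]
    have := deep_mul (deep_sub (deep_mul hg.1 hh.1) (deep_mul hh.1 hg.1)) (deep_mul (h0 hg) (h0 hh))
    simpa using this
  intro g hg h hh
  refine ⟨key g hg h hh, ?_⟩
  rw [commutatorElement_def, show (g * h * g⁻¹ * h⁻¹)⁻¹ = h * g * h⁻¹ * g⁻¹ by group]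
  exact key h hh g hg

theorem der_deep {S : Subgroup (LinearMap.GeneralLinearGroup k M)} (h : S ≤ deepGroup s t 1) (n : ℕ) :
    der n S ≤ deepGroup s t (2 ^ n) := by
  induction n with
  | zero => simpa [der] using h
  | succ n ih =>
    rw [pow_succ, mul_two]
    exact (Subgroup.commutator_mono ih ih).trans (deepGroup_commutator _)

theorem flag_step (hs : s * s = 0) (ht : t * t = 0) (i : ℕ) :
    flag s t (i + 3) ≤ (flag s t (i + 1)).map (s * t + t * s) := by
  refine sup_le ?_ ?_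
  · rintro _ ⟨x, hx, rfl⟩
    obtain ⟨_, ⟨a, -, rfl⟩, _, ⟨b, hb, rfl⟩, rfl⟩ := Submodule.mem_sup.1 hx
    obtain ⟨_, ⟨c, hc, rfl⟩, _, ⟨d, -, rfl⟩, rfl⟩ := Submodule.mem_sup.1 hb
    refine ⟨s c, Submodule.mem_sup_left ⟨c, hc, rfl⟩, ?_⟩
    have ss : ∀ v, s (s v) = 0 := fun v => LinearMap.congr_fun hs v
    have tt' : ∀ v, t (t v) = 0 := fun v => LinearMap.congr_fun ht v
    simp [map_add, ss, tt']
  · rintro _ ⟨x, hx, rfl⟩
    obtain ⟨_, ⟨a, ha, rfl⟩, _, ⟨b, -, rfl⟩, rfl⟩ := Submodule.mem_sup.1 hx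
    obtain ⟨_, ⟨c, -, rfl⟩, _, ⟨d, hd, rfl⟩, rfl⟩ := Submodule.mem_sup.1 ha
    refine ⟨t d, Submodule.mem_sup_right ⟨d, hd, rfl⟩, ?_⟩
    have ss : ∀ v, s (s v) = 0 := fun v => LinearMap.congr_fun hs v
    have tt' : ∀ v, t (t v) = 0 := fun v => LinearMap.congr_fun ht v
    simp [map_add, ss, tt']

theorem flag_pow (hs : s * s = 0) (ht : t * t = 0) (a : ℕ) :
    flag s t (2 * a + 1) ≤ LinearMap.range ((s * t + t * s) ^ a) := by
  induction a with
  | zero => intro v _; exact ⟨v, rfl⟩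
  | succ a ih =>
    intro v hv
    obtain ⟨w, hw, rfl⟩ := flag_step hs ht (2 * a) hv
    obtain ⟨u, rfl⟩ := ih hw
    exact ⟨u, by rw [pow_succ']; rfl⟩

/-! ### The corner -/

/-- Data cutting out the part of `M` on which `s t + t s` is invertible. -/
structure Corner (s t : M →ₗ[k] M) where
  g : k[X]
  ε : k[X]
  wp : k[X]
  a : ℕ
  hs : s * s = 0
  ht : t * t = 0
  g_ne : g ≠ 0
  idem : aeval (s * t + t * s) ε * aeval (s * t + t * s) ε = aeval (s * t + t * s) ε
  dvd : ∀ P : k[X], aeval (s * t + t * s) P * aeval (s * t + t * s) ε = 0 ↔ g ∣ P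
  nil : (1 - aeval (s * t + t * s) ε) * (s * t + t * s) ^ a = 0
  inv : aeval (s * t + t * s) wp * (s * t + t * s) * aeval (s * t + t * s) ε =
    aeval (s * t + t * s) ε

theorem exists_corner [FiniteDimensional k M] (hs : s * s = 0) (ht : t * t = 0) :
    Nonempty (Corner s t) := by
  set z := s * t + t * s with hz
  have hint : IsIntegral k z := Algebra.IsIntegral.isIntegral z
  set μ := minpoly k z with hμ
  have hμ0 : μ ≠ 0 := minpoly.ne_zero hint
  obtain ⟨g, hg, hng⟩ := exists_eq_pow_rootMultiplicity_mul_and_not_dvd μ hμ0 0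
  rw [C_0, sub_zero] at hg hng
  set a := μ.rootMultiplicity 0
  have hcop : IsCoprime X g := Polynomial.irreducible_X.coprime_iff_not_dvd.2 hng
  obtain ⟨p, q, hpq⟩ := hcop
  obtain ⟨u, v, huv⟩ := (show IsCoprime X g from ⟨p, q, hpq⟩).pow_left (m := a)
  have hzero : ∀ P, aeval z P = 0 ↔ μ ∣ P := fun P => (minpoly.dvd_iff).symm
  have hdvd : ∀ P : k[X], aeval z P * aeval z (u * X ^ a) = 0 ↔ g ∣ P := by
    intro P
    rw [← map_mul, hzero, hg]
    constructor
    · intro h
      have h1 : g ∣ P * (u * X ^ a) := (dvd_mul_left g _).trans h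
      have h2 : P = P * (u * X ^ a) + P * v * g := by linear_combination -P * huv
      rw [h2]
      exact dvd_add h1 (dvd_mul_left g _)
    · rintro ⟨r, rfl⟩
      exact ⟨r * u, by ring⟩
  refine ⟨⟨g, u * X ^ a, p, a, hs, ht, fun e => hμ0 (by rw [hg, e, mul_zero]), ?_, hdvd, ?_, ?_⟩⟩
  · rw [← sub_eq_zero, ← sub_one_mul, show aeval z (u * X ^ a) - 1 = aeval z (u * X ^ a - 1) by simp]
    exact (hdvd _).2 ⟨-v, by linear_combination huv⟩
  · rw [show (1 : M →ₗ[k] M) - aeval z (u * X ^ a) = aeval z (1 - u * X ^ a) by simp,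
      show z ^ a = aeval z (X ^ a : k[X]) by simp, ← map_mul, hzero, hg]
    exact ⟨v, by linear_combination -(X ^ a) * huv⟩
  · rw [← sub_eq_zero, ← sub_one_mul, show aeval z p * z - 1 = aeval z (p * X - 1) by simp]
    exact (hdvd _).2 ⟨-q, by linear_combination hpq⟩

namespace Corner

variable (D : Corner s t)

/-- The operator `s t + t s`. -/
def z (_ : Corner s t) : M →ₗ[k] M := s * t + t * s

/-- The idempotent. -/
noncomputable def e : M →ₗ[k] M := aeval D.z D.ε

/-- The inverse of `z` on the corner. -/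
noncomputable def w : M →ₗ[k] M := aeval D.z D.wp

theorem ee : D.e * D.e = D.e := D.idem

theorem wze : D.w * D.z * D.e = D.e := D.inv

theorem z_s : D.z * s = s * D.z := by
  show (s * t + t * s) * s = s * (s * t + t * s)
  rw [add_mul, mul_add, ← mul_assoc s s t, mul_assoc t s s, D.hs, zero_mul, mul_zero, add_zero,
    zero_add, mul_assoc]

theorem z_t : D.z * t = t * D.z := by
  show (s * t + t * s) * t = t * (s * t + t * s)
  rw [add_mul, mul_add, mul_assoc s t t, ← mul_assoc t t s, D.ht, zero_mul, mul_zero, add_zero,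
    zero_add, mul_assoc]

theorem poly_comm {x : M →ₗ[k] M} (h : D.z * x = x * D.z) (P : k[X]) :
    aeval D.z P * x = x * aeval D.z P := by
  induction P using Polynomial.induction_on' with
  | add p q hp hq => rw [map_add, add_mul, mul_add, hp, hq]
  | monomial n a =>
    rw [Polynomial.aeval_monomial, mul_assoc, (show Commute D.z x from h).pow_left n, ← mul_assoc,
      Algebra.commutes a x, mul_assoc]

theorem e_s : D.e * s = s * D.e := D.poly_comm D.z_s _
theorem e_t : D.e * t = t * D.e := D.poly_comm D.z_t _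
theorem w_s : D.w * s = s * D.w := D.poly_comm D.z_s _
theorem w_t : D.w * t = t * D.w := D.poly_comm D.z_t _
theorem e_w : D.e * D.w = D.w * D.e := by rw [e, w, ← map_mul, mul_comm, map_mul]

/-- The ring acting on the corner. -/
abbrev R : Type _ := AdjoinRoot D.g

noncomputable instance : CommRing D.R := inferInstance

theorem mk_eq_iff {P Q : k[X]} :
    AdjoinRoot.mk D.g P = AdjoinRoot.mk D.g Q ↔ aeval D.z P * D.e = aeval D.z Q * D.e := by
  rw [AdjoinRoot.mk_eq_mk, ← D.dvd, map_sub, sub_mul, sub_eq_zero]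
  rfl

/-- The action of the ring. -/
noncomputable def j (r : D.R) : M →ₗ[k] M :=
  aeval D.z (Function.surjInv AdjoinRoot.mk_surjective r) * D.e

theorem j_mk (P : k[X]) : D.j (AdjoinRoot.mk D.g P) = aeval D.z P * D.e :=
  D.mk_eq_iff.1 (Function.surjInv_eq AdjoinRoot.mk_surjective _)

theorem j_injective : Function.Injective D.j := by
  intro a b h
  obtain ⟨P, rfl⟩ := AdjoinRoot.mk_surjective a
  obtain ⟨Q, rfl⟩ := AdjoinRoot.mk_surjective b
  rw [D.j_mk, D.j_mk] at h
  exact D.mk_eq_iff.2 h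

theorem j_zero : D.j 0 = 0 := by rw [← map_zero (AdjoinRoot.mk D.g), D.j_mk]; simp

theorem j_one : D.j 1 = D.e := by rw [← map_one (AdjoinRoot.mk D.g), D.j_mk]; simp

theorem j_add (a b : D.R) : D.j (a + b) = D.j a + D.j b := by
  obtain ⟨P, rfl⟩ := AdjoinRoot.mk_surjective a
  obtain ⟨Q, rfl⟩ := AdjoinRoot.mk_surjective b
  rw [← map_add, D.j_mk, D.j_mk, D.j_mk, map_add, add_mul]

theorem j_sub (a b : D.R) : D.j (a - b) = D.j a - D.j b := by
  rw [eq_sub_iff_add_eq, ← D.j_add, sub_add_cancel]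

theorem j_mul (a b : D.R) : D.j (a * b) = D.j a * D.j b := by
  obtain ⟨P, rfl⟩ := AdjoinRoot.mk_surjective a
  obtain ⟨Q, rfl⟩ := AdjoinRoot.mk_surjective b
  rw [← map_mul, D.j_mk, D.j_mk, D.j_mk]
  conv_rhs => rw [mul_assoc, ← mul_assoc D.e, show D.e * aeval D.z Q = aeval D.z Q * D.e by
    rw [e, ← map_mul, mul_comm, map_mul], mul_assoc, D.ee, ← mul_assoc, ← map_mul]

theorem j_comm {x : M →ₗ[k] M} (h : D.z * x = x * D.z) (r : D.R) : D.j r * x = x * D.j r := by
  obtain ⟨P, rfl⟩ := AdjoinRoot.mk_surjective r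
  rw [D.j_mk, mul_assoc, show D.e * x = x * D.e from D.poly_comm h _, ← mul_assoc, D.poly_comm h,
    mul_assoc]

theorem j_e (r : D.R) : D.j r * D.e = D.j r := by rw [← D.j_one, ← D.j_mul, mul_one]

theorem j_algebraMap (c : k) : D.j (algebraMap k D.R c) = c • D.e := by
  rw [AdjoinRoot.algebraMap_eq, ← AdjoinRoot.mk_C, D.j_mk, aeval_C, ← Algebra.smul_def]

theorem j_root : D.j (AdjoinRoot.root D.g) = D.z * D.e := by
  rw [← AdjoinRoot.mk_X, D.j_mk, aeval_X]

/-- The root as a unit. -/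
noncomputable def rootUnit : D.Rˣ :=
  ⟨AdjoinRoot.root D.g, AdjoinRoot.mk D.g D.wp, by
      apply D.j_injective
      rw [← AdjoinRoot.mk_X, ← map_mul, D.j_mk, map_mul, aeval_X, D.j_one,
        show D.z * aeval D.z D.wp = aeval D.z D.wp * D.z from (D.poly_comm rfl _).symm]
      exact D.inv,
    by
      apply D.j_injective
      rw [← AdjoinRoot.mk_X, ← map_mul, D.j_mk, map_mul, aeval_X, D.j_one]
      exact D.inv⟩

theorem rootUnit_val : (D.rootUnit : D.R) = AdjoinRoot.root D.g := rfl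

/-- The four matrix units. -/
noncomputable def P00 : M →ₗ[k] M := D.w * (s * t) * D.e
/-- The upper matrix unit. -/
noncomputable def P01 : M →ₗ[k] M := s * D.e
/-- The lower matrix unit. -/
noncomputable def P10 : M →ₗ[k] M := D.w * t * D.e
/-- The last matrix unit. -/
noncomputable def P11 : M →ₗ[k] M := D.w * (t * s) * D.e

theorem unit_sum : D.P00 + D.P11 = D.e := by
  rw [P00, P11, ← add_mul, ← mul_add]; exact D.inv

theorem sts : s * t * s = D.z * s := by
  show _ = (s * t + t * s) * s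
  rw [add_mul, mul_assoc t s s, D.hs, mul_zero, add_zero]

theorem tst : t * s * t = D.z * t := by
  show _ = (s * t + t * s) * t
  rw [add_mul, mul_assoc s t t, D.ht, mul_zero, zero_add]

theorem mul_e_e (x y : M →ₗ[k] M) (hy : D.e * y = y * D.e) :
    x * D.e * (y * D.e) = x * y * D.e := by
  rw [mul_assoc, ← mul_assoc D.e, hy, mul_assoc y, D.ee, mul_assoc]

theorem e_wst : D.e * (D.w * (s * t)) = D.w * (s * t) * D.e := by
  rw [← mul_assoc, D.e_w, mul_assoc, ← mul_assoc D.e, D.e_s, mul_assoc s, D.e_t]; noncomm_ring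

theorem e_wts : D.e * (D.w * (t * s)) = D.w * (t * s) * D.e := by
  rw [← mul_assoc, D.e_w, mul_assoc, ← mul_assoc D.e, D.e_t, mul_assoc t, D.e_s]; noncomm_ring

theorem e_wt : D.e * (D.w * t) = D.w * t * D.e := by
  rw [← mul_assoc, D.e_w, mul_assoc, D.e_t, mul_assoc]

theorem table :
    D.P00 * D.P00 = D.P00 ∧ D.P00 * D.P01 = D.P01 ∧ D.P00 * D.P10 = 0 ∧ D.P00 * D.P11 = 0 ∧
    D.P01 * D.P00 = 0 ∧ D.P01 * D.P01 = 0 ∧ D.P01 * D.P10 = D.P00 ∧ D.P01 * D.P11 = D.P01 ∧
    D.P10 * D.P00 = D.P10 ∧ D.P10 * D.P01 = D.P11 ∧ D.P10 * D.P10 = 0 ∧ D.P10 * D.P11 = 0 ∧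
    D.P11 * D.P00 = 0 ∧ D.P11 * D.P01 = 0 ∧ D.P11 * D.P10 = D.P10 ∧ D.P11 * D.P11 = D.P11 := by
  have hss := D.hs
  have htt := D.ht
  have ws : ∀ x, D.w * s * x = s * D.w * x := fun x => by rw [D.w_s]
  have wze' : ∀ x, D.w * (D.z * x) * D.e = x * D.e → True := fun _ _ => trivial
  have inv_s : D.w * (s * t * s) * D.e = s * D.e := by
    rw [D.sts, ← mul_assoc, mul_assoc _ s D.e, ← D.e_s, ← mul_assoc, D.wze, D.e_s]
  have inv_t : D.w * (t * s * t) * D.e = t * D.e := by
    rw [D.tst, ← mul_assoc, mul_assoc _ t D.e, ← D.e_t, ← mul_assoc, D.wze, D.e_t]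
  have e1 := D.e_wst; have e2 := D.e_wts; have e3 := D.e_wt; have e4 := D.e_s
  simp only [P00, P01, P10, P11, D.mul_e_e _ _ e1, D.mul_e_e _ _ e2, D.mul_e_e _ _ e3, D.mul_e_e _ _ e4]
  refine ⟨?_, ?_, ?_, ?_, ?_, ?_, ?_, ?_, ?_, ?_, ?_, ?_, ?_, ?_, ?_, ?_⟩
  · rw [show D.w * (s * t) * (D.w * (s * t)) * D.e = D.w * (s * (t * D.w)) * (s * t) * D.e by noncomm_ring,
      ← D.w_t, show D.w * (s * (D.w * t)) * (s * t) * D.e = D.w * (s * D.w) * (t * s * t) * D.e by noncomm_ring,
      ← D.w_s, show D.w * (D.w * s) * (t * s * t) * D.e = D.w * (D.w * (s * t * s)) * (t * D.e) by noncomm_ring,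
      ← D.e_t, show D.w * (D.w * (s * t * s)) * (D.e * t) = D.w * (D.w * (s * t * s) * D.e) * t by noncomm_ring,
      inv_s, mul_assoc, mul_assoc, D.e_t]; noncomm_ring
  · rw [show D.w * (s * t) * s = D.w * (s * t * s) by noncomm_ring, inv_s]
  · rw [show D.w * (s * t) * (D.w * t) = D.w * (s * (t * D.w) * t) by noncomm_ring, ← D.w_t,
      show D.w * (s * (D.w * t) * t) = D.w * (s * D.w * (t * t)) by noncomm_ring, htt]; simp
  · rw [show D.w * (s * t) * (D.w * (t * s)) = D.w * (s * (t * D.w) * t * s) by noncomm_ring, ← D.w_t,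
      show D.w * (s * (D.w * t) * t * s) = D.w * (s * D.w * (t * t) * s) by noncomm_ring, htt]; simp
  · rw [show s * (D.w * (s * t)) = (s * D.w) * s * t by noncomm_ring, ← D.w_s,
      show D.w * s * s * t = D.w * (s * s) * t by noncomm_ring, hss]; simp
  · rw [hss, zero_mul]
  · rw [← mul_assoc, ← D.w_s, mul_assoc D.w s t]
  · rw [show s * (D.w * (t * s)) = (s * D.w) * t * s by noncomm_ring, ← D.w_s,
      show D.w * s * t * s = D.w * (s * t * s) by noncomm_ring, inv_s]
  · rw [show D.w * t * (D.w * (s * t)) * D.e = D.w * ((t * D.w) * s * t) * D.e by noncomm_ring, ← D.w_t,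
      show D.w * (D.w * t * s * t) * D.e = D.w * (D.w * (t * s * t) * D.e) by noncomm_ring, inv_t]
    noncomm_ring
  · rw [mul_assoc D.w t s]
  · rw [show D.w * t * (D.w * t) = D.w * (t * D.w) * t by noncomm_ring, ← D.w_t,
      show D.w * (D.w * t) * t = D.w * D.w * (t * t) by noncomm_ring, htt]; simp
  · rw [show D.w * t * (D.w * (t * s)) = D.w * (t * D.w) * t * s by noncomm_ring, ← D.w_t,
      show D.w * (D.w * t) * t * s = D.w * D.w * (t * t) * s by noncomm_ring, htt]; simp
  · rw [show D.w * (t * s) * (D.w * (s * t)) = D.w * (t * (s * D.w) * s * t) by noncomm_ring, ← D.w_s,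
      show D.w * (t * (D.w * s) * s * t) = D.w * (t * D.w * (s * s) * t) by noncomm_ring, hss]; simp
  · rw [show D.w * (t * s) * s = D.w * t * (s * s) by noncomm_ring, hss]; simp
  · rw [show D.w * (t * s) * (D.w * t) * D.e = D.w * (t * (s * D.w) * t) * D.e by noncomm_ring, ← D.w_s,
      show D.w * (t * (D.w * s) * t) * D.e = D.w * ((t * D.w) * s * t) * D.e by noncomm_ring, ← D.w_t,
      show D.w * (D.w * t * s * t) * D.e = D.w * (D.w * (t * s * t) * D.e) by noncomm_ring, inv_t]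
    noncomm_ring
  · rw [show D.w * (t * s) * (D.w * (t * s)) * D.e = D.w * (t * (s * D.w)) * (t * s) * D.e by noncomm_ring,
      ← D.w_s, show D.w * (t * (D.w * s)) * (t * s) * D.e = D.w * (t * D.w) * (s * t * s) * D.e by noncomm_ring,
      ← D.w_t, show D.w * (D.w * t) * (s * t * s) * D.e = D.w * (D.w * (t * s * t)) * (s * D.e) by noncomm_ring,
      ← D.e_s, show D.w * (D.w * (t * s * t)) * (D.e * s) = D.w * (D.w * (t * s * t) * D.e) * s by noncomm_ring,
      inv_t, mul_assoc, mul_assoc, D.e_s]; noncomm_ring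

theorem z_units : D.z * D.P00 = D.P00 * D.z ∧ D.z * D.P01 = D.P01 * D.z ∧
    D.z * D.P10 = D.P10 * D.z ∧ D.z * D.P11 = D.P11 * D.z := by
  have cw : Commute D.z D.w := (D.poly_comm rfl _).symm
  have ce : Commute D.z D.e := (D.poly_comm rfl _).symm
  exact ⟨(cw.mul_right (Commute.mul_right D.z_s D.z_t)).mul_right ce, Commute.mul_right D.z_s ce,
    (cw.mul_right D.z_t).mul_right ce, (cw.mul_right (Commute.mul_right D.z_t D.z_s)).mul_right ce⟩

/-- The action of a matrix on the corner. -/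
noncomputable def B (m : Matrix (Fin 2) (Fin 2) D.R) : M →ₗ[k] M :=
  D.j (m 0 0) * D.P00 + D.j (m 0 1) * D.P01 + D.j (m 1 0) * D.P10 + D.j (m 1 1) * D.P11

theorem B_one : D.B 1 = D.e := by
  simp only [B, Matrix.one_apply_eq, Matrix.one_apply_ne (show (0 : Fin 2) ≠ 1 by decide),
    Matrix.one_apply_ne (show (1 : Fin 2) ≠ 0 by decide), j_zero, j_one, zero_mul, add_zero]
  rw [← mul_add, D.unit_sum, D.ee]

theorem B_mul (m n : Matrix (Fin 2) (Fin 2) D.R) : D.B (m * n) = D.B m * D.B n := by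
  obtain ⟨h00, h01, h02, h03, h10, h11, h12, h13, h20, h21, h22, h23, h30, h31, h32, h33⟩ := D.table
  obtain ⟨z0, z1, z2, z3⟩ := D.z_units
  have prod : ∀ (a b : D.R) (P Q : M →ₗ[k] M), D.z * P = P * D.z →
      D.j a * P * (D.j b * Q) = D.j (a * b) * (P * Q) := fun a b P Q hP => by
    rw [D.j_mul, mul_assoc, ← mul_assoc P, ← D.j_comm hP b, mul_assoc (D.j b), ← mul_assoc]
  simp only [B, add_mul, mul_add, prod _ _ _ _ z0, prod _ _ _ _ z1, prod _ _ _ _ z2, prod _ _ _ _ z3,
    h00, h01, h02, h03, h10, h11, h12, h13, h20, h21, h22, h23, h30, h31, h32, h33, mul_zero, add_zero,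
    zero_add, Matrix.mul_apply, Fin.sum_univ_two, j_add]
  abel

theorem B_e (m : Matrix (Fin 2) (Fin 2) D.R) : D.B m * D.e = D.B m ∧ D.e * D.B m = D.B m := by
  refine ⟨?_, ?_⟩ <;> rw [← D.B_one, ← D.B_mul] <;> simp

theorem B_U (x : D.R) : D.B (RingSL2.U x).1 = D.e + D.j x * D.P01 := by
  simp only [B, RingSL2.U_00, RingSL2.U_01, RingSL2.U_10, RingSL2.U_11, j_zero, j_one, zero_mul, add_zero]
  have h := D.unit_sum
  rw [add_right_comm, ← mul_add, h, D.ee]

theorem B_L (x : D.R) : D.B (RingSL2.L x).1 = D.e + D.j x * D.P10 := by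
  simp only [B, RingSL2.L_00, RingSL2.L_01, RingSL2.L_10, RingSL2.L_11, j_zero, j_one, zero_mul, add_zero]
  have h := D.unit_sum
  rw [add_right_comm, ← mul_add, h, D.ee]

theorem j_units_injective {a b : D.R} :
    D.j a * D.P00 + D.j a * D.P11 = D.j b * D.P00 + D.j b * D.P11 → a = b := by
  rw [← mul_add, ← mul_add, D.unit_sum, D.j_e, D.j_e]
  exact fun h => D.j_injective h

theorem B_injective : Function.Injective D.B := by
  intro m n h
  obtain ⟨h00, h01, h02, h03, h10, h11, h12, h13, h20, h21, h22, h23, h30, h31, h32, h33⟩ := D.table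
  obtain ⟨z0, z1, z2, z3⟩ := D.z_units
  have prod : ∀ (b : D.R) (P Q : M →ₗ[k] M), D.z * P = P * D.z →
      P * (D.j b * Q) = D.j b * (P * Q) := fun b P Q hP => by
    rw [← mul_assoc, ← D.j_comm hP b, mul_assoc]
  have key : ∀ P Q : M →ₗ[k] M, P * D.B m * Q = P * D.B n * Q := fun P Q => by rw [h]
  have entry : ∀ (a b : D.R),
      (D.j a * D.P00 = D.j b * D.P00) → (D.j a * D.P11 = D.j b * D.P11) → a = b :=
    fun a b e0 e1 => D.j_units_injective (by rw [e0, e1])
  ext i j
  fin_cases i <;> fin_cases j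
  · refine entry _ _ ?_ ?_
    · simpa [B, mul_add, add_mul, prod, z0, z1, z2, z3, mul_assoc, h00, h01, h02, h03, h10, h11, h12,
        h13, h20, h21, h22, h23, h30, h31, h32, h33] using key D.P00 D.P00
    · simpa [B, mul_add, add_mul, prod, z0, z1, z2, z3, mul_assoc, h00, h01, h02, h03, h10, h11, h12,
        h13, h20, h21, h22, h23, h30, h31, h32, h33] using key D.P10 D.P01
  · refine entry _ _ ?_ ?_
    · simpa [B, mul_add, add_mul, prod, z0, z1, z2, z3, mul_assoc, h00, h01, h02, h03, h10, h11, h12,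
        h13, h20, h21, h22, h23, h30, h31, h32, h33] using key D.P00 D.P10
    · simpa [B, mul_add, add_mul, prod, z0, z1, z2, z3, mul_assoc, h00, h01, h02, h03, h10, h11, h12,
        h13, h20, h21, h22, h23, h30, h31, h32, h33] using key D.P10 D.P11
  · refine entry _ _ ?_ ?_
    · simpa [B, mul_add, add_mul, prod, z0, z1, z2, z3, mul_assoc, h00, h01, h02, h03, h10, h11, h12,
        h13, h20, h21, h22, h23, h30, h31, h32, h33] using key D.P01 D.P00
    · simpa [B, mul_add, add_mul, prod, z0, z1, z2, z3, mul_assoc, h00, h01, h02, h03, h10, h11, h12,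
        h13, h20, h21, h22, h23, h30, h31, h32, h33] using key D.P11 D.P01
  · refine entry _ _ ?_ ?_
    · simpa [B, mul_add, add_mul, prod, z0, z1, z2, z3, mul_assoc, h00, h01, h02, h03, h10, h11, h12,
        h13, h20, h21, h22, h23, h30, h31, h32, h33] using key D.P01 D.P10
    · simpa [B, mul_add, add_mul, prod, z0, z1, z2, z3, mul_assoc, h00, h01, h02, h03, h10, h11, h12,
        h13, h20, h21, h22, h23, h30, h31, h32, h33] using key D.P11 D.P11

/-- `SL₂` of the ring acting on `M`, trivially outside the corner. -/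
noncomputable def rep : SpecialLinearGroup (Fin 2) D.R →* LinearMap.GeneralLinearGroup k M :=
  MonoidHom.toHomUnits
    { toFun := fun γ => 1 - D.e + D.B γ.1
      map_one' := by
        show 1 - D.e + D.B 1 = 1
        rw [D.B_one, sub_add_cancel]
      map_mul' := fun a b => by
        show 1 - D.e + D.B (a.1 * b.1) = (1 - D.e + D.B a.1) * (1 - D.e + D.B b.1)
        simp only [add_mul, sub_mul, mul_add, mul_sub, one_mul, mul_one, D.ee, D.B_mul, (D.B_e a.1).1,
          (D.B_e b.1).2]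
        abel }

theorem rep_val (γ : SpecialLinearGroup (Fin 2) D.R) : (D.rep γ).1 = 1 - D.e + D.B γ.1 := rfl

theorem rep_injective : Function.Injective D.rep := fun a b h =>
  Subtype.ext (D.B_injective (add_left_cancel (a := 1 - D.e)
    (by rw [← rep_val, ← rep_val, h])))

theorem rep_U (x : D.R) : D.rep (RingSL2.U x) = tt (D.j x * s) := by
  have hx : D.j x * D.P01 = D.j x * s := by rw [P01, ← D.e_s, ← mul_assoc, D.j_e]
  refine Units.ext ?_
  rw [rep_val, B_U, hx, tt_val]
  · abel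
  · rw [show D.j x * s * (D.j x * s) = D.j x * (s * D.j x) * s by noncomm_ring, ← D.j_comm D.z_s,
      show D.j x * (D.j x * s) * s = D.j x * D.j x * (s * s) by noncomm_ring, D.hs, mul_zero]

theorem rep_L (c : k) : D.rep (RingSL2.L (algebraMap k D.R c * AdjoinRoot.root D.g)) =
    tt (c • (D.e * t)) := by
  have hx : D.j (algebraMap k D.R c * AdjoinRoot.root D.g) * D.P10 = c • (D.e * t) := by
    rw [D.j_mul, D.j_algebraMap, D.j_root, P10, smul_mul_assoc, smul_mul_assoc]
    congr 1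
    rw [show D.e * (D.z * D.e) * (D.w * t * D.e) = D.e * D.z * (D.e * D.w) * t * D.e by noncomm_ring,
      D.e_w, show D.e * D.z * (D.w * D.e) * t * D.e = D.e * (D.z * D.w * D.e) * t * D.e by noncomm_ring,
      show D.z * D.w = D.w * D.z from (D.poly_comm rfl _).symm, D.wze, D.ee, mul_assoc, ← D.e_t,
      ← mul_assoc, D.ee]
  refine Units.ext ?_
  rw [rep_val, B_L, hx, tt_val]
  · abel
  · refine smul_sq ?_ c
    rw [show D.e * t * (D.e * t) = D.e * (t * D.e) * t by noncomm_ring, ← D.e_t,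
      show D.e * (D.e * t) * t = D.e * D.e * (t * t) by noncomm_ring, D.ht, mul_zero]

end Corner

/-! ### The pair -/

variable [FiniteDimensional k M] {G : Subgroup (LinearMap.GeneralLinearGroup k M)}

/-- The group generated by the two scalar families. -/
def pairGroup (s t : M →ₗ[k] M) : Subgroup (LinearMap.GeneralLinearGroup k M) :=
  Subgroup.closure ((Set.range fun c : k => tt (c • s)) ∪ (Set.range fun c : k => tt (c • t)))

omit [FiniteDimensional k M] in
theorem pairGroup_le (hs : Fam G s) (ht : Fam G t) : pairGroup s t ≤ G := by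
  rw [pairGroup, Subgroup.closure_le]
  rintro _ (⟨c, rfl⟩ | ⟨c, rfl⟩)
  exacts [hs.2 c, ht.2 c]

/-- The pairs `(γ, h)` acting alike on the corner. -/
noncomputable def Corner.graph (D : Corner s t) :
    Subgroup (SpecialLinearGroup (Fin 2) D.R × LinearMap.GeneralLinearGroup k M) :=
  Subgroup.closure ((Set.range fun c : k => (RingSL2.U (algebraMap k D.R c), tt (c • s))) ∪
    (Set.range fun c : k => (RingSL2.L (algebraMap k D.R c * AdjoinRoot.root D.g), tt (c • t))))

theorem Corner.graph_fst (D : Corner s t) : D.graph.map (MonoidHom.fst _ _) =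
    RingSL2.gens k (D.rootUnit : D.R) := by
  rw [Corner.graph, MonoidHom.map_closure, RingSL2.gens, Set.image_union, ← Set.range_comp,
    ← Set.range_comp]
  rfl

theorem Corner.graph_snd (D : Corner s t) : D.graph.map (MonoidHom.snd _ _) = pairGroup s t := by
  rw [Corner.graph, MonoidHom.map_closure, pairGroup, Set.image_union, ← Set.range_comp,
    ← Set.range_comp]
  rfl

theorem Corner.graph_spec (D : Corner s t) :
    ∀ p ∈ D.graph, D.e * p.2.1 = D.B p.1.1 ∧ p.2.1 * D.e = D.e * p.2.1 := by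
  have hU : ∀ c : k, D.e * (tt (c • s)).1 = D.B (RingSL2.U (algebraMap k D.R c)).1 ∧
      (tt (c • s)).1 * D.e = D.e * (tt (c • s)).1 := by
    intro c
    rw [tt_val (smul_sq D.hs c), D.B_U, mul_add, mul_one]
    refine ⟨?_, ?_⟩
    · rw [D.j_algebraMap, Corner.P01, smul_mul_assoc, mul_smul_comm, ← D.e_s, ← mul_assoc, D.ee]
    · rw [add_mul, one_mul, smul_mul_assoc, mul_smul_comm, D.e_s]
  have hL : ∀ c : k,
      D.e * (tt (c • t)).1 = D.B (RingSL2.L (algebraMap k D.R c * AdjoinRoot.root D.g)).1 ∧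
      (tt (c • t)).1 * D.e = D.e * (tt (c • t)).1 := by
    intro c
    have h := congrArg (fun g : LinearMap.GeneralLinearGroup k M => D.e * g.1) (D.rep_L c)
    simp only [Corner.rep_val] at h
    refine ⟨?_, ?_⟩
    · rw [mul_add, mul_sub, mul_one, D.ee, sub_self, zero_add, (D.B_e _).2, tt_val (smul_sq ?_ c)] at h
      · rw [h, tt_val (smul_sq D.ht c), mul_add, mul_add, mul_smul_comm, mul_smul_comm, ← mul_assoc D.e D.e,
          D.ee]
      · rw [show D.e * t * (D.e * t) = D.e * (t * D.e) * t by noncomm_ring, ← D.e_t,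
          show D.e * (D.e * t) * t = D.e * D.e * (t * t) by noncomm_ring, D.ht, mul_zero]
    · rw [tt_val (smul_sq D.ht c), mul_add, mul_one, add_mul, one_mul, smul_mul_assoc, mul_smul_comm,
        D.e_t]
  intro p hp
  induction hp using Subgroup.closure_induction with
  | mem p hp =>
    rcases hp with ⟨c, rfl⟩ | ⟨c, rfl⟩
    exacts [hU c, hL c]
  | one => exact ⟨by rw [Prod.snd_one, Prod.fst_one, Units.val_one, mul_one]; exact D.B_one.symm,
      by rw [Prod.snd_one, Units.val_one, one_mul, mul_one]⟩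
  | mul p q _ _ hp hq =>
    have c1 : Commute p.2.1 D.e := hp.2
    have c2 : Commute q.2.1 D.e := hq.2
    refine ⟨?_, (c1.mul_left c2)⟩
    show D.e * (p.2.1 * q.2.1) = D.B (p.1.1 * q.1.1)
    rw [D.B_mul, ← hp.1, ← hq.1, ← mul_assoc, mul_assoc D.e p.2.1 (D.e * q.2.1), ← mul_assoc p.2.1,
      c1.eq, ← mul_assoc, ← mul_assoc, D.ee]
  | inv p _ hp =>
    have c1 : Commute p.2.1 D.e := hp.2
    have c2 : Commute (p.2⁻¹ : LinearMap.GeneralLinearGroup k M).1 D.e := c1.units_inv_left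
    refine ⟨?_, c2⟩
    show D.e * (p.2⁻¹ : LinearMap.GeneralLinearGroup k M).1 = D.B (p.1⁻¹ : SpecialLinearGroup (Fin 2) D.R).1
    have h1 : D.B (p.1⁻¹ : SpecialLinearGroup (Fin 2) D.R).1 * D.B p.1.1 = D.e := by
      rw [← D.B_mul, show (p.1⁻¹).1 * p.1.1 = (p.1⁻¹ * p.1).1 from rfl, inv_mul_cancel]
      exact D.B_one
    rw [← hp.1, ← mul_assoc, (D.B_e _).1] at h1
    rw [← (D.B_e (p.1⁻¹).1).1]
    conv_lhs => rw [← h1]
    rw [mul_assoc, Units.mul_inv, mul_one, (D.B_e _).1]

theorem Corner.exists_deep_lift (D : Corner s t) :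
    ∃ n, ∀ γ ∈ der n (RingSL2.gens k (D.rootUnit : D.R)),
      D.rep γ ∈ pairGroup s t := by
  refine ⟨2 * D.a + 1, fun γ hγ => ?_⟩
  rw [← D.graph_fst, ← der_map] at hγ
  obtain ⟨p, hp, rfl⟩ := hγ
  have hsnd : p.2 ∈ pairGroup s t := by
    rw [← D.graph_snd]; exact ⟨p, der_le _ _ hp, rfl⟩
  have hW : pairGroup s t ≤ deepGroup s t 1 := by
    have hgen : ∀ (c : k) (x : M →ₗ[k] M), x * x = 0 → Deep s t 1 x → tt (c • x) ∈ deepGroup s t 1 := by
      intro c x hx hd
      refine ⟨?_, ?_⟩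
      · rw [tt_val (smul_sq hx c), add_sub_cancel_left]; exact deep_smul c hd
      · rw [tt_inv_val (smul_sq hx c), show (1 : M →ₗ[k] M) - c • x - 1 = (-c) • x by rw [neg_smul]; abel]
        exact deep_smul _ hd
    rw [pairGroup, Subgroup.closure_le]
    rintro _ (⟨c, rfl⟩ | ⟨c, rfl⟩)
    exacts [hgen c s D.hs deep_left, hgen c t D.ht deep_right]
  have hdeep : Deep s t (2 ^ (2 * D.a + 1)) (p.2.1 - 1) := by
    have h1 : p.2 ∈ der (2 * D.a + 1) (pairGroup s t) := by
      rw [← D.graph_snd, ← der_map]; exact ⟨p, hp, rfl⟩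
    exact (der_deep hW _ h1).1
  have hzero : (1 - D.e) * (p.2.1 - 1) = 0 := by
    refine LinearMap.ext fun v => ?_
    have hv := hdeep 0 v Submodule.mem_top
    rw [zero_add] at hv
    obtain ⟨u, hu⟩ := flag_pow D.hs D.ht D.a (flag_antitone (Nat.lt_two_pow_self).le hv)
    show (1 - D.e) ((p.2.1 - 1) v) = 0
    rw [← hu]
    exact LinearMap.congr_fun D.nil u
  have : D.rep p.1 = p.2 := by
    refine Units.ext ?_
    rw [Corner.rep_val, ← ((D.graph_spec p (der_le _ _ hp)).1)]
    rw [sub_mul, one_mul, mul_sub, mul_one, sub_eq_zero] at hzero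
    linear_combination (norm := abel) hzero.symm
  show D.rep p.1 ∈ _
  rw [this]; exact hsnd

theorem Corner.rep_U_fam (D : Corner s t) {n : ℕ}
    (hn : ∀ γ ∈ der n (RingSL2.gens k (D.rootUnit : D.R)), D.rep γ ∈ pairGroup s t)
    (hQ : RingSL2.IsGood k D.rootUnit (der n (RingSL2.gens k (D.rootUnit : D.R))))
    (hs : Fam G s) (ht : Fam G t) {x : D.R}
    (hx : RingSL2.U x ∈ der n (RingSL2.gens k (D.rootUnit : D.R))) : Fam G (D.j x * s) := by
  refine ⟨?_, fun c => ?_⟩
  · rw [show D.j x * s * (D.j x * s) = D.j x * (s * D.j x) * s by noncomm_ring, ← D.j_comm D.z_s,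
      show D.j x * (D.j x * s) * s = D.j x * D.j x * (s * s) by noncomm_ring, D.hs, mul_zero]
  rcases eq_or_ne c 0 with rfl | hc
  · rw [zero_smul, tt_zero]; exact one_mem _
  refine pairGroup_le hs ht ?_
  have h := hn _ (hQ.scale (Units.mk0 c hc) _ hx)
  have e : RingSL2.scaleFun (Units.mk0 c hc) (RingSL2.U x) = RingSL2.U (algebraMap k D.R c * x) := by
    refine RingSL2.ext ?_ ?_ ?_ ?_ <;> simp [RingSL2.scaleFun]
  rw [e, D.rep_U, D.j_mul, D.j_algebraMap, smul_mul_assoc, smul_mul_assoc] at h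
  convert h using 3
  rw [← D.j_one, ← D.j_mul, one_mul]

/-- What two least elements with `s t s ≠ 0` give. -/
structure Opp (G : Subgroup (LinearMap.GeneralLinearGroup k M)) (s t : M →ₗ[k] M) where
  D : Corner s t
  field : IsField D.R
  e_s : D.e * s = s
  e_t : D.e * t = t
  range_rep : D.rep.range = pairGroup s t

theorem exists_opp (h2 : (2 : k) ≠ 0) (h3 : Nat.card k ≠ 3) (hs : IsMin G s) (ht : IsMin G t)
    (hst : s * t * s ≠ 0) : Nonempty (Opp G s t) := by
  obtain ⟨D⟩ := exists_corner hs.1.1 ht.1.1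
  have : FiniteDimensional k D.R := (AdjoinRoot.powerBasis D.g_ne).finite
  have he : D.e ≠ 0 := by
    intro he
    apply hst
    refine sts_eq_zero h2 D.a hs ht ?_
    have hnil := D.nil
    change (1 - D.e) * D.z ^ D.a = 0 at hnil
    rw [he, sub_zero, one_mul] at hnil
    have hcomm : ∀ i : ℕ, (s * t) ^ i * s = D.z ^ i * s := by
      intro i
      induction i with
      | zero => simp
      | succ i ih =>
        have hzi : D.z ^ i * (s * t) = (s * t) * D.z ^ i :=
          ((Commute.mul_right D.z_s D.z_t).pow_left i).eq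
        rw [pow_succ', pow_succ', mul_assoc, ih, ← mul_assoc, ← hzi, mul_assoc, D.sts, ← mul_assoc]
        rw [(Commute.self_pow D.z i).eq]
    rw [hcomm, hnil, zero_mul]
  have hnt : Nontrivial D.R := by
    refine ⟨⟨0, 1, fun e01 => he ?_⟩⟩
    rw [← D.j_one, ← e01, D.j_zero]
  have hgen : Algebra.adjoin k {(D.rootUnit : D.R)} = ⊤ := AdjoinRoot.adjoinRoot_eq_top
  obtain ⟨n, hn⟩ := D.exists_deep_lift
  have hQ := RingSL2.isGood_der h2 h3 hgen n
  have hjs : ∀ x : D.R, D.j x * D.P01 = D.j x * s := fun x => by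
    rw [Corner.P01, ← D.e_s, ← mul_assoc, D.j_e]
  have hjs0 : ∀ x : D.R, D.j x * s = 0 → x = 0 := by
    intro x hx
    apply D.j_units_injective (b := 0)
    obtain ⟨-, -, -, -, -, -, h12, -, -, h21, -⟩ := D.table
    obtain ⟨-, -, z2, -⟩ := D.z_units
    have a0 : D.j x * D.P00 = 0 := by rw [← h12, ← mul_assoc, hjs, hx, zero_mul]
    have a1 : D.j x * D.P11 = 0 := by
      rw [← h21, ← mul_assoc, D.j_comm z2, mul_assoc, hjs, hx, mul_zero]
    rw [a0, a1, D.j_zero, zero_mul, zero_mul]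
  have hfield : IsField D.R := by
    by_contra hR
    obtain ⟨x, hx0, hxu, hx⟩ := RingSL2.exists_small hQ h2 h3 hgen hR
    have hfam := D.rep_U_fam hn hQ hs.1 ht.1 hx
    have hne : D.j x * s ≠ 0 := fun e => hx0 (hjs0 x e)
    have hle := hs.2.2 _ hfam hne
    have : IsArtinianRing D.R := isArtinian_of_tower k inferInstance
    obtain ⟨y, hy0, hxy⟩ : ∃ y, y ≠ 0 ∧ x * y = 0 := by
      by_contra hcon
      push Not at hcon
      apply hxu
      have hinj : Function.Injective (LinearMap.mulLeft k x) := by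
        rw [← LinearMap.ker_eq_bot, LinearMap.ker_eq_bot']
        intro y hy
        by_contra hy0
        exact hcon y hy0 hy
      obtain ⟨b, hb⟩ := LinearMap.injective_iff_surjective.1 hinj 1
      exact IsUnit.of_mul_eq_one (a := x) b hb
    have hlt : rk (D.j x * s) < rk s := by
      have h1 : LinearMap.range (D.j x * s) = (LinearMap.range s).map (D.j x) := LinearMap.range_comp _ _
      rw [rk, rk, h1]
      obtain ⟨v, hv⟩ : ∃ v, (D.j y * s) v ≠ 0 := by
        by_contra hcon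
        push Not at hcon
        exact hy0 (hjs0 y (LinearMap.ext hcon))
      have hmem : (D.j y * s) v ∈ LinearMap.range s := by
        rw [D.j_comm D.z_s y]; exact ⟨_, rfl⟩
      have hker : D.j x ((D.j y * s) v) = 0 := by
        show (D.j x * (D.j y * s)) v = 0
        rw [← mul_assoc, ← D.j_mul, hxy, D.j_zero, zero_mul]
        rfl
      have h := (D.j x).domRestrict (LinearMap.range s) |>.finrank_range_add_finrank_ker
      have hk : 0 < Module.finrank k (LinearMap.ker ((D.j x).domRestrict (LinearMap.range s))) := by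
        refine Module.finrank_pos_iff_exists_ne_zero.2 ⟨⟨⟨_, hmem⟩, hker⟩, fun e => hv ?_⟩
        simpa [Subtype.ext_iff] using e
      rw [show LinearMap.range ((D.j x).domRestrict (LinearMap.range s)) =
        (LinearMap.range s).map (D.j x) from LinearMap.range_domRestrict _ _] at h
      omega
    omega
  have htopQ := RingSL2.eq_top_of_isField hfield hQ
  have hall : ∀ γ, D.rep γ ∈ pairGroup s t := fun γ => hn γ (htopQ ▸ Subgroup.mem_top γ)
  have hes : D.e * s = s := by
    have hfam : Fam G (D.e * s) := by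
      have := D.rep_U_fam hn hQ hs.1 ht.1 (x := 1) (htopQ ▸ Subgroup.mem_top _)
      rwa [D.j_one] at this
    have hne : D.e * s ≠ 0 := fun e => one_ne_zero (α := D.R) (hjs0 1 (by rw [D.j_one, e]))
    have hr := range_eq_of_min hs hfam hne (by
      rw [D.e_s]; exact LinearMap.range_comp_le_range _ _)
    refine LinearMap.ext fun v => ?_
    obtain ⟨u, hu⟩ : s v ∈ LinearMap.range (D.e * s) := hr.symm ▸ LinearMap.mem_range_self s v
    show D.e (s v) = s v
    rw [← hu]
    exact LinearMap.congr_fun (show D.e * (D.e * s) = D.e * s by rw [← mul_assoc, D.ee]) u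
  have het : D.e * t = t := by
    have hfam : Fam G (D.e * t) := by
      refine ⟨?_, fun c => ?_⟩
      · rw [show D.e * t * (D.e * t) = D.e * (t * D.e) * t by noncomm_ring, ← D.e_t,
          show D.e * (D.e * t) * t = D.e * D.e * (t * t) by noncomm_ring, D.ht, mul_zero]
      · rw [← D.rep_L]; exact pairGroup_le hs.1 ht.1 (hall _)
    have hne : D.e * t ≠ 0 := by
      intro e0
      apply he
      obtain ⟨-, -, -, -, -, -, h12, -, -, h21, -⟩ := D.table
      have hP : D.P10 = 0 := by rw [Corner.P10, mul_assoc, ← D.e_t, e0, mul_zero]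
      rw [← D.unit_sum, ← h12, ← h21, hP, mul_zero, zero_mul, add_zero]
    have hr := range_eq_of_min ht hfam hne (by
      rw [D.e_t]; exact LinearMap.range_comp_le_range _ _)
    refine LinearMap.ext fun v => ?_
    obtain ⟨u, hu⟩ : t v ∈ LinearMap.range (D.e * t) := hr.symm ▸ LinearMap.mem_range_self t v
    show D.e (t v) = t v
    rw [← hu]
    exact LinearMap.congr_fun (show D.e * (D.e * t) = D.e * t by rw [← mul_assoc, D.ee]) u
  refine ⟨⟨D, hfield, hes, het, le_antisymm ?_ ?_⟩⟩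
  · rintro _ ⟨γ, rfl⟩; exact hall γ
  · rw [pairGroup, Subgroup.closure_le]
    rintro _ (⟨c, rfl⟩ | ⟨c, rfl⟩)
    · refine ⟨RingSL2.U (algebraMap k D.R c), ?_⟩
      rw [D.rep_U, D.j_algebraMap, smul_mul_assoc, hes]
    · refine ⟨RingSL2.L (algebraMap k D.R c * AdjoinRoot.root D.g), ?_⟩
      rw [D.rep_L, het]

/-- The partner `t'` of `s` in the class of `t`. -/
theorem exists_partner (h2 : (2 : k) ≠ 0) (h3 : Nat.card k ≠ 3) (hs : IsMin G s) (ht : IsMin G t)
    (hst : s * t * s ≠ 0) :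
    ∃ y, y ∈ cls G t ∧ s * y * s = s ∧ y * s * y = y ∧ y * y = 0 := by
  obtain ⟨O⟩ := exists_opp h2 h3 hs ht hst
  set D := O.D
  obtain ⟨-, h01, -, -, -, -, h12, h13, -, h21, -, -, -, -, h32, -⟩ := D.table
  have hy : D.P10 = D.w * t := by rw [Corner.P10, mul_assoc, ← D.e_t, O.e_t]
  have hs' : D.P01 = s := by rw [Corner.P01, ← D.e_s, O.e_s]
  have hsy : s * D.P10 * s = s := by
    have h : D.P01 * D.P10 * D.P01 = D.P01 := by rw [h12, h01]
    rwa [hs'] at h
  have hys : D.P10 * s * D.P10 = D.P10 := by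
    have h : D.P10 * D.P01 * D.P10 = D.P10 := by rw [h21, h32]
    rwa [hs'] at h
  have hyy : D.P10 * D.P10 = 0 := by
    obtain ⟨-, -, -, -, -, -, -, -, -, -, h22, -⟩ := D.table
    exact h22
  refine ⟨D.P10, ⟨⟨hyy, fun c => ?_⟩, ?_, ?_⟩, hsy, hys, hyy⟩
  · refine pairGroup_le hs.1 ht.1 ?_
    rw [← O.range_rep]
    refine ⟨RingSL2.L (algebraMap k D.R c), Units.ext ?_⟩
    have hc : (c • D.e) * D.P10 = c • D.P10 := by
      rw [smul_mul_assoc, hy, ← mul_assoc, D.e_w, mul_assoc, O.e_t]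
    rw [Corner.rep_val, D.B_L, D.j_algebraMap, hc, tt_val (smul_sq hyy c)]
    abel
  · intro v hv
    rw [hy, LinearMap.mem_ker, Module.End.mul_apply, LinearMap.mem_ker.1 hv, map_zero]
  · rw [hy, D.w_t]
    rintro _ ⟨v, rfl⟩
    refine ⟨⟨_, rfl⟩, ?_⟩
    show t (t _) = 0
    exact LinearMap.congr_fun ht.1.1 _

end CfsgLib.Quadratic
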