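import Cfsg.Agent.Lib.RootGroups.SL2Image

/-!
Subgroups of `SL₂` over a finite-dimensional algebra `R = k[z]`, `z` a unit, that are invariant
under the two standard symmetries and map onto `SL₂` of every residue field: unless `R` is a field
they contain an upper unitriangular matrix with a non-zero non-unit entry.
-/

set_option autoImplicit false

namespace CfsgLib.Quadratic.RingSL2

open Matrix

section Basic

variable {R : Type*} [CommRing R]

/-- Upper unitriangular matrix. -/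
def U (x : R) : SpecialLinearGroup (Fin 2) R := ⟨!![1, x; 0, 1], by simp [det_fin_two]⟩

/-- Lower unitriangular matrix. -/
def L (x : R) : SpecialLinearGroup (Fin 2) R := ⟨!![1, 0; x, 1], by simp [det_fin_two]⟩

@[simp] theorem U_00 (x : R) : (U x).1 0 0 = 1 := rfl
@[simp] theorem U_01 (x : R) : (U x).1 0 1 = x := rfl
@[simp] theorem U_10 (x : R) : (U x).1 1 0 = 0 := rfl
@[simp] theorem U_11 (x : R) : (U x).1 1 1 = 1 := rfl
@[simp] theorem L_00 (x : R) : (L x).1 0 0 = 1 := rfl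
@[simp] theorem L_01 (x : R) : (L x).1 0 1 = 0 := rfl
@[simp] theorem L_10 (x : R) : (L x).1 1 0 = x := rfl
@[simp] theorem L_11 (x : R) : (L x).1 1 1 = 1 := rfl

@[simp] theorem mul_00 (g h : SpecialLinearGroup (Fin 2) R) :
    (g * h).1 0 0 = g.1 0 0 * h.1 0 0 + g.1 0 1 * h.1 1 0 :=
  (Matrix.mul_apply).trans (Fin.sum_univ_two _)

@[simp] theorem mul_01 (g h : SpecialLinearGroup (Fin 2) R) :
    (g * h).1 0 1 = g.1 0 0 * h.1 0 1 + g.1 0 1 * h.1 1 1 :=
  (Matrix.mul_apply).trans (Fin.sum_univ_two _)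

@[simp] theorem mul_10 (g h : SpecialLinearGroup (Fin 2) R) :
    (g * h).1 1 0 = g.1 1 0 * h.1 0 0 + g.1 1 1 * h.1 1 0 :=
  (Matrix.mul_apply).trans (Fin.sum_univ_two _)

@[simp] theorem mul_11 (g h : SpecialLinearGroup (Fin 2) R) :
    (g * h).1 1 1 = g.1 1 0 * h.1 0 1 + g.1 1 1 * h.1 1 1 :=
  (Matrix.mul_apply).trans (Fin.sum_univ_two _)

@[simp] theorem inv_00 (g : SpecialLinearGroup (Fin 2) R) : (g⁻¹).1 0 0 = g.1 1 1 := by
  refine (congrFun (congrFun (adjugate_fin_two g.1) _) _).trans ?_; rfl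

@[simp] theorem inv_01 (g : SpecialLinearGroup (Fin 2) R) : (g⁻¹).1 0 1 = -g.1 0 1 := by
  refine (congrFun (congrFun (adjugate_fin_two g.1) _) _).trans ?_; rfl

@[simp] theorem inv_10 (g : SpecialLinearGroup (Fin 2) R) : (g⁻¹).1 1 0 = -g.1 1 0 := by
  refine (congrFun (congrFun (adjugate_fin_two g.1) _) _).trans ?_; rfl

@[simp] theorem inv_11 (g : SpecialLinearGroup (Fin 2) R) : (g⁻¹).1 1 1 = g.1 0 0 := by
  refine (congrFun (congrFun (adjugate_fin_two g.1) _) _).trans ?_; rfl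

@[simp] theorem one_00 : (1 : SpecialLinearGroup (Fin 2) R).1 0 0 = 1 := rfl
@[simp] theorem one_01 : (1 : SpecialLinearGroup (Fin 2) R).1 0 1 = 0 := rfl
@[simp] theorem one_10 : (1 : SpecialLinearGroup (Fin 2) R).1 1 0 = 0 := rfl
@[simp] theorem one_11 : (1 : SpecialLinearGroup (Fin 2) R).1 1 1 = 1 := rfl

theorem ext {g h : SpecialLinearGroup (Fin 2) R} (h00 : g.1 0 0 = h.1 0 0)
    (h01 : g.1 0 1 = h.1 0 1) (h10 : g.1 1 0 = h.1 1 0) (h11 : g.1 1 1 = h.1 1 1) : g = h := by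
  refine Subtype.ext (Matrix.ext fun i j => ?_)
  fin_cases i <;> fin_cases j <;> assumption

theorem det_eq (g : SpecialLinearGroup (Fin 2) R) :
    g.1 0 0 * g.1 1 1 - g.1 0 1 * g.1 1 0 = 1 := by
  have := g.2; rwa [det_fin_two] at this

theorem U_add (x y : R) : U (x + y) = U x * U y := by
  refine ext ?_ ?_ ?_ ?_ <;> simp [add_comm]

theorem U_zero : U (0 : R) = 1 := by
  refine ext ?_ ?_ ?_ ?_ <;> simp

theorem U_neg (x : R) : U (-x) = (U x)⁻¹ :=
  eq_inv_of_mul_eq_one_left (by rw [← U_add, neg_add_cancel, U_zero])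

/-- Scalar matrices. -/
def IsScalar (g : SpecialLinearGroup (Fin 2) R) : Prop :=
  g.1 0 1 = 0 ∧ g.1 1 0 = 0 ∧ g.1 0 0 = g.1 1 1

/-- Reduction modulo an ideal. -/
def red (I : Ideal R) : SpecialLinearGroup (Fin 2) R →* SpecialLinearGroup (Fin 2) (R ⧸ I) :=
  SpecialLinearGroup.map (Ideal.Quotient.mk I)

theorem red_apply (I : Ideal R) (g : SpecialLinearGroup (Fin 2) R) (i j : Fin 2) :
    (red I g).1 i j = Ideal.Quotient.mk I (g.1 i j) := rfl

theorem red_eq_one {I : Ideal R} {g : SpecialLinearGroup (Fin 2) R} :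
    red I g = 1 ↔ g.1 0 0 - 1 ∈ I ∧ g.1 0 1 ∈ I ∧ g.1 1 0 ∈ I ∧ g.1 1 1 - 1 ∈ I := by
  simp only [← Ideal.Quotient.eq_zero_iff_mem, map_sub, map_one, sub_eq_zero, ← red_apply]
  constructor
  · intro h; simp [h]
  · rintro ⟨h1, h2, h3, h4⟩
    refine ext ?_ ?_ ?_ ?_ <;> simp [h1, h2, h3, h4]

theorem red_U (I : Ideal R) (x : R) : red I (U x) = U (Ideal.Quotient.mk I x) := by
  refine ext ?_ ?_ ?_ ?_ <;> simp [red_apply]

theorem red_L (I : Ideal R) (x : R) : red I (L x) = L (Ideal.Quotient.mk I x) := by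
  refine ext ?_ ?_ ?_ ?_ <;> simp [red_apply]

/-- Two unipotent elements congruent modulo scalars: the scalar is `1`. -/
theorem scalar_eq_one (h2 : IsUnit (2 : R)) {n g h : SpecialLinearGroup (Fin 2) R} (hn : IsScalar n)
    (hg : g.1 0 0 + g.1 1 1 = 2) (hh : h.1 0 0 + h.1 1 1 = 2) (e : g = n * h) : n = 1 := by
  obtain ⟨h01, h10, h00⟩ := hn
  have e0 := congrArg (fun x : SpecialLinearGroup (Fin 2) R => x.1 0 0) e
  have e1 := congrArg (fun x : SpecialLinearGroup (Fin 2) R => x.1 1 1) e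
  simp only [mul_00, mul_11, h01, h10, ← h00, zero_mul, add_zero, zero_add] at e0 e1
  have : n.1 0 0 = 1 := h2.mul_left_cancel (b := n.1 0 0) (c := 1)
    (by linear_combination -e0 - e1 + hg - n.1 0 0 * hh)
  refine ext this h01 h10 ?_
  rw [← h00]; exact this

theorem commute_U_one {g : SpecialLinearGroup (Fin 2) R} :
    g * U 1 = U 1 * g ↔ g.1 1 0 = 0 ∧ g.1 0 0 = g.1 1 1 := by
  constructor
  · intro e
    have e0 := congrArg (fun x : SpecialLinearGroup (Fin 2) R => x.1 0 0) e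
    have e1 := congrArg (fun x : SpecialLinearGroup (Fin 2) R => x.1 0 1) e
    simp at e0 e1
    exact ⟨e0, by linear_combination e1⟩
  · rintro ⟨h1, h2⟩
    refine ext ?_ ?_ ?_ ?_ <;> simp [h1, h2] <;> ring

theorem conj_U_one (g : SpecialLinearGroup (Fin 2) R) :
    (g * U 1 * g⁻¹).1 0 0 = 1 - g.1 0 0 * g.1 1 0 ∧ (g * U 1 * g⁻¹).1 0 1 = g.1 0 0 * g.1 0 0 ∧
      (g * U 1 * g⁻¹).1 1 0 = -(g.1 1 0 * g.1 1 0) ∧
      (g * U 1 * g⁻¹).1 1 1 = 1 + g.1 0 0 * g.1 1 0 := by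
  have hd := det_eq g
  refine ⟨?_, ?_, ?_, ?_⟩ <;> simp <;> first | linear_combination hd | ring1

theorem conj_U_one_trace (g : SpecialLinearGroup (Fin 2) R) :
    (g * U 1 * g⁻¹).1 0 0 + (g * U 1 * g⁻¹).1 1 1 = 2 := by
  obtain ⟨h1, -, -, h4⟩ := conj_U_one g
  rw [h1, h4]; ring

end Basic

variable {k R : Type*} [Field k] [CommRing R] [Algebra k R]

/-- The symmetry exchanging upper and lower. -/
def flipFun (z : Rˣ) (g : SpecialLinearGroup (Fin 2) R) : SpecialLinearGroup (Fin 2) R :=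
  ⟨!![g.1 1 1, g.1 1 0 * ↑z⁻¹; ↑z * g.1 0 1, g.1 0 0], by
    have hz : (↑z⁻¹ : R) * ↑z = 1 := z.inv_mul
    rw [det_fin_two_of]
    linear_combination det_eq g - g.1 1 0 * g.1 0 1 * hz⟩

/-- The scaling by `k`. -/
def scaleFun (c : kˣ) (g : SpecialLinearGroup (Fin 2) R) : SpecialLinearGroup (Fin 2) R :=
  ⟨!![g.1 0 0, algebraMap k R c * g.1 0 1; algebraMap k R ↑c⁻¹ * g.1 1 0, g.1 1 1], by
    have hc : algebraMap k R c * algebraMap k R ↑c⁻¹ = 1 := by
      rw [← map_mul, Units.mul_inv, map_one]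
    rw [det_fin_two_of]
    linear_combination det_eq g - g.1 1 0 * g.1 0 1 * hc⟩

theorem flipFun_mul (z : Rˣ) (g h : SpecialLinearGroup (Fin 2) R) :
    flipFun z (g * h) = flipFun z g * flipFun z h := by
  have hz : (↑z⁻¹ : R) * ↑z = 1 := z.inv_mul
  refine ext ?_ ?_ ?_ ?_ <;>
    simp only [mul_00, mul_01, mul_10, mul_11] <;>
    simp [flipFun] <;>
    first | ring1 | linear_combination -(g.1 1 0 * h.1 0 1) * hz | linear_combination -(g.1 0 1 * h.1 1 0) * hz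

theorem scaleFun_mul (c : kˣ) (g h : SpecialLinearGroup (Fin 2) R) :
    scaleFun c (g * h) = scaleFun c g * scaleFun c h := by
  have hc : algebraMap k R c * algebraMap k R ↑c⁻¹ = 1 := by
    rw [← map_mul, Units.mul_inv, map_one]
  refine ext ?_ ?_ ?_ ?_ <;>
    simp only [mul_00, mul_01, mul_10, mul_11] <;>
    simp [scaleFun, -Units.val_inv_eq_inv_val] <;>
    first | ring1 | linear_combination -(g.1 0 1 * h.1 1 0) * hc | linear_combination -(g.1 1 0 * h.1 0 1) * hc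

/-- `flipFun` as a homomorphism. -/
def flipHom (z : Rˣ) : SpecialLinearGroup (Fin 2) R →* SpecialLinearGroup (Fin 2) R :=
  MonoidHom.mk' (flipFun z) (flipFun_mul z)

/-- `scaleFun` as a homomorphism. -/
def scaleHom (c : kˣ) : SpecialLinearGroup (Fin 2) R →* SpecialLinearGroup (Fin 2) R :=
  MonoidHom.mk' (scaleFun c) (scaleFun_mul c)

/-- The subgroups treated here. -/
structure IsGood (k : Type*) [Field k] [Algebra k R] (z : Rˣ) (Q : Subgroup (SpecialLinearGroup (Fin 2) R)) :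
    Prop where
  conjU : ∀ g ∈ Q, U 1 * g * (U 1)⁻¹ ∈ Q
  flip : ∀ g ∈ Q, flipFun z g ∈ Q
  scale : ∀ (c : kˣ), ∀ g ∈ Q, scaleFun c g ∈ Q
  full : ∀ (m : Ideal R), m.IsMaximal → ∀ y : SpecialLinearGroup (Fin 2) (R ⧸ m), ∃ g ∈ Q, red m g = y

variable {z : Rˣ} {Q : Subgroup (SpecialLinearGroup (Fin 2) R)}

theorem IsGood.comm_mem (hQ : IsGood k z Q) {g : SpecialLinearGroup (Fin 2) R} (hg : g ∈ Q) :
    g * U 1 * g⁻¹ * (U 1)⁻¹ ∈ Q := by
  have := mul_mem hg (hQ.conjU _ (inv_mem hg))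
  rwa [← mul_assoc, ← mul_assoc] at this

/-- An element commuting with `U 1` modulo `J` does so exactly, and yields a translation. -/
theorem key (hQ : IsGood k z Q) (h2 : IsUnit (2 : R)) {J : Ideal R}
    (hJ : ∀ n ∈ Q, red J n = 1 → IsScalar n) {h : SpecialLinearGroup (Fin 2) R} (hh : h ∈ Q)
    (h10 : h.1 1 0 ∈ J) (hd : h.1 0 0 - h.1 1 1 ∈ J) :
    h.1 1 0 = 0 ∧ h.1 0 0 = h.1 1 1 ∧ h.1 0 0 * h.1 0 0 = 1 ∧ U (2 * h.1 0 0 * h.1 0 1) ∈ Q := by
  have hc : red J (h * U 1 * h⁻¹ * (U 1)⁻¹) = 1 := by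
    rw [map_mul, map_mul, map_mul, map_inv, map_inv, mul_inv_eq_one, mul_inv_eq_iff_eq_mul, red_U,
      map_one]
    refine commute_U_one.2 ⟨?_, ?_⟩
    · rw [red_apply, Ideal.Quotient.eq_zero_iff_mem]; exact h10
    · rw [red_apply, red_apply, Ideal.Quotient.eq]; exact hd
  have hn := scalar_eq_one h2 (hJ _ (hQ.comm_mem hh) hc) (conj_U_one_trace h)
    (h := U 1) (by simp [one_add_one_eq_two]) (by group)
  rw [mul_inv_eq_one, mul_inv_eq_iff_eq_mul] at hn
  obtain ⟨e1, e2⟩ := commute_U_one.1 hn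
  have hd' := det_eq h
  rw [e1, ← e2, mul_zero, sub_zero] at hd'
  refine ⟨e1, e2, hd', ?_⟩
  convert mul_mem hh hh using 1
  refine ext ?_ ?_ ?_ ?_ <;> simp [e1, ← e2, hd'] <;> ring

/-- A field element whose square is not `1`. -/
theorem exists_sq_ne_one (h2 : (2 : k) ≠ 0) (h3 : Nat.card k ≠ 3) : ∃ a : k, a ≠ 0 ∧ a * a ≠ 1 := by
  classical
  by_contra hcon
  push Not at hcon
  have hall : ∀ x : k, x ∈ ({0, 1, -1} : Finset k) := fun x => by
    simp only [Finset.mem_insert, Finset.mem_singleton]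
    by_cases hx : x = 0
    · exact Or.inl hx
    · exact Or.inr (mul_self_eq_one_iff.1 (hcon x hx))
  apply h3
  have huniv : (({0, 1, -1} : Finset k) : Set k) = Set.univ :=
    Set.eq_univ_of_forall fun x => Finset.mem_coe.2 (hall x)
  rw [← Set.ncard_univ k, ← huniv, Set.ncard_coe_finset, Finset.card_insert_of_notMem,
    Finset.card_pair]
  · intro e; exact h2 (by linear_combination e)
  · simp

/-- A normal subgroup of `SL₂` of a field containing a non-scalar contains a translation. -/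
theorem exists_translation {F : Type*} [Field F] {N : Subgroup (SpecialLinearGroup (Fin 2) F)}
    (hN : N.Normal) {a : F} (ha0 : a ≠ 0) (ha : a * a ≠ 1) {n : SpecialLinearGroup (Fin 2) F}
    (hn : n ∈ N) (hns : ¬ IsScalar n) : U (a * a - 1) ∈ N := by
  have h := CfsgLib.RootGroups.SL2Image.isRankOneGroup_upper_lower (k := F)
  rcases CfsgLib.RootGroups.rankOneGroup_dichotomy h hN with htop | hle
  · let D : SpecialLinearGroup (Fin 2) F := ⟨!![a, 0; 0, a⁻¹], by simp [det_fin_two, ha0]⟩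
    have := hN
    obtain ⟨n₁, hn₁, u, hu, hD⟩ :=
      Subgroup.mem_sup_of_normal_left.mp (htop ▸ Subgroup.mem_top D)
    obtain ⟨t, rfl⟩ := Cfsg.Agent.S5016.mem_upper_iff.mp hu
    have ht : CfsgLib.RootGroups.Steinberg.upper t = U t :=
      Subtype.ext (CfsgLib.RootGroups.Steinberg.upper_val t)
    rw [ht] at hD
    have hcomm : U t * U 1 = U 1 * U t := by rw [← U_add, ← U_add, add_comm]
    have e : U (a * a - 1) = n₁ * (U 1 * n₁⁻¹ * (U 1)⁻¹) := by
      have e1 : D * U 1 * D⁻¹ * (U 1)⁻¹ = n₁ * (U 1 * n₁⁻¹ * (U 1)⁻¹) := by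
        rw [← hD, _root_.mul_inv_rev, mul_assoc n₁ (U t) (U 1), hcomm]; group
      rw [← e1, ← U_neg]
      have d00 : D.1 0 0 = a := rfl
      have d01 : D.1 0 1 = 0 := rfl
      have d10 : D.1 1 0 = 0 := rfl
      have d11 : D.1 1 1 = a⁻¹ := rfl
      refine ext ?_ ?_ ?_ ?_ <;> simp [d00, d01, d10, d11, ha0]
      ring
    rw [e]
    exact mul_mem hn₁ (hN.conj_mem _ (inv_mem hn₁) _)
  · exfalso
    apply hns
    have hc := Subgroup.mem_center_iff.mp (hle hn)
    obtain ⟨e1, e2⟩ := commute_U_one.1 (hc (U 1)).symm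
    refine ⟨?_, e1, e2⟩
    have := congrArg (fun x : SpecialLinearGroup (Fin 2) F => x.1 0 0) (hc (L 1))
    simpa using this

/-- The ideal-theoretic case. -/
theorem small_of_nonscalar [FiniteDimensional k R] (hQ : IsGood k z Q) (h2 : (2 : k) ≠ 0)
    (h3 : Nat.card k ≠ 3) {m : Ideal R} (hm : m.IsMaximal)
    (hns : ∃ n ∈ Q, red m n = 1 ∧ ¬ IsScalar n) :
    ∃ x : R, x ≠ 0 ∧ ¬ IsUnit x ∧ U x ∈ Q := by
  have h2R : IsUnit (2 : R) := by
    have := (isUnit_iff_ne_zero.2 h2).map (algebraMap k R)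
    rwa [map_ofNat] at this
  have : IsArtinianRing R := isArtinian_of_tower k inferInstance
  let P : Set (Ideal R) := {I | I ≤ m ∧ ∃ n ∈ Q, red I n = 1 ∧ ¬ IsScalar n}
  obtain ⟨I, ⟨hIm, n₀, hn₀, hn₀I, hn₀s⟩, hImin⟩ :=
    (wellFounded_lt (α := Ideal R)).has_min P ⟨m, le_rfl, hns⟩
  have hIbot : I ≠ ⊥ := by
    rintro rfl
    obtain ⟨h1, h2', h3', h4⟩ := red_eq_one.1 hn₀I
    simp only [Ideal.mem_bot, sub_eq_zero] at h1 h2' h3' h4
    exact hn₀s ⟨h2', h3', h1.trans h4.symm⟩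
  obtain ⟨J, hJI, hJmax⟩ := (wellFounded_gt (α := Ideal R)).has_min {J | J < I}
    ⟨⊥, bot_lt_iff_ne_bot.2 hIbot⟩
  have hJle : J ≤ I := le_of_lt hJI
  have hJsc : ∀ n ∈ Q, red J n = 1 → IsScalar n := fun n hn e => by
    by_contra hs
    exact hImin J ⟨hJle.trans hIm, n, hn, e, hs⟩ hJI
  have hsimple : ∀ K : Ideal R, J ≤ K → K ≤ I → ¬ K ≤ J → K = I := fun K h1 h2' h3' =>
    (lt_or_eq_of_le h2').resolve_left fun hlt => hJmax K hlt (lt_of_le_not_ge h1 h3')
  -- an element not commuting with `U 1` modulo `J`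
  obtain ⟨n, hn, hnI, hnJ⟩ : ∃ n ∈ Q, red I n = 1 ∧ ¬ (n.1 1 0 ∈ J ∧ n.1 0 0 - n.1 1 1 ∈ J) := by
    by_contra hcon
    push Not at hcon
    obtain ⟨h00, h01, h10, h11⟩ := red_eq_one.1 hn₀I
    have hfl : red I (flipFun z n₀) = 1 := red_eq_one.2
      ⟨by simpa [flipFun] using h11, by simpa [flipFun] using h10,
        by simpa [flipFun] using h01, by simpa [flipFun] using h00⟩
    obtain ⟨a1, a2⟩ := hcon n₀ hn₀ hn₀I
    obtain ⟨b1, b2⟩ := hcon _ (hQ.flip _ hn₀) hfl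
    obtain ⟨e1, e2, -⟩ := key hQ h2R hJsc hn₀ a1 a2
    obtain ⟨f1, -⟩ := key hQ h2R hJsc (hQ.flip _ hn₀) b1 b2
    simp [flipFun] at f1
    exact hn₀s ⟨f1, e1, e2⟩
  suffices hsuf : ∃ h ∈ Q, red I h = 1 ∧ h.1 1 0 ∈ J ∧ h.1 0 0 - h.1 1 1 ∈ J ∧ h.1 0 1 ∉ J by
    obtain ⟨h, hh, hhI, h10, hd, h01⟩ := hsuf
    obtain ⟨-, -, hsq, hU⟩ := key hQ h2R hJsc hh h10 hd
    have hxm : 2 * h.1 0 0 * h.1 0 1 ∈ m := m.mul_mem_left _ (hIm (red_eq_one.1 hhI).2.1)
    refine ⟨_, fun e => ?_, fun hu => hm.ne_top (m.eq_top_of_isUnit_mem hxm hu), hU⟩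
    have hu : IsUnit (2 * h.1 0 0) := h2R.mul ⟨⟨_, _, hsq, hsq⟩, rfl⟩
    rw [hu.mul_right_eq_zero.1 e] at h01
    exact h01 J.zero_mem
  obtain ⟨h00, h01, h10, h11⟩ := red_eq_one.1 hnI
  by_cases hII : I * I ≤ J
  · -- `I / J` of square zero
    have step : ∀ g ∈ Q, red I g = 1 →
        let c := g * U 1 * g⁻¹ * (U 1)⁻¹
        c ∈ Q ∧ red I c = 1 ∧ c.1 1 0 ∈ J ∧ c.1 0 0 - (1 - g.1 1 0) ∈ J ∧
          c.1 0 1 - (2 * (g.1 0 0 - 1) + g.1 1 0) ∈ J ∧ c.1 1 1 - (1 + g.1 1 0) ∈ J := by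
      intro g hg hgI c
      obtain ⟨g00, g01, g10, g11⟩ := red_eq_one.1 hgI
      have hp : ∀ {x y : R}, x ∈ I → y ∈ I → x * y ∈ J := fun hx hy => hII (Ideal.mul_mem_mul hx hy)
      obtain ⟨e0, e1, e2, e3⟩ := conj_U_one g
      have c00 : c.1 0 0 = 1 - g.1 0 0 * g.1 1 0 := by simp only [c, mul_00, e0]; simp
      have c01 : c.1 0 1 = g.1 0 0 * g.1 0 0 - (1 - g.1 0 0 * g.1 1 0) := by
        simp only [c, mul_01, e0, e1]; simp; ring
      have c10 : c.1 1 0 = -(g.1 1 0 * g.1 1 0) := by simp only [c, mul_10, e2]; simp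
      have c11 : c.1 1 1 = 1 + g.1 0 0 * g.1 1 0 + g.1 1 0 * g.1 1 0 := by
        simp only [c, mul_11, e2, e3]; simp; ring
      refine ⟨hQ.comm_mem hg, ?_, ?_, ?_, ?_, ?_⟩
      · simp only [c, map_mul, map_inv, hgI, one_mul, inv_one, mul_one, mul_inv_cancel]
      · rw [c10]; exact J.neg_mem (hp g10 g10)
      · rw [c00, show 1 - g.1 0 0 * g.1 1 0 - (1 - g.1 1 0) = -((g.1 0 0 - 1) * g.1 1 0) by ring]
        exact J.neg_mem (hp g00 g10)
      · rw [c01, show g.1 0 0 * g.1 0 0 - (1 - g.1 0 0 * g.1 1 0) - (2 * (g.1 0 0 - 1) + g.1 1 0) =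
          (g.1 0 0 - 1) * (g.1 0 0 - 1) + (g.1 0 0 - 1) * g.1 1 0 by ring]
        exact J.add_mem (hp g00 g00) (hp g00 g10)
      · rw [c11, show 1 + g.1 0 0 * g.1 1 0 + g.1 1 0 * g.1 1 0 - (1 + g.1 1 0) =
          (g.1 0 0 - 1) * g.1 1 0 + g.1 1 0 * g.1 1 0 by ring]
        exact J.add_mem (hp g00 g10) (hp g10 g10)
    obtain ⟨hc, hcI, hc10, hc00, hc01, hc11⟩ := step n hn hnI
    set c := n * U 1 * n⁻¹ * (U 1)⁻¹
    by_cases hn10 : n.1 1 0 ∈ J
    · refine ⟨c, hc, hcI, hc10, ?_, ?_⟩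
      · have := J.sub_mem (J.sub_mem hc00 hc11) (J.add_mem hn10 hn10)
        convert this using 1; ring
      · intro hmem
        apply hnJ
        refine ⟨hn10, ?_⟩
        have h2d : 2 * (n.1 0 0 - 1) ∈ J := by
          have := J.sub_mem (J.sub_mem hmem hc01) hn10
          convert this using 1; ring
        have hd0 : n.1 0 0 - 1 ∈ J := (Submodule.smul_mem_iff_of_isUnit _ h2R).1 h2d
        have hd1 : n.1 1 1 - 1 ∈ J := by
          have := J.sub_mem (J.sub_mem (J.mul_mem_left (n.1 0 1) hn10) hd0)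
            (J.mul_mem_left (n.1 1 1 - 1) hd0)
          convert this using 1
          linear_combination det_eq n
        convert J.sub_mem hd0 hd1 using 1; ring
    · obtain ⟨hd, hdI, hd10, hd00, hd01, hd11⟩ := step c hc hcI
      set d := c * U 1 * c⁻¹ * (U 1)⁻¹
      refine ⟨d, hd, hdI, hd10, ?_, ?_⟩
      · have := J.sub_mem (J.sub_mem hd00 hd11) (J.add_mem hc10 hc10)
        convert this using 1; ring
      · intro hmem
        apply hn10
        have h2n : 2 * n.1 1 0 ∈ J := by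
          have := J.add_mem (J.sub_mem hd01 hmem) (J.add_mem (J.add_mem hc00 hc00) hc10)
          convert this using 1; ring
        exact (Submodule.smul_mem_iff_of_isUnit _ h2R).1 h2n
  · -- `I / J` a residue field
    let m₁ : Ideal R :=
      { carrier := {r | ∀ y ∈ I, r * y ∈ J}
        add_mem' := fun {a b} ha hb y hy => by rw [add_mul]; exact J.add_mem (ha y hy) (hb y hy)
        zero_mem' := fun y _ => by rw [zero_mul]; exact J.zero_mem
        smul_mem' := fun r a ha y hy => by rw [smul_eq_mul, mul_assoc]; exact J.mul_mem_left _ (ha y hy) }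
    have hJm₁ : J ≤ m₁ := fun j hj y _ => J.mul_mem_right _ hj
    have hinf : ∀ x ∈ I, x ∈ m₁ → x ∈ J := by
      intro x hx hx'
      by_contra hxJ
      have := hsimple (I ⊓ m₁) (le_inf hJle hJm₁) inf_le_left fun h => hxJ (h ⟨hx, hx'⟩)
      exact hII (Ideal.mul_le.2 fun a ha b hb => (this.symm.le ha).2 b hb)
    have hprod : ∀ r, r ∉ m₁ → Ideal.span {r} * I ⊔ J = I := fun r hr =>
      hsimple _ le_sup_right (sup_le Ideal.mul_le_right hJle) fun h => hr fun y hy =>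
        h (Submodule.mem_sup_left (Ideal.mul_mem_mul (Ideal.mem_span_singleton_self r) hy))
    have hdec : ∀ r, r ∉ m₁ → ∀ v ∈ I, ∃ u ∈ I, v - r * u ∈ J := by
      intro r hr v hv
      rw [← hprod r hr] at hv
      obtain ⟨a, ha, b, hb, rfl⟩ := Submodule.mem_sup.1 hv
      obtain ⟨u, hu, rfl⟩ := Ideal.mem_span_singleton_mul.1 ha
      exact ⟨u, hu, by simpa using hb⟩
    obtain ⟨i, hi, hi'⟩ : ∃ i ∈ I, i ∉ m₁ := by
      by_contra hcon
      push Not at hcon
      exact hII (Ideal.mul_le.2 fun a ha b hb => hcon a ha b hb)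
    obtain ⟨e, he, hee⟩ := hdec i hi' i hi
    have he1 : e - 1 ∈ m₁ := by
      intro y hy
      obtain ⟨u, hu, hyu⟩ := hdec i hi' y hy
      have := J.add_mem (J.mul_mem_right u (J.neg_mem hee)) (J.mul_mem_left (e - 1) hyu)
      convert this using 1; ring
    have hm₁ : m₁.IsMaximal := by
      refine ⟨⟨fun h => hi' (h ▸ Submodule.mem_top), fun K hK => ?_⟩⟩
      obtain ⟨r, hrK, hr⟩ := SetLike.exists_of_lt hK
      obtain ⟨u, -, heu⟩ := hdec r hr e he
      rw [Ideal.eq_top_iff_one]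
      have := K.sub_mem (K.add_mem (hK.le (hJm₁ heu)) (K.mul_mem_right u hrK)) (hK.le he1)
      convert this using 1; ring
    letI := Ideal.Quotient.field m₁
    let N : Subgroup (SpecialLinearGroup (Fin 2) (R ⧸ m₁)) := (Q ⊓ (red I).ker).map (red m₁)
    have hNn : N.Normal := ⟨by
      rintro _ ⟨x, ⟨hx, hxI⟩, rfl⟩ y
      obtain ⟨g, hg, rfl⟩ := hQ.full m₁ hm₁ y
      have hgx : g * x * g⁻¹ ∈ Q := mul_mem (mul_mem hg hx) (inv_mem hg)
      refine ⟨g * x * g⁻¹, ⟨hgx, ?_⟩, by simp⟩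
      exact MonoidHom.normal_ker (red I) |>.conj_mem x hxI g⟩
    obtain ⟨a, ha0, ha⟩ := exists_sq_ne_one h2 h3
    let φ : k →+* R ⧸ m₁ := (Ideal.Quotient.mk m₁).comp (algebraMap k R)
    have hns' : ¬ IsScalar (red m₁ n) := by
      rintro ⟨-, e10, e00⟩
      rw [red_apply, Ideal.Quotient.eq_zero_iff_mem] at e10
      rw [red_apply, red_apply, Ideal.Quotient.eq] at e00
      refine hnJ ⟨hinf _ h10 e10, hinf _ ?_ e00⟩
      convert I.sub_mem h00 h11 using 1; ring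
    obtain ⟨h, ⟨hh, hhI⟩, hhe⟩ := exists_translation hNn (a := φ a)
      (by simpa using ha0) (fun e => ha (φ.injective (by rw [map_mul, e, map_one])))
      ⟨n, ⟨hn, hnI⟩, rfl⟩ hns'
    obtain ⟨k00, k01, k10, k11⟩ := red_eq_one.1 hhI
    have f00 := congrArg (fun g : SpecialLinearGroup (Fin 2) (R ⧸ m₁) => g.1 0 0) hhe
    have f01 := congrArg (fun g : SpecialLinearGroup (Fin 2) (R ⧸ m₁) => g.1 0 1) hhe
    have f10 := congrArg (fun g : SpecialLinearGroup (Fin 2) (R ⧸ m₁) => g.1 1 0) hhe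
    have f11 := congrArg (fun g : SpecialLinearGroup (Fin 2) (R ⧸ m₁) => g.1 1 1) hhe
    simp only [red_apply, U_00, U_01, U_10, U_11] at f00 f01 f10 f11
    refine ⟨h, hh, hhI, hinf _ k10 (Ideal.Quotient.eq_zero_iff_mem.1 f10), hinf _ ?_ ?_, fun hmem => ?_⟩
    · convert I.sub_mem k00 k11 using 1; ring
    · exact Ideal.Quotient.eq.1 (f00.trans f11.symm)
    · have h0 := Ideal.Quotient.eq_zero_iff_mem.2 (hJm₁ hmem)
      rw [h0] at f01
      exact ha (φ.injective (by rw [map_mul, map_one]; exact sub_eq_zero.1 f01.symm))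

/-- All non-zero translations units, all congruence kernels scalar: then `R` is a field. -/
theorem isField_of_scalar [Nontrivial R] (hQ : IsGood k z Q) (h2 : (2 : k) ≠ 0)
    (hgen : Algebra.adjoin k {(z : R)} = ⊤) (hu : ∀ x : R, U x ∈ Q → x ≠ 0 → IsUnit x)
    {m : Ideal R} (hm : m.IsMaximal) (hsc : ∀ n ∈ Q, red m n = 1 → IsScalar n) : IsField R := by
  have h2R : IsUnit (2 : R) := by
    have := (isUnit_iff_ne_zero.2 h2).map (algebraMap k R)
    rwa [map_ofNat] at this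
  letI := Ideal.Quotient.field m
  let π := Ideal.Quotient.mk m
  have h2F : (2 : R ⧸ m) ≠ 0 := by
    have := (h2R.map π).ne_zero
    rwa [map_ofNat] at this
  have hinj : ∀ x, U x ∈ Q → π x = 0 → x = 0 := by
    intro x hx hx0
    by_contra hne
    exact hm.ne_top (m.eq_top_of_isUnit_mem (Ideal.Quotient.eq_zero_iff_mem.1 hx0) (hu x hx hne))
  have hsurj : ∀ y : R ⧸ m, ∃ x, U x ∈ Q ∧ π x = y := by
    intro y
    obtain ⟨h, hh, he⟩ := hQ.full m hm (U (y / 2))
    have f00 := congrArg (fun g : SpecialLinearGroup (Fin 2) (R ⧸ m) => g.1 0 0) he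
    have f01 := congrArg (fun g : SpecialLinearGroup (Fin 2) (R ⧸ m) => g.1 0 1) he
    have f10 := congrArg (fun g : SpecialLinearGroup (Fin 2) (R ⧸ m) => g.1 1 0) he
    have f11 := congrArg (fun g : SpecialLinearGroup (Fin 2) (R ⧸ m) => g.1 1 1) he
    simp only [red_apply, U_00, U_01, U_10, U_11] at f00 f01 f10 f11
    obtain ⟨-, -, -, hU⟩ := key hQ h2R hsc hh (Ideal.Quotient.eq_zero_iff_mem.1 f10)
      (Ideal.Quotient.eq.1 (f00.trans f11.symm))
    refine ⟨_, hU, ?_⟩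
    show π (2 * h.1 0 0 * h.1 0 1) = y
    rw [map_mul, map_mul, map_ofNat, f00, f01]
    field_simp
  have hLmem : ∀ x, U x ∈ Q → L (↑z * x) ∈ Q := fun x hx => by
    convert hQ.flip _ hx using 1
    refine ext ?_ ?_ ?_ ?_ <;> simp [flipFun]
  obtain ⟨e₀, he₀Q, he₀⟩ := hsurj 1
  have hstep : ∀ a, U a ∈ Q → a ≠ 0 → (∃ b, U b ∈ Q ∧ a * (↑z * b) = 1) ∧ e₀ = 1 := by
    intro a ha ha0
    have hπa : π a ≠ 0 := fun e => ha0 (hinj a ha e)
    have hπz : π ↑z ≠ 0 := (z.isUnit.map π).ne_zero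
    obtain ⟨b', hb', hb'e⟩ := hsurj (1 / (π a * π ↑z))
    set b := ↑z * b' with hb
    have hπb : π a * π b = 1 := by
      rw [hb, map_mul, hb'e]; field_simp
    set W := U a * (L b)⁻¹ * U a with hW
    have hWQ : W ∈ Q := mul_mem (mul_mem ha (inv_mem (hLmem b' hb'))) ha
    have W00 : W.1 0 0 = 1 - a * b := by simp [hW]; ring
    have W10 : W.1 1 0 = -b := by simp [hW]
    have W01 : W.1 0 1 = a * (2 - a * b) := by simp [hW]; ring
    have W11 : W.1 1 1 = 1 - a * b := by simp [hW]; ring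
    have hπw : π (W.1 0 0) = 0 := by rw [W00, map_sub, map_mul, map_one, hπb, sub_self]
    have hb0 : b ≠ 0 := fun e => by simp [e] at hπb
    have hbu : IsUnit b := by
      refine z.isUnit.mul (hu b' hb' fun e => hb0 ?_)
      rw [hb, e, mul_zero]
    -- `W ^ 2` commutes with `U 1`
    obtain ⟨w10, -, -, -⟩ := key hQ h2R hsc (mul_mem hWQ hWQ)
      (Ideal.Quotient.eq_zero_iff_mem.1 (by
        show π _ = 0
        rw [mul_10, map_add, map_mul, map_mul, hπw, W11, ← W00, hπw]; simp))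
      (by
        have : W.1 1 1 = W.1 0 0 := by rw [W11, W00]
        rw [mul_00, mul_11, this]
        convert m.zero_mem using 1; ring)
    have hw : W.1 0 0 = 0 := by
      rw [mul_10, W11, ← W00, W10] at w10
      have : 2 * b * W.1 0 0 = 0 := by linear_combination -w10
      exact (h2R.mul hbu).mul_right_eq_zero.1 this
    -- the commutator of `W` with `U 1`
    obtain ⟨b'', hb'', hb''e⟩ := hsurj (-(π b * π b) / π ↑z)
    set g := L (↑z * b'') * (U e₀)⁻¹
    have hgQ : g ∈ Q := mul_mem (hLmem _ hb'') (inv_mem he₀Q)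
    set c := W * U 1 * W⁻¹ * (U 1)⁻¹
    have hred : red m (c * g⁻¹) = 1 := by
      rw [map_mul, map_inv, mul_inv_eq_one]
      obtain ⟨e0, e1, e2, e3⟩ := conj_U_one W
      have hπz' : Ideal.Quotient.mk m ↑z ≠ 0 := hπz
      refine ext ?_ ?_ ?_ ?_ <;> rw [red_apply, red_apply] <;>
        simp only [c, g, mul_00, mul_01, mul_10, mul_11, inv_00, inv_01, inv_10, inv_11, U_00, U_01,
          U_10, U_11, L_00, L_01, L_10, L_11, e0, e1, e2, e3, hw, W10] <;>
        simp [he₀, hb''e, π] <;>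
        field_simp <;> ring
    have hn := hsc _ (mul_mem (hQ.comm_mem hWQ) (inv_mem hgQ)) hred
    obtain ⟨n01, n10, n00⟩ := hn
    have hce : c = c * g⁻¹ * g := by group
    generalize c * g⁻¹ = n at hce n01 n10 n00
    obtain ⟨e0, e1, e2, e3⟩ := conj_U_one W
    have q00 := congrArg (fun x : SpecialLinearGroup (Fin 2) R => x.1 0 0) hce
    have q01 := congrArg (fun x : SpecialLinearGroup (Fin 2) R => x.1 0 1) hce
    simp only [c, g, mul_00, mul_01, mul_10, mul_11, inv_00, inv_01, inv_10, inv_11, U_00, U_01,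
      U_10, U_11, L_00, L_01, L_10, L_11, e0, e1, e2, e3, hw, W10, n01] at q00 q01
    refine ⟨⟨b', hb', ?_⟩, ?_⟩
    · rw [← hb]; linear_combination W00 - hw
    · linear_combination q01 + e₀ * q00
  have he₀0 : e₀ ≠ 0 := fun e => by simp [e, π] at he₀
  have he1 : e₀ = 1 := (hstep e₀ he₀Q he₀0).2
  let rad : Submodule k R :=
    { carrier := {x | U x ∈ Q}
      add_mem' := fun {x y} hx hy => by
        show U (x + y) ∈ Q
        rw [U_add]; exact mul_mem hx hy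
      zero_mem' := by show U (0 : R) ∈ Q; rw [U_zero]; exact one_mem _
      smul_mem' := fun c x hx => by
        show U (c • x) ∈ Q
        rcases eq_or_ne c 0 with rfl | hc
        · rw [zero_smul, U_zero]; exact one_mem _
        · convert hQ.scale (Units.mk0 c hc) _ hx using 1
          refine ext ?_ ?_ ?_ ?_ <;> simp [scaleFun, Algebra.smul_def] }
  have h1rad : (1 : R) ∈ rad := he1 ▸ he₀Q
  -- `a ↦ (z a)⁻¹`
  have hJ : ∀ a ∈ rad, a ≠ 0 → ∃ b ∈ rad, a * ↑z * b = 1 := fun a ha ha0 => by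
    obtain ⟨b, hb, e⟩ := (hstep a ha ha0).1
    exact ⟨b, hb, by rw [mul_assoc]; exact e⟩
  -- Hua's identity
  have hhua : ∀ a ∈ rad, ∀ c ∈ rad, c ≠ 0 → ∀ ci, c * ci = 1 → a * a * ci ∈ rad := by
    intro a ha c hc hc0 ci hci
    by_cases ha0 : a = 0
    · simp [ha0]
    by_cases hac : c - a = 0
    · rw [sub_eq_zero.1 hac] at hci
      rw [mul_assoc, hci, mul_one]; exact ha
    obtain ⟨p, hp, hpe⟩ := hJ a ha ha0
    obtain ⟨q, hq, hqe⟩ := hJ _ (sub_mem hc ha) hac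
    have hpq : p + q ≠ 0 := fun e => hc0 (by
      linear_combination (a * (↑z : R) * (c - a)) * e - (c - a) * hpe - a * hqe)
    obtain ⟨r, hr, hre⟩ := hJ _ (add_mem hp hq) hpq
    convert sub_mem ha hr using 1
    have hA : (p + q) * ↑z * (a * (c - a)) = c := by linear_combination (c - a) * hpe + a * hqe
    linear_combination (-(r * ci)) * hA + (ci * a * (c - a)) * hre + (a - r) * hci
  have hsq : ∀ a ∈ rad, a * a ∈ rad := fun a ha => by
    simpa using hhua a ha 1 h1rad one_ne_zero 1 (one_mul 1)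
  have hmul : ∀ a ∈ rad, ∀ b ∈ rad, a * b ∈ rad := by
    intro a ha b hb
    have := Submodule.smul_mem rad (2 : k)⁻¹
      (sub_mem (sub_mem (hsq _ (add_mem ha hb)) (hsq a ha)) (hsq b hb))
    convert this using 1
    rw [show (a + b) * (a + b) - a * a - b * b = algebraMap k R 2 * (a * b) by rw [map_ofNat]; ring,
      ← Algebra.smul_def, smul_smul, inv_mul_cancel₀ h2, one_smul]
  have hzrad : (↑z : R) ∈ rad := by
    obtain ⟨zi, hzi, hzie⟩ := hJ 1 h1rad one_ne_zero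
    have hzi0 : zi ≠ 0 := fun e => by simp [e] at hzie
    simpa using hhua 1 h1rad zi hzi hzi0 ↑z (by linear_combination hzie)
  have hall : ∀ x : R, x ∈ rad := by
    intro x
    let S : Subalgebra k R := rad.toSubalgebra h1rad fun a b ha hb => hmul a ha b hb
    have hle : Algebra.adjoin k {(z : R)} ≤ S := Algebra.adjoin_le (Set.singleton_subset_iff.2 hzrad)
    exact hle (hgen ▸ Algebra.mem_top)
  refine ⟨⟨0, 1, zero_ne_one⟩, mul_comm, fun {a} ha => ?_⟩
  obtain ⟨b, hb⟩ := (hu a (hall a) ha).exists_right_inv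
  exact ⟨b, hb⟩

/-- The main result. -/
theorem exists_small [FiniteDimensional k R] [Nontrivial R] (hQ : IsGood k z Q) (h2 : (2 : k) ≠ 0)
    (h3 : Nat.card k ≠ 3) (hgen : Algebra.adjoin k {(z : R)} = ⊤) (hR : ¬ IsField R) :
    ∃ x : R, x ≠ 0 ∧ ¬ IsUnit x ∧ U x ∈ Q := by
  by_contra hcon
  push Not at hcon
  obtain ⟨m, hm⟩ := Ideal.exists_maximal R
  apply hR
  refine isField_of_scalar hQ h2 hgen (fun x hx hx0 => ?_) hm fun n hn hnm => ?_
  · by_contra hnu
    exact hcon x hx0 hnu hx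
  · by_contra hs
    obtain ⟨x, hx0, hxu, hx⟩ := small_of_nonscalar hQ h2 h3 hm ⟨n, hn, hnm, hs⟩
    exact hcon x hx0 hxu hx

end CfsgLib.Quadratic.RingSL2
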