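import Cfsg.Agent.Lib.Quadratic.Commutator
import Cfsg.Agent.Lib.RootGroups.Classes

/-!
The subgroups `E(σ)` form a set of abstract root subgroups: the three cases, and the rank one pairs
as images of `SL₂`.
-/

set_option autoImplicit false

namespace CfsgLib.Quadratic

open CfsgLib.RootGroups
open scoped commutatorElement

variable {k : Type*} [Field k] {M : Type*} [AddCommGroup M] [Module k M] [FiniteDimensional k M]
  {G : Subgroup (LinearMap.GeneralLinearGroup k M)} {s t : M →ₗ[k] M}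

theorem esub_mem (hs : IsMin G s) : esub G s ∈ Cfsg.quadraticRootSubgroups G :=
  mem_rootSubgroups_iff.2 ⟨s, hs, rfl⟩

theorem esub_commute_of_zero (h2 : (2 : k) ≠ 0) (hs : IsMin G s) (ht : IsMin G t)
    (hst : s * t * s = 0) (h0 : s * t - t * s = 0) : ⁅esub G s, esub G t⁆ = ⊥ := by
  have hts := tst_eq_zero h2 hs ht hst
  refine commutator_eq_bot_of_commute fun u hu v hv => ?_
  obtain ⟨x, hx, rfl⟩ := (mem_sameAction_iff hs).1 hu
  obtain ⟨y, hy, rfl⟩ := (mem_sameAction_iff ht).1 hv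
  have hxyx := triple_zero_congr hst hs hx hx hy ht h2
  have hyxy := triple_zero_congr hts ht hy hy hx hs h2
  have hzero : x * y - y * x = 0 := by
    by_contra hne
    rcases eq_or_ne x 0 with rfl | hx0
    · simp at hne
    rcases eq_or_ne y 0 with rfl | hy0
    · simp at hne
    obtain ⟨hmx, -, -⟩ := cls_min hs hx hx0
    obtain ⟨hmy, -, -⟩ := cls_min ht hy hy0
    have := (comm_all h2 hmx hmy hxyx hne (x := s) (y := t)
      (by rw [cls_eq hs hx hx0]; exact self_mem_cls hs.1)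
      (by rw [cls_eq ht hy hy0]; exact self_mem_cls ht.1)).2.2.1 h0
    exact this.elim hs.2.1 ht.2.1
  have h := comm_tt hx.1.1 hy.1.1 hxyx hyxy
  rw [hzero, tt_zero, mul_inv_eq_one, mul_inv_eq_iff_eq_mul] at h
  exact h

theorem esub_commutator_case (h2 : (2 : k) ≠ 0) (h3 : Nat.card k ≠ 3) (hG : Cfsg.IsQuadraticPair G)
    (hs : IsMin G s) (ht : IsMin G t) (hst : s * t * s = 0) (h0 : s * t - t * s ≠ 0) :
    ⁅esub G s, esub G t⁆ = esub G (s * t - t * s) ∧ IsMin G (s * t - t * s) ∧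
      Cfsg.RootCommutatorCase (Cfsg.quadraticRootSubgroups G) (esub G s) (esub G t) := by
  have hts := tst_eq_zero h2 hs ht hst
  obtain ⟨hδ, -, -, hR, hK⟩ := comm_all h2 hs ht hst h0 (self_mem_cls hs.1) (self_mem_cls ht.1)
  set δ := s * t - t * s with hδdef
  have hcomm : ∀ x ∈ cls G s, ∀ y ∈ cls G t,
      tt x * tt y * (tt x)⁻¹ * (tt y)⁻¹ = tt (x * y - y * x) := fun x hx y hy =>
    comm_tt hx.1.1 hy.1.1 (triple_zero_congr hst hs hx hx hy ht h2)
      (triple_zero_congr hts ht hy hy hx hs h2)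
  have hmemD : ∀ x ∈ cls G s, ∀ y ∈ cls G t, x * y - y * x ∈ cls G δ := fun x hx y hy =>
    (comm_all h2 hs ht hst h0 hx hy).2.1
  have hδ' : t * s - s * t ≠ 0 := fun e => h0 (by rw [hδdef, ← neg_sub, e, neg_zero])
  have hleft : ∀ x ∈ cls G s, x ≠ 0 →
      Subgroup.closure ((fun f : LinearMap.GeneralLinearGroup k M => tt x * f * (tt x)⁻¹ * f⁻¹) ''
        (esub G t : Set _)) = esub G δ := by
    intro x hx hx0
    refine le_antisymm ((Subgroup.closure_le _).2 ?_) ?_
    · rintro _ ⟨f, hf, rfl⟩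
      obtain ⟨y, hy, rfl⟩ := (mem_sameAction_iff ht).1 hf
      show _ * _ * _ * _ ∈ esub G δ
      rw [hcomm x hx y hy]
      exact tt_esub hδ (hmemD x hx y hy)
    · intro σ hσ
      obtain ⟨z, hz, rfl⟩ := (mem_sameAction_iff hδ).1 hσ
      obtain ⟨y, hy, he⟩ := exists_comm_eq h2 h3 hG hs ht hst h0 hx hx0 hz
      refine Subgroup.subset_closure ⟨tt y, tt_esub ht hy, ?_⟩
      show _ * _ * _ * _ = _
      rw [hcomm x hx y hy, he]
  have hright : ∀ y ∈ cls G t, y ≠ 0 →
      Subgroup.closure ((fun e : LinearMap.GeneralLinearGroup k M => e * tt y * e⁻¹ * (tt y)⁻¹) ''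
        (esub G s : Set _)) = esub G δ := by
    intro y hy hy0
    refine le_antisymm ((Subgroup.closure_le _).2 ?_) ?_
    · rintro _ ⟨f, hf, rfl⟩
      obtain ⟨x, hx, rfl⟩ := (mem_sameAction_iff hs).1 hf
      show _ * _ * _ * _ ∈ esub G δ
      rw [hcomm x hx y hy]
      exact tt_esub hδ (hmemD x hx y hy)
    · intro σ hσ
      obtain ⟨z, hz, rfl⟩ := (mem_sameAction_iff hδ).1 hσ
      have hz' : -z ∈ cls G (t * s - s * t) := by
        rw [← neg_sub, ← hδdef, cls_eq hδ (neg_mem (self_mem_cls hδ.1)) (neg_ne_zero.2 h0)]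
        exact neg_mem hz
      obtain ⟨x, hx, he⟩ := exists_comm_eq h2 h3 hG ht hs hts hδ' hy hy0 hz'
      refine Subgroup.subset_closure ⟨tt x, tt_esub hs hx, ?_⟩
      show _ * _ * _ * _ = _
      rw [hcomm x hx y hy, ← neg_sub, he, neg_neg]
  have hEF : ⁅esub G s, esub G t⁆ = esub G δ := by
    refine le_antisymm (Subgroup.commutator_le.2 fun u hu v hv => ?_) ?_
    · obtain ⟨x, hx, rfl⟩ := (mem_sameAction_iff hs).1 hu
      obtain ⟨y, hy, rfl⟩ := (mem_sameAction_iff ht).1 hv
      rw [commutatorElement_def, hcomm x hx y hy]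
      exact tt_esub hδ (hmemD x hx y hy)
    · rw [← hleft s (self_mem_cls hs.1) hs.2.1, Subgroup.closure_le]
      rintro _ ⟨f, hf, rfl⟩
      exact Subgroup.commutator_mem_commutator (tt_esub hs (self_mem_cls hs.1)) hf
  refine ⟨hEF, hδ, ?_⟩
  rw [Cfsg.RootCommutatorCase, hEF]
  refine ⟨esub_mem hδ, ?_, ?_, ?_⟩
  · intro c hc g hg
    -- `cls δ` annihilates both classes from both sides
    have key : ∀ {u : M →ₗ[k] M}, IsMin G u → LinearMap.range u ≤ kerC s t →
        rangeC s t ≤ LinearMap.ker u → ∀ g ∈ esub G u, ∀ c ∈ esub G δ, g * c = c * g := by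
      intro u hu hr hk g hg c hc
      obtain ⟨z, hz, rfl⟩ := (mem_sameAction_iff hδ).1 hc
      obtain ⟨x, hx, rfl⟩ := (mem_sameAction_iff hu).1 hg
      have hzx : z * x = 0 := LinearMap.ext fun v => LinearMap.mem_ker.1
        (hz.2.1 (hK.symm ▸ hr (hx.2.2 ⟨v, rfl⟩).1))
      have hxz : x * z = 0 := LinearMap.ext fun v => LinearMap.mem_ker.1
        (hx.2.1 (hk (hR ▸ (hz.2.2 ⟨v, rfl⟩).1)))
      rw [← tt_add hx.1.1 hz.1.1 hxz hzx, ← tt_add hz.1.1 hx.1.1 hzx hxz, add_comm]
    have hsk : LinearMap.range s ≤ LinearMap.ker s :=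
      (self_mem_cls hs.1).2.2.trans inf_le_right
    have htk : LinearMap.range t ≤ LinearMap.ker t :=
      (self_mem_cls ht.1).2.2.trans inf_le_right
    have hle : esub G s ⊔ esub G t ≤ Subgroup.centralizer (esub G δ : Set _) := by
      refine sup_le (fun g hg => ?_) (fun g hg => ?_) <;> rw [Subgroup.mem_centralizer_iff] <;>
        intro c hc
      · exact (key hs (le_inf le_sup_right (hsk.trans le_sup_left))
          (sup_le (inf_le_left.trans hsk) inf_le_right) g hg c hc).symm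
      · exact (key ht (le_inf (htk.trans le_sup_left) le_sup_right)
          (sup_le inf_le_right (inf_le_left.trans htk)) g hg c hc).symm
    exact Subgroup.mem_centralizer_iff.1 (hle hg) c hc
  · intro e he he1
    obtain ⟨x, hx, rfl⟩ := (mem_sameAction_iff hs).1 he
    exact hleft x hx fun h => he1 (by rw [h, tt_zero])
  · intro f hf hf1
    obtain ⟨y, hy, rfl⟩ := (mem_sameAction_iff ht).1 hf
    exact hright y hy fun h => hf1 (by rw [h, tt_zero])

/-- The three cases. -/
theorem esub_pair (h2 : (2 : k) ≠ 0) (h3 : Nat.card k ≠ 3) (hG : Cfsg.IsQuadraticPair G)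
    (hs : IsMin G s) (ht : IsMin G t) :
    ⁅esub G s, esub G t⁆ = ⊥ ∨ Cfsg.IsRankOnePair (esub G s) (esub G t) ∨
      Cfsg.RootCommutatorCase (Cfsg.quadraticRootSubgroups G) (esub G s) (esub G t) := by
  by_cases hst : s * t * s = 0
  · by_cases h0 : s * t - t * s = 0
    · exact Or.inl (esub_commute_of_zero h2 hs ht hst h0)
    · exact Or.inr (Or.inr (esub_commutator_case h2 h3 hG hs ht hst h0).2.2)
  · exact Or.inr (Or.inl (special_pair h2 h3 hs ht hst).1)

theorem conjBy_mem_rootSubgroups {A : Subgroup (LinearMap.GeneralLinearGroup k M)}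
    (hA : A ∈ Cfsg.quadraticRootSubgroups G) {g : LinearMap.GeneralLinearGroup k M} (hg : g ∈ G) :
    Cfsg.conjBy A g ∈ Cfsg.quadraticRootSubgroups G := by
  obtain ⟨s, hs, rfl⟩ := mem_rootSubgroups_iff.1 hA
  rw [conjBy_esub hg hs]
  exact esub_mem (hs.conj hg)

theorem exists_rankOne_partner (h2 : (2 : k) ≠ 0) (h3 : Nat.card k ≠ 3) (hG : Cfsg.IsQuadraticPair G)
    {A : Subgroup (LinearMap.GeneralLinearGroup k M)} (hA : A ∈ Cfsg.quadraticRootSubgroups G) :
    ∃ B ∈ Cfsg.quadraticRootSubgroups G, Cfsg.IsRankOnePair A B := by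
  obtain ⟨s, hs, rfl⟩ := mem_rootSubgroups_iff.1 hA
  obtain ⟨g, hg, hne⟩ := exists_opposite h2 hG hs
  exact ⟨_, esub_mem (hs.conj hg), (special_pair h2 h3 hs (hs.conj hg) hne).1⟩

/-! ### Inside the generated subgroup -/

section Transfer

variable {H K : Type*} [Group H] [Group K] {f : H →* K}

theorem conjBy_map (A : Subgroup H) (h : H) :
    Cfsg.conjBy (A.map f) (f h) = (Cfsg.conjBy A h).map f := by
  ext y
  rw [mem_conjBy]
  constructor
  · rintro ⟨c, hc, he⟩
    refine ⟨h * c * h⁻¹, conj_mem_conjBy hc, ?_⟩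
    rw [map_mul, map_mul, map_inv, he]; group
  · rintro ⟨c, hc, rfl⟩
    exact ⟨h⁻¹ * c * h, mem_conjBy.1 hc, by simp⟩

theorem rankOne_of_map (hf : Function.Injective f) {A B : Subgroup H}
    (h : Cfsg.IsRankOnePair (A.map f) (B.map f)) : Cfsg.IsRankOnePair A B := by
  have hcond : ∀ {A B : Subgroup H}, Cfsg.RankOneCondition (A.map f) (B.map f) →
      Cfsg.RankOneCondition A B := by
    intro A B hc a ha ha1
    obtain ⟨_, ⟨b, hb, rfl⟩, hb1, he⟩ := hc (f a) ⟨a, ha, rfl⟩
      (fun e => ha1 (hf (by rw [e, map_one])))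
    refine ⟨b, hb, fun e => hb1 (by rw [e, map_one]), Subgroup.map_injective hf ?_⟩
    rw [← conjBy_map, ← conjBy_map, map_inv, map_inv, he]
  have hnil : ∀ {A : Subgroup H}, Group.IsNilpotent (A.map f) → Group.IsNilpotent A := by
    intro A hA
    haveI := hA
    exact Group.nilpotent_of_surjective (A.equivMapOfInjective f hf).symm.toMonoidHom
      (A.equivMapOfInjective f hf).symm.surjective
  exact ⟨fun e => h.ne (by rw [e]), hnil h.nilpotent_left, hnil h.nilpotent_right,
    hcond h.cond_left, hcond h.cond_right⟩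

theorem rootCase_of_map (hf : Function.Injective f) {S : Set (Subgroup H)} {S' : Set (Subgroup K)}
    (hS : ∀ A : Subgroup H, A.map f ∈ S' → A ∈ S) {A B : Subgroup H}
    (h : Cfsg.RootCommutatorCase S' (A.map f) (B.map f)) : Cfsg.RootCommutatorCase S A B := by
  obtain ⟨h1, h2, h3, h4⟩ := h
  rw [← Subgroup.map_commutator] at h1 h2 h3 h4
  refine ⟨hS _ h1, fun c hc x hx => hf ?_, fun a ha ha1 => Subgroup.map_injective hf ?_,
    fun b hb hb1 => Subgroup.map_injective hf ?_⟩
  · rw [map_mul, map_mul]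
    exact h2 (f c) ⟨c, hc, rfl⟩ (f x) (by rw [← Subgroup.map_sup]; exact ⟨x, hx, rfl⟩)
  · rw [MonoidHom.map_closure, ← h3 (f a) ⟨a, ha, rfl⟩ (fun e => ha1 (hf (by rw [e, map_one]))),
      Subgroup.coe_map, Set.image_image, Set.image_image]
    simp
  · rw [MonoidHom.map_closure, ← h4 (f b) ⟨b, hb, rfl⟩ (fun e => hb1 (hf (by rw [e, map_one]))),
      Subgroup.coe_map, Set.image_image, Set.image_image]
    simp

end Transfer

variable (G) in
/-- The subgroup generated by all `E(σ)`. -/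
noncomputable abbrev rootSpan : Subgroup (LinearMap.GeneralLinearGroup k M) :=
  ⨆ B ∈ Cfsg.quadraticRootSubgroups G, B

theorem rootSpan_le : rootSpan G ≤ G := iSup₂_le fun A hA => by
  obtain ⟨s, hs, rfl⟩ := mem_rootSubgroups_iff.1 hA
  exact esub_le hs

theorem isRootSubgroupSet_rootSpan (h2 : (2 : k) ≠ 0) (h3 : Nat.card k ≠ 3)
    (hG : Cfsg.IsQuadraticPair G) :
    Cfsg.IsRootSubgroupSet ((fun A : Subgroup (LinearMap.GeneralLinearGroup k M) =>
      A.subgroupOf (rootSpan G)) '' Cfsg.quadraticRootSubgroups G) := by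
  have hle : ∀ A ∈ Cfsg.quadraticRootSubgroups G, A ≤ rootSpan G := fun A hA =>
    le_iSup₂ (f := fun A (_ : A ∈ Cfsg.quadraticRootSubgroups G) => A) A hA
  have hmap : ∀ A ∈ Cfsg.quadraticRootSubgroups G,
      (A.subgroupOf (rootSpan G)).map (rootSpan G).subtype = A := fun A hA => by
    rw [Subgroup.subgroupOf_map_subtype, inf_eq_left.2 (hle A hA)]
  have hinj : Function.Injective (rootSpan G).subtype := Subtype.val_injective
  have hmem : ∀ A : Subgroup (rootSpan G), A.map (rootSpan G).subtype ∈ Cfsg.quadraticRootSubgroups G →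
      A ∈ (fun A : Subgroup (LinearMap.GeneralLinearGroup k M) => A.subgroupOf (rootSpan G)) ''
        Cfsg.quadraticRootSubgroups G := fun A hA =>
    ⟨_, hA, Subgroup.comap_map_eq_self_of_injective hinj A⟩
  constructor
  · rintro _ ⟨A, hA, rfl⟩
    obtain ⟨s, hs, rfl⟩ := mem_rootSubgroups_iff.1 hA
    refine ⟨⟨fun a b => Subtype.ext (Subtype.ext ?_)⟩⟩
    show a.1.1 * b.1.1 = b.1.1 * a.1.1
    exact congrArg Subtype.val ((esub_comm hs).is_comm.comm
      (⟨a.1.1, a.2⟩ : esub G s) ⟨b.1.1, b.2⟩)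
  · rintro _ ⟨A, hA, rfl⟩ hbot
    obtain ⟨s, hs, rfl⟩ := mem_rootSubgroups_iff.1 hA
    refine esub_ne_bot hs ?_
    have := hmap _ hA
    beta_reduce at hbot
    rwa [hbot, Subgroup.map_bot, eq_comm] at this
  · refine Subgroup.map_injective hinj ?_
    rw [← MonoidHom.range_eq_map, Subgroup.range_subtype, iSup_image, Subgroup.map_iSup]
    refine le_antisymm (iSup_le fun A => ?_) (iSup₂_le fun A hA => ?_)
    · rw [Subgroup.map_iSup]
      exact iSup_le fun hA => (hmap A hA).le.trans (hle A hA)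
    · refine le_iSup_of_le A ?_
      rw [Subgroup.map_iSup]
      exact le_iSup_of_le hA (hmap A hA).ge
  · rintro _ ⟨A, hA, rfl⟩ g
    refine hmem _ ?_
    rw [← conjBy_map, hmap A hA]
    exact conjBy_mem_rootSubgroups hA (rootSpan_le g.2)
  · rintro _ ⟨A, hA, rfl⟩ _ ⟨B, hB, rfl⟩
    obtain ⟨s, hs, rfl⟩ := mem_rootSubgroups_iff.1 hA
    obtain ⟨t, ht, rfl⟩ := mem_rootSubgroups_iff.1 hB
    rcases esub_pair h2 h3 hG hs ht with h | h | h
    · refine Or.inl (Subgroup.map_injective hinj ?_)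
      rw [Subgroup.map_commutator, hmap _ hA, hmap _ hB, h, Subgroup.map_bot]
    · refine Or.inr (Or.inl (rankOne_of_map hinj ?_))
      rwa [hmap _ hA, hmap _ hB]
    · refine Or.inr (Or.inr (rootCase_of_map hinj hmem ?_))
      rwa [hmap _ hA, hmap _ hB]

theorem mul_mul_ne_of_rankOne (h2 : (2 : k) ≠ 0) (h3 : Nat.card k ≠ 3) (hG : Cfsg.IsQuadraticPair G)
    (hs : IsMin G s) (ht : IsMin G t) (hp : Cfsg.IsRankOnePair (esub G s) (esub G t)) :
    s * t * s ≠ 0 := by
  intro hst
  by_cases h0 : s * t - t * s = 0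
  · exact rankOne_commutator_ne_bot hp (esub_commute_of_zero h2 hs ht hst h0)
  · have hcase := (esub_commutator_case h2 h3 hG hs ht hst h0).2.2
    set X := rootSpan G
    have hle : ∀ A ∈ Cfsg.quadraticRootSubgroups G, A ≤ X := fun A hA =>
      le_iSup₂ (f := fun A (_ : A ∈ Cfsg.quadraticRootSubgroups G) => A) A hA
    have hmap : ∀ A ∈ Cfsg.quadraticRootSubgroups G, (A.subgroupOf X).map X.subtype = A :=
      fun A hA => by rw [Subgroup.subgroupOf_map_subtype, inf_eq_left.2 (hle A hA)]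
    have hinj : Function.Injective X.subtype := Subtype.val_injective
    refine rootCase_not_rankOne (isRootSubgroupSet_rootSpan h2 h3 hG)
      ⟨_, esub_mem hs, rfl⟩ ⟨_, esub_mem ht, rfl⟩ (rootCase_of_map (S' := Cfsg.quadraticRootSubgroups G) hinj ?_ ?_) (rankOne_of_map hinj ?_)
    · exact fun A hA => ⟨_, hA, Subgroup.comap_map_eq_self_of_injective hinj A⟩
    · rwa [hmap _ (esub_mem hs), hmap _ (esub_mem ht)]
    · rwa [hmap _ (esub_mem hs), hmap _ (esub_mem ht)]

/-- A rank one pair contains an image of `SL₂` of a field of more than three elements. -/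
theorem exists_sl2 {k : Type*} [Field k] {M : Type*} [AddCommGroup M] [Module k M]
    [FiniteDimensional k M] {G : Subgroup (LinearMap.GeneralLinearGroup k M)} {s t : M →ₗ[k] M}
    (h2 : (2 : k) ≠ 0) (h3 : Nat.card k ≠ 3) (hs : IsMin G s) (ht : IsMin G t)
    (hst : s * t * s ≠ 0) :
    ∃ D : Corner s t, ∃ h : IsField D.R,
      let _ : Field D.R := h.toField
      3 < ENat.card D.R ∧
      ∃ A₀ B₀ : Subgroup (LinearMap.GeneralLinearGroup k M), A₀ ≤ esub G s ∧ B₀ ≤ esub G t ∧
        Cfsg.IsPSL2PairOver D.R A₀ B₀ := by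
  obtain ⟨⟨D, hfield, hes, het, hrange⟩⟩ := exists_opp h2 h3 hs ht hst
  refine ⟨D, hfield, ?_⟩
  let _ : Field D.R := hfield.toField
  have hG' : ∀ γ, D.rep γ ∈ G := fun γ =>
    pairGroup_le hs.1 ht.1 (hrange ▸ ⟨γ, rfl⟩)
  have hUval : ∀ x : D.R, D.j x * s ∈ cls G s := by
    intro x
    have hsq : ∀ x : D.R, (D.j x * s) * (D.j x * s) = 0 := fun x => by
      rw [show (D.j x * s) * (D.j x * s) = D.j x * (s * D.j x) * s by noncomm_ring,
        ← D.j_comm D.z_s, mul_assoc, mul_assoc, hs.1.1, mul_zero, mul_zero]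
    have hle : LinearMap.range (D.j x * s) ≤ LinearMap.range s := by
      rw [D.j_comm D.z_s]; exact LinearMap.range_comp_le_range _ _
    refine ⟨⟨hsq x, fun c => ?_⟩, fun v hv => ?_, le_inf hle
      (hle.trans ((self_mem_cls hs.1).2.2.trans inf_le_right))⟩
    · have e : c • (D.j x * s) = D.j (algebraMap k D.R c * x) * s := by
        rw [D.j_mul, D.j_algebraMap, smul_mul_assoc, ← D.j_one, ← D.j_mul, one_mul, smul_mul_assoc]
      rw [e, ← D.rep_U]
      exact hG' _
    · rw [LinearMap.mem_ker, mul_apply', LinearMap.mem_ker.1 hv, map_zero]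
  have hLrep : ∀ x : D.R, D.rep (RingSL2.L x) = tt (D.j x * D.w * t) := by
    intro x
    refine Units.ext ?_
    have hsq : (D.j x * D.w * t) * (D.j x * D.w * t) = 0 := by
      rw [show (D.j x * D.w * t) * (D.j x * D.w * t) = D.j x * D.w * (t * D.j x) * D.w * t by noncomm_ring,
        ← D.j_comm D.z_t, show D.j x * D.w * (D.j x * t) * D.w * t = D.j x * D.w * D.j x * (t * D.w) * t
          by noncomm_ring, ← D.w_t, mul_assoc _ (D.w * t), mul_assoc D.w, ht.1.1, mul_zero, mul_zero]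
    rw [D.rep_val, D.B_L, tt_val hsq, Corner.P10, mul_assoc D.w t D.e, ← D.e_t, het, ← mul_assoc]
    abel
  have hLval : ∀ x : D.R, D.j x * D.w * t ∈ cls G t := by
    intro x
    have hle : LinearMap.range (D.j x * D.w * t) ≤ LinearMap.range t := by
      rw [mul_assoc, D.w_t, ← mul_assoc, D.j_comm D.z_t, mul_assoc]
      exact LinearMap.range_comp_le_range _ _
    refine ⟨⟨?_, fun c => ?_⟩, fun v hv => ?_, le_inf hle
      (hle.trans ((self_mem_cls ht.1).2.2.trans inf_le_right))⟩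
    · rw [show (D.j x * D.w * t) * (D.j x * D.w * t) = D.j x * D.w * (t * D.j x) * D.w * t by noncomm_ring,
        ← D.j_comm D.z_t, show D.j x * D.w * (D.j x * t) * D.w * t = D.j x * D.w * D.j x * (t * D.w) * t
          by noncomm_ring, ← D.w_t, mul_assoc _ (D.w * t), mul_assoc D.w, ht.1.1, mul_zero, mul_zero]
    · have e : c • (D.j x * D.w * t) = D.j (algebraMap k D.R c * x) * D.w * t := by
        rw [D.j_mul, D.j_algebraMap, smul_mul_assoc, ← D.j_one, ← D.j_mul, one_mul, smul_mul_assoc,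
          smul_mul_assoc]
      rw [e, ← hLrep]
      exact hG' _
    · rw [LinearMap.mem_ker, mul_apply', LinearMap.mem_ker.1 hv, map_zero]
  refine ⟨?_, (Cfsg.upperUnipotentSL2 D.R).map D.rep, (Cfsg.lowerUnipotentSL2 D.R).map D.rep,
    ?_, ?_, D.rep, ?_, ?_, rfl, rfl⟩
  · have hkinj : Function.Injective (algebraMap k D.R) := (algebraMap k D.R).injective
    refine lt_of_lt_of_le ?_ (ENat.card_le_card_of_injective hkinj)
    rcases finite_or_infinite k with hfin | hinf
    · rw [ENat.card_eq_coe_natCard]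
      have h1 : 1 < Nat.card k := Finite.one_lt_card
      have h4 : Nat.card k ≠ 2 := by
        intro h
        have := @Fintype.ofFinite k hfin
        apply h2
        have h' : ((Fintype.card k : ℕ) : k) = 0 := Nat.cast_card_eq_zero k
        rw [← Nat.card_eq_fintype_card, h] at h'
        exact_mod_cast h'
      exact_mod_cast (by omega : 3 < Nat.card k)
    · rw [ENat.card_eq_top_of_infinite]; exact ENat.coe_lt_top 3
  · rw [Subgroup.map_le_iff_le_comap, Cfsg.upperUnipotentSL2, Subgroup.closure_le]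
    rintro g ⟨g10, g00, g11⟩
    show D.rep g ∈ esub G s
    rw [show g = RingSL2.U (g.1 0 1) from RingSL2.ext g00 rfl g10 g11, D.rep_U]
    exact tt_esub hs (hUval _)
  · rw [Subgroup.map_le_iff_le_comap, Cfsg.lowerUnipotentSL2, Subgroup.closure_le]
    rintro g ⟨g01, g00, g11⟩
    show D.rep g ∈ esub G t
    rw [show g = RingSL2.L (g.1 1 0) from RingSL2.ext g00 g01 rfl g11, hLrep]
    exact tt_esub ht (hLval _)
  · rw [← Subgroup.map_sup, CfsgLib.RootGroups.SL2Image.upper_sup_lower, MonoidHom.range_eq_map]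
  · rw [(MonoidHom.ker_eq_bot_iff _).2 D.rep_injective]
    exact bot_le

end CfsgLib.Quadratic
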