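import Cfsg.Agent.Lib.Quadratic.Basic

/-!
If a quadratic pair is the product of a perfect subgroup and its centralizer, then every quadratic
element lies in one of the two.
-/

set_option autoImplicit false

namespace CfsgLib.Quadratic

variable {k : Type*} [Field k] {M : Type*} [AddCommGroup M] [Module k M]
  {G H : Subgroup (LinearMap.GeneralLinearGroup k M)}

theorem val_comm {g h : LinearMap.GeneralLinearGroup k M} (e : g * h = h * g) :
    g.1 * h.1 = h.1 * g.1 := by
  rw [← Units.val_mul, e, Units.val_mul]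

/-- The set product of two commuting subgroups. -/
theorem exists_mul_of_mem_sup {X : Type*} [Group X] {A B : Subgroup X}
    (hAB : B ≤ Subgroup.centralizer (A : Set X)) {g : X} (hg : g ∈ A ⊔ B) :
    ∃ a ∈ A, ∃ b ∈ B, g = a * b := by
  have hn : B ≤ Subgroup.normalizer (A : Set X) := hAB.trans (Subgroup.centralizer_le_normalizer _)
  have h : g ∈ ((A ⊔ B : Subgroup X) : Set X) := hg
  rw [Subgroup.coe_mul_of_right_le_normalizer_left A B hn] at h
  obtain ⟨a, ha, b, hb, rfl⟩ := h
  exact ⟨a, ha, b, hb, rfl⟩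

/-- A subspace meeting what is needed: an endomorphism commuting with `H` that kills a non-zero
subspace invariant under the rest of an irreducible group is zero. -/
theorem eq_zero_of_kills (hirr : Cfsg.IsIrreducibleFor G) {A B : Subgroup (LinearMap.GeneralLinearGroup k M)}
    (hAB : B ≤ Subgroup.centralizer (A : Set (LinearMap.GeneralLinearGroup k M))) (hG : G ≤ A ⊔ B)
    {f : M →ₗ[k] M} (hf : ∀ a ∈ A, f * a.1 = a.1 * f) {N : Submodule k M} (hN0 : N ≠ ⊥)
    (hN : ∀ b ∈ B, ∀ v ∈ N, b.1 v ∈ N) (hfN : ∀ v ∈ N, f v = 0) : f = 0 := by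
  let W : Submodule k M := ⨅ b ∈ B, (LinearMap.ker f).comap b.1
  have hWm : ∀ m, m ∈ W ↔ ∀ b ∈ B, f (b.1 m) = 0 := fun m => by simp [W]
  have hWB : ∀ b ∈ B, ∀ m ∈ W, b.1 m ∈ W := by
    intro b hb m hm
    rw [hWm] at hm ⊢
    intro b' hb'
    have := hm (b' * b) (mul_mem hb' hb)
    rwa [Units.val_mul] at this
  have hWA : ∀ a ∈ A, ∀ m ∈ W, a.1 m ∈ W := by
    intro a ha m hm
    rw [hWm] at hm ⊢
    intro b hb
    have e := val_comm (Subgroup.mem_centralizer_iff.1 (hAB hb) a ha)
    calc f (b.1 (a.1 m)) = (f * (b.1 * a.1)) m := rfl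
      _ = ((f * a.1) * b.1) m := by rw [← e, mul_assoc]
      _ = a.1 (f (b.1 m)) := by rw [hf a ha]; rfl
      _ = 0 := by rw [hm b hb, map_zero]
  have hle : N ≤ W := fun v hv => (hWm v).2 fun b hb => hfN _ (hN b hb v hv)
  rcases hirr.2 W (fun g hg m hm => by
    obtain ⟨a, ha, b, hb, rfl⟩ := exists_mul_of_mem_sup hAB (hG hg)
    exact hWA a ha _ (hWB b hb m hm)) with h | h
  · exact absurd (le_bot_iff.1 (h ▸ hle)) hN0
  · refine LinearMap.ext fun m => ?_
    have := (hWm m).1 (h ▸ Submodule.mem_top) 1 (one_mem B)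
    exact this

/-- A quadratic product of two commuting elements: one of them is central in its factor. -/
theorem central_or_central (h2 : (2 : k) ≠ 0) (hirr : Cfsg.IsIrreducibleFor G)
    {C : Subgroup (LinearMap.GeneralLinearGroup k M)}
    (hHC : C ≤ Subgroup.centralizer (H : Set (LinearMap.GeneralLinearGroup k M))) (hG : G ≤ H ⊔ C)
    {a b : LinearMap.GeneralLinearGroup k M} (ha : a ∈ H) (hb : b ∈ C)
    (hq : (a.1 * b.1 - 1) * (a.1 * b.1 - 1) = 0) :
    (∀ u ∈ H, u * a = a * u) ∨ (∀ v ∈ C, v * b = b * v) := by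
  by_contra hcon
  push Not at hcon
  obtain ⟨⟨u, hu, hua⟩, v, hv, hvb⟩ := hcon
  have cHC : ∀ {p q : LinearMap.GeneralLinearGroup k M}, p ∈ H → q ∈ C → p.1 * q.1 = q.1 * p.1 :=
    fun hp hq => val_comm (Subgroup.mem_centralizer_iff.1 (hHC hq) _ hp)
  have hab := cHC ha hb
  have hrel : a.1 * a.1 * b.1 * b.1 - (2 : k) • (a.1 * b.1) + 1 = 0 := by
    rw [← hq, two_smul]
    have : a.1 * b.1 * (a.1 * b.1) = a.1 * a.1 * b.1 * b.1 := by
      rw [show a.1 * b.1 * (a.1 * b.1) = a.1 * (b.1 * a.1) * b.1 by noncomm_ring, ← hab]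
      noncomm_ring
    rw [← this]
    noncomm_ring
  -- derivation by an element of `H`
  have key : ∀ u ∈ H, (u.1 * (a.1 * a.1) - a.1 * a.1 * u.1) * b.1 = (2 : k) • (u.1 * a.1 - a.1 * u.1) := by
    intro u hu
    have hub := cHC hu hb
    have h0 : u.1 * (a.1 * a.1 * b.1 * b.1 - (2 : k) • (a.1 * b.1) + 1) -
        (a.1 * a.1 * b.1 * b.1 - (2 : k) • (a.1 * b.1) + 1) * u.1 = 0 := by
      rw [hrel, mul_zero, zero_mul, sub_zero]
    have h1 : ((u.1 * (a.1 * a.1) - a.1 * a.1 * u.1) * b.1 - (2 : k) • (u.1 * a.1 - a.1 * u.1)) * b.1 = 0 := by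
      have e1 : a.1 * a.1 * b.1 * b.1 * u.1 = a.1 * a.1 * u.1 * b.1 * b.1 := by
        rw [show a.1 * a.1 * b.1 * b.1 * u.1 = a.1 * a.1 * b.1 * (b.1 * u.1) by noncomm_ring, ← hub,
          show a.1 * a.1 * b.1 * (u.1 * b.1) = a.1 * a.1 * (b.1 * u.1) * b.1 by noncomm_ring, ← hub]
        noncomm_ring
      have e2 : a.1 * b.1 * u.1 = a.1 * u.1 * b.1 := by rw [mul_assoc, ← hub, ← mul_assoc]
      rw [← h0]
      simp only [two_smul, mul_add, add_mul, mul_sub, sub_mul, mul_one, one_mul, e1, e2]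
      noncomm_ring
    have h3 := congrArg (fun z => z * b⁻¹.1) h1
    simp only [zero_mul] at h3
    rw [mul_assoc, Units.mul_inv, mul_one, sub_eq_zero] at h3
    exact h3
  -- hence the commutator of `b` is killed
  let E : M →ₗ[k] M := v.1 * b.1 - b.1 * v.1
  have hE0 : E ≠ 0 := fun e => hvb (Units.ext (by rwa [Units.val_mul, Units.val_mul, ← sub_eq_zero]))
  have hkill : ∀ w ∈ H, (w.1 * (a.1 * a.1) - a.1 * a.1 * w.1) * E = 0 := by
    intro w hw
    have hva := cHC ha hv
    have hvw := cHC hw hv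
    have hT : ∀ {y : LinearMap.GeneralLinearGroup k M}, y ∈ H → y.1 * v.1 = v.1 * y.1 := fun hy => cHC hy hv
    set T := w.1 * (a.1 * a.1) - a.1 * a.1 * w.1 with hTdef
    have cw : Commute w.1 v.1 := hT hw
    have ca : Commute a.1 v.1 := hT ha
    have hTv : T * v.1 = v.1 * T := by
      rw [hTdef]
      exact (((cw.mul_left (ca.mul_left ca)).sub_left ((ca.mul_left ca).mul_left cw))).eq
    have hSv : (w.1 * a.1 - a.1 * w.1) * v.1 = v.1 * (w.1 * a.1 - a.1 * w.1) :=
      ((cw.mul_left ca).sub_left (ca.mul_left cw)).eq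
    show T * (v.1 * b.1 - b.1 * v.1) = 0
    rw [mul_sub, ← mul_assoc, hTv, mul_assoc, key w hw, ← mul_assoc T, key w hw, mul_smul_comm,
      smul_mul_assoc, hSv, sub_self]
  have hcomm : ∀ c ∈ H, E * c.1 = c.1 * E := by
    intro c hc
    have cv : Commute v.1 c.1 := (cHC hc hv).symm
    have cb : Commute b.1 c.1 := (cHC hc hb).symm
    exact ((cv.mul_left cb).sub_left (cb.mul_left cv)).eq
  have hz : u.1 * (a.1 * a.1) - a.1 * a.1 * u.1 = 0 := by
    set T := u.1 * (a.1 * a.1) - a.1 * a.1 * u.1 with hT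
    refine eq_zero_of_kills hirr (A := C) (B := H) (N := LinearMap.range E) ?_ (by rwa [sup_comm])
      ?_ (by rwa [ne_eq, LinearMap.range_eq_bot]) ?_ ?_
    · exact Subgroup.le_centralizer_iff.1 hHC
    · intro c hc
      have cu : Commute u.1 c.1 := cHC hu hc
      have ca : Commute a.1 c.1 := cHC ha hc
      rw [hT]
      exact ((cu.mul_left (ca.mul_left ca)).sub_left ((ca.mul_left ca).mul_left cu)).eq
    · rintro c hc _ ⟨m, rfl⟩
      exact ⟨c.1 m, LinearMap.congr_fun (hcomm c hc) m⟩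
    · rintro _ ⟨m, rfl⟩
      exact LinearMap.congr_fun (hkill u hu) m
  have h3 := key u hu
  rw [hz, zero_mul, eq_comm, smul_eq_zero_iff_right h2, sub_eq_zero] at h3
  exact hua (Units.ext h3)

/-- The endomorphisms commuting with `G` and with everything commuting with `G`. -/
noncomputable def scalarsOf (G : Subgroup (LinearMap.GeneralLinearGroup k M)) :
    Subalgebra k (M →ₗ[k] M) :=
  Subalgebra.centralizer k (Units.val '' (G : Set (LinearMap.GeneralLinearGroup k M))) ⊓
    Subalgebra.centralizer k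
      (Subalgebra.centralizer k (Units.val '' (G : Set (LinearMap.GeneralLinearGroup k M))) : Set (M →ₗ[k] M))

theorem scalarsOf_comm {z : M →ₗ[k] M} (hz : z ∈ scalarsOf G) {g : LinearMap.GeneralLinearGroup k M}
    (hg : g ∈ G) : g.1 * z = z * g.1 :=
  (Subalgebra.mem_centralizer_iff k).1 hz.1 g.1 ⟨g, hg, rfl⟩

theorem scalarsOf_mul_comm {y z : M →ₗ[k] M} (hy : y ∈ scalarsOf G) (hz : z ∈ scalarsOf G) :
    y * z = z * y :=
  (Subalgebra.mem_centralizer_iff k).1 hz.2 y hy.1

theorem central_mem_scalarsOf {c : LinearMap.GeneralLinearGroup k M} (hc : c ∈ G)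
    (hcent : ∀ g ∈ G, g * c = c * g) : c.1 ∈ scalarsOf G := by
  refine ⟨(Subalgebra.mem_centralizer_iff k).2 ?_, (Subalgebra.mem_centralizer_iff k).2 fun y hy => ?_⟩
  · rintro _ ⟨g, hg, rfl⟩; exact val_comm (hcent g hg)
  · exact ((Subalgebra.mem_centralizer_iff k).1 hy c.1 ⟨c, hc, rfl⟩).symm

theorem scalarsOf_injective (hirr : Cfsg.IsIrreducibleFor G) {z : M →ₗ[k] M} (hz : z ∈ scalarsOf G)
    (hz0 : z ≠ 0) : Function.Injective z := by
  rcases hirr.2 (LinearMap.ker z) (fun g hg v hv => by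
    rw [LinearMap.mem_ker] at hv ⊢
    calc z (g.1 v) = (z * g.1) v := rfl
      _ = (g.1 * z) v := by rw [scalarsOf_comm hz hg]
      _ = 0 := by show g.1 (z v) = 0; rw [hv, map_zero]) with h | h
  · exact LinearMap.ker_eq_bot.1 h
  · exact absurd (LinearMap.ker_eq_top.1 h) hz0

/-- Some power, prime to the characteristic, of the central part of a family is trivial. -/
theorem exists_pow_eq_one [FiniteDimensional k M] (hirr : Cfsg.IsIrreducibleFor G) (hHG : H ≤ G)
    (hperf : ⁅H, H⁆ = H) :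
    ∃ m : ℕ, (m : k) ≠ 0 ∧ ∀ x : M →ₗ[k] M, Fam G x → ∀ h ∈ H, ∀ c ∈ G, (∀ g ∈ G, g * c = c * g) →
      tt x = h * c → c ^ m = 1 := by
  let L := scalarsOf G
  obtain ⟨v₀, hv₀⟩ := hirr.1
  have : Nontrivial M := ⟨⟨v₀, 0, hv₀⟩⟩
  let iC : CommRing L :=
    { (inferInstance : Ring L) with
      mul_comm := fun a b => Subtype.ext (scalarsOf_mul_comm a.2 b.2) }
  have hF : IsField L := by
    refine ⟨⟨0, 1, zero_ne_one⟩, mul_comm, fun {a} ha => ?_⟩
    have hinj : Function.Injective (LinearMap.mulLeft k a) := by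
      refine (injective_iff_map_eq_zero _).2 fun b hb => ?_
      refine Subtype.ext (LinearMap.ext fun v => scalarsOf_injective hirr a.2 (fun e => ha (Subtype.ext e)) ?_)
      have := congrArg (fun z : L => z.1 v) hb
      simpa using this
    obtain ⟨b, hb⟩ := LinearMap.injective_iff_surjective.1 hinj 1
    exact ⟨b, hb⟩
  let iF : Field L := hF.toField
  have : FiniteDimensional L M := Module.Finite.right k L M
  set n := Module.finrank L M with hn
  have hn0 : n ≠ 0 := Nat.pos_iff_ne_zero.1 Module.finrank_pos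
  -- elements of `G` are linear over `L`
  let lin : ∀ f : M →ₗ[k] M, (∀ z ∈ L, f * z = z * f) → M →ₗ[L] M := fun f hf =>
    { toFun := f
      map_add' := map_add f
      map_smul' := fun z v => LinearMap.congr_fun (hf z.1 z.2) v }
  let φ : H →* (M →ₗ[L] M) :=
    { toFun := fun h => lin h.1.1 fun z hz => scalarsOf_comm hz (hHG h.2)
      map_one' := LinearMap.ext fun v => rfl
      map_mul' := fun a b => LinearMap.ext fun v => rfl }
  let δ : H →* Lˣ := (LinearMap.det.comp φ).toHomUnits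
  have hδ : ∀ h : H, LinearMap.det (φ h) = 1 := by
    intro h
    have hle : commutator H ≤ δ.ker := Abelianization.commutator_subset_ker δ
    have hmap : (commutator H).map H.subtype = H := by rw [Subgroup.map_subtype_commutator, hperf]
    have hh : (h : LinearMap.GeneralLinearGroup k M) ∈ (commutator H).map H.subtype := by
      rw [hmap]; exact h.2
    obtain ⟨h', hh', e⟩ := hh
    obtain rfl : h' = h := Subtype.ext e
    exact congrArg Units.val (hle hh')
  have key : ∀ x : M →ₗ[k] M, Fam G x → ∀ h ∈ H, ∀ c ∈ G, (∀ g ∈ G, g * c = c * g) →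
      tt x = h * c → ∀ hcL : c.1 ∈ L, (⟨c.1, hcL⟩ : L) ^ n = 1 := by
    intro x hx h hh c hc hcent e hcL
    have hxlin : ∀ z ∈ L, x * z = z * x := by
      intro z hz
      have h1 := scalarsOf_comm hz hx.tt_mem
      rw [tt_val hx.1, add_mul, mul_add, one_mul, mul_one] at h1
      exact add_left_cancel h1
    set X := lin x hxlin with hX
    have hXsq : IsNilpotent X := ⟨2, by
      rw [pow_two]
      exact LinearMap.ext fun v => LinearMap.congr_fun hx.1 v⟩
    have hdet : LinearMap.det (1 + X) = 1 := by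
      have h1 := LinearMap.eval_charpoly X (-1)
      rw [IsNilpotent.charpoly_eq_X_pow_finrank hXsq, Polynomial.eval_pow, Polynomial.eval_X] at h1
      have h2 : algebraMap L (Module.End L M) (-1) - X = (-1 : L) • (1 + X) := by
        rw [Algebra.algebraMap_eq_smul_one, smul_add, neg_one_smul, neg_one_smul, sub_eq_add_neg]
      rw [h2, LinearMap.det_smul] at h1
      exact (mul_eq_left₀ (pow_ne_zero _ (neg_ne_zero.2 one_ne_zero))).1 h1.symm
    have e2 : φ ⟨h, hh⟩ * ((⟨c.1, hcL⟩ : L) • (1 : M →ₗ[L] M)) = 1 + X := by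
      refine LinearMap.ext fun v => ?_
      have := LinearMap.congr_fun (congrArg Units.val e) v
      rw [tt_val hx.1] at this
      exact this.symm
    have e3 := congrArg LinearMap.det e2
    rw [map_mul, hδ, one_mul, LinearMap.det_smul, map_one, mul_one, hdet] at e3
    exact e3
  by_cases hnk : (n : k) = 0
  swap
  · refine ⟨n, hnk, fun x hx h hh c hc hcent e => Units.ext ?_⟩
    have := key x hx h hh c hc hcent e (central_mem_scalarsOf hc hcent)
    have := congrArg Subtype.val this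
    simpa using this
  · set p := ringChar k with hp
    have hp0 : p ≠ 0 := fun h0 => by
      have := (ringChar.spec k n).1 hnk
      rw [← hp, h0, zero_dvd_iff] at this
      exact hn0 this
    have : CharP k p := ringChar.charP k
    have hpp : p.Prime := (CharP.char_is_prime_or_zero k p).resolve_right hp0
    have : Fact p.Prime := ⟨hpp⟩
    obtain ⟨e, m, hm, hnm⟩ := Nat.exists_eq_pow_mul_and_not_dvd hn0 p hpp.ne_one
    refine ⟨m, fun h0 => hm ((CharP.cast_eq_zero_iff k p m).1 h0), fun x hx h hh c hc hcent he => Units.ext ?_⟩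
    have hcL := central_mem_scalarsOf hc hcent
    have h1 := key x hx h hh c hc hcent he hcL
    have : CharP L p := charP_of_injective_algebraMap (algebraMap k L).injective p
    have h2 : ((⟨c.1, hcL⟩ : L) ^ m - 1) ^ p ^ e = 0 := by
      rw [sub_pow_char_pow, one_pow, ← pow_mul, mul_comm, ← hnm, h1, sub_self]
    have := congrArg Subtype.val (sub_eq_zero.1 (pow_eq_zero_iff (pow_ne_zero _ hp0) |>.1 h2))
    simpa using this

theorem tt_pow {x : M →ₗ[k] M} (hx : x * x = 0) (n : ℕ) : tt x ^ n = tt ((n : k) • x) := by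
  induction n with
  | zero => rw [pow_zero, Nat.cast_zero, zero_smul, tt_zero]
  | succ n ih =>
    rw [pow_succ, ih, Nat.cast_succ, add_smul, one_smul,
      tt_add (smul_sq hx _) hx (by rw [smul_mul_assoc, hx, smul_zero]) (by rw [mul_smul_comm, hx, smul_zero])]

/-- Every family lies in `H` or centralizes it. -/
theorem mem_or_centralizes [FiniteDimensional k M] (h2 : (2 : k) ≠ 0) (hirr : Cfsg.IsIrreducibleFor G)
    (hHG : H ≤ G) (hperf : ⁅H, H⁆ = H)
    (hsup : H ⊔ (G ⊓ Subgroup.centralizer (H : Set (LinearMap.GeneralLinearGroup k M))) = G)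
    {x : M →ₗ[k] M} (hx : Fam G x) :
    tt x ∈ H ∨ tt x ∈ Subgroup.centralizer (H : Set (LinearMap.GeneralLinearGroup k M)) := by
  by_cases hcx : tt x ∈ Subgroup.centralizer (H : Set (LinearMap.GeneralLinearGroup k M))
  · exact Or.inr hcx
  refine Or.inl ?_
  set C := G ⊓ Subgroup.centralizer (H : Set (LinearMap.GeneralLinearGroup k M))
  have hHC : C ≤ Subgroup.centralizer (H : Set (LinearMap.GeneralLinearGroup k M)) := inf_le_right
  obtain ⟨m, hm, hpow⟩ := exists_pow_eq_one hirr hHG hperf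
  -- the central part of the `m`-th root
  set y := ((m : k)⁻¹) • x with hy
  have hyfam : Fam G y := hx.smul _
  have hxy : tt x = tt y ^ m := by rw [tt_pow hyfam.1, hy, smul_smul, mul_inv_cancel₀ hm, one_smul]
  obtain ⟨a, ha, b, hb, e⟩ := exists_mul_of_mem_sup hHC (hsup.symm ▸ hyfam.tt_mem)
  have hab : b * a = a * b := (Subgroup.mem_centralizer_iff.1 (hHC hb) a ha).symm
  rcases central_or_central h2 hirr hHC hsup.ge ha hb (by
    rw [← Units.val_mul, ← e, tt_val hyfam.1, add_sub_cancel_left]; exact hyfam.1) with h | h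
  · refine absurd ?_ hcx
    rw [hxy]
    refine pow_mem ?_ m
    rw [Subgroup.mem_centralizer_iff]
    intro u hu
    rw [e, ← mul_assoc, h u hu, mul_assoc, Subgroup.mem_centralizer_iff.1 (hHC hb) u hu, ← mul_assoc]
  · have hbc : ∀ g ∈ G, g * b = b * g := by
      intro g hg
      obtain ⟨u, hu, v, hv, rfl⟩ := exists_mul_of_mem_sup hHC (hsup.symm ▸ hg)
      rw [mul_assoc, h v hv, ← mul_assoc, Subgroup.mem_centralizer_iff.1 (hHC hb) u hu, mul_assoc]
    have hbm := hpow y hyfam a ha b hb.1 hbc e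
    rw [hxy, e, (show Commute a b from hab.symm).mul_pow, hbm, mul_one]
    exact pow_mem ha m

end CfsgLib.Quadratic
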